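import Mathlib
import Groth.Prelude.Def_PolLaw

/-!
# Coefficients of polynomial laws
-/

open scoped TensorProduct

namespace Groth.Agent.ZC

universe u

variable {A : Type u} [CommRing A] {M N P : Type u} [AddCommGroup M] [Module A M] [AddCommGroup N] [Module A N]
  [AddCommGroup P] [Module A P] {ι κ : Type} [Fintype ι] [Fintype κ]

/-- The value at the generic element of a family. -/
noncomputable def gen (F : M →ₚₗ[A] N) (b : ι → M) : MvPolynomial ι A ⊗[A] N :=
  F.toFun' (MvPolynomial ι A) (∑ i, MvPolynomial.X i ⊗ₜ[A] b i)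

/-- The coefficients of a law at a family. -/
noncomputable def coeff (F : M →ₚₗ[A] N) (b : ι → M) : (ι →₀ ℕ) →₀ N :=
  TensorProduct.equivFinsuppOfBasisLeft (MvPolynomial.basisMonomials ι A) (gen F b)

/-- A linear functional on polynomials evaluated on the generic value. -/
noncomputable def app (L : MvPolynomial ι A →ₗ[A] A) (F : M →ₚₗ[A] N) (b : ι → M) : N :=
  TensorProduct.lid A N (L.rTensor N (gen F b))

theorem gen_eq_sum (F : M →ₚₗ[A] N) (b : ι → M) :
    gen F b = (coeff F b).sum fun ν c => MvPolynomial.monomial ν (1 : A) ⊗ₜ[A] c := by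
  conv_lhs => rw [← (TensorProduct.equivFinsuppOfBasisLeft (MvPolynomial.basisMonomials ι A)).symm_apply_apply
    (gen F b), TensorProduct.equivFinsuppOfBasisLeft_symm_apply]
  simp [coeff]

theorem rTensor_gen {S : Type u} [CommSemiring S] [Algebra A S] (F : M →ₚₗ[A] N) (b : ι → M)
    (φ : MvPolynomial ι A →ₐ[A] S) :
    φ.toLinearMap.rTensor N (gen F b) = F.toFun' S (∑ i, φ (MvPolynomial.X i) ⊗ₜ[A] b i) := by
  rw [gen, PolynomialLaw.isCompat_apply', map_sum]
  simp [LinearMap.rTensor_tmul]

/-- The value of a law at a finite sum in terms of the generic value. -/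
theorem toFun_sum {S : Type u} [CommSemiring S] [Algebra A S] (F : M →ₚₗ[A] N) (b : ι → M) (s : ι → S) :
    F.toFun' S (∑ i, s i ⊗ₜ[A] b i) = (MvPolynomial.aeval s).toLinearMap.rTensor N (gen F b) := by
  rw [rTensor_gen]
  simp

theorem toFun_sum' {S : Type u} [CommSemiring S] [Algebra A S] (F : M →ₚₗ[A] N) (b : ι → M) (s : ι → S) :
    F.toFun' S (∑ i, s i ⊗ₜ[A] b i) =
      (coeff F b).sum fun ν c => MvPolynomial.aeval s (MvPolynomial.monomial ν (1 : A)) ⊗ₜ[A] c := by
  rw [toFun_sum, gen_eq_sum, map_finsuppSum]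
  simp [LinearMap.rTensor_tmul]

theorem exists_sum {S : Type u} [CommSemiring S] [Algebra A S] (x : S ⊗[A] M) :
    ∃ (n : ℕ) (s : Fin n → S) (b : Fin n → M), x = ∑ i, s i ⊗ₜ[A] b i := by
  induction x using TensorProduct.induction_on with
  | zero => exact ⟨0, 0, 0, by simp⟩
  | tmul s m => exact ⟨1, fun _ => s, fun _ => m, by simp⟩
  | add x y hx hy =>
    obtain ⟨n, s, b, rfl⟩ := hx
    obtain ⟨m, t, c, rfl⟩ := hy
    refine ⟨n + m, Fin.append s t, Fin.append b c, ?_⟩
    rw [Fin.sum_univ_add]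
    simp

/-- Laws are determined by their generic values. -/
theorem ext_gen {F G : M →ₚₗ[A] N} (h : ∀ (n : ℕ) (b : Fin n → M), gen F b = gen G b) : F = G := by
  refine PolynomialLaw.ext ?_
  funext S _ _ x
  obtain ⟨n, s, b, rfl⟩ := exists_sum x
  rw [toFun_sum, toFun_sum, h]

theorem app_eq_sum (L : MvPolynomial ι A →ₗ[A] A) (F : M →ₚₗ[A] N) (b : ι → M) :
    app L F b = (coeff F b).sum fun ν c => L (MvPolynomial.monomial ν 1) • c := by
  rw [app, gen_eq_sum, map_finsuppSum, map_finsuppSum]
  simp [LinearMap.rTensor_tmul]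

/-- The functional picking out a monomial. -/
noncomputable def lmon (ν : ι →₀ ℕ) : MvPolynomial ι A →ₗ[A] A :=
  (MvPolynomial.basisMonomials ι A).coord ν

theorem lmon_monomial (ν μ : ι →₀ ℕ) [Decidable (μ = ν)] :
    lmon (A := A) ν (MvPolynomial.monomial μ 1) = if μ = ν then 1 else 0 := by
  have h : (MvPolynomial.basisMonomials ι A) μ = MvPolynomial.monomial μ 1 := by simp
  rw [lmon, ← h, Module.Basis.coord_apply, Module.Basis.repr_self, Finsupp.single_apply]

theorem app_lmon (ν : ι →₀ ℕ) (F : M →ₚₗ[A] N) (b : ι → M) : app (lmon ν) F b = coeff F b ν := by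
  classical
  rw [app_eq_sum, Finsupp.sum_eq_single ν]
  · rw [lmon_monomial, if_pos rfl, one_smul]
  · intro μ _ h; rw [lmon_monomial, if_neg h, zero_smul]
  · intro _; simp

theorem coeff_eq_zero_iff {F : M →ₚₗ[A] N} {b : ι → M} : gen F b = 0 ↔ ∀ ν, coeff F b ν = 0 := by
  refine ⟨fun h ν => by rw [coeff, h, map_zero]; rfl, fun h => ?_⟩
  exact (LinearEquiv.map_eq_zero_iff _).1 (Finsupp.ext h : coeff F b = 0)

theorem gen_postcomp (g : N →ₗ[A] P) (F : M →ₚₗ[A] N) (b : ι → M) :
    gen (PolLaw.postcomp g F) b = g.lTensor _ (gen F b) := rfl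

theorem app_postcomp (L : MvPolynomial ι A →ₗ[A] A) (g : N →ₗ[A] P) (F : M →ₚₗ[A] N) (b : ι → M) :
    app L (PolLaw.postcomp g F) b = g (app L F b) := by
  rw [app_eq_sum L F, app, gen_postcomp, gen_eq_sum, map_finsuppSum, map_finsuppSum, map_finsuppSum,
    map_finsuppSum]
  simp [LinearMap.rTensor_tmul, LinearMap.lTensor_tmul]

theorem coeff_postcomp (g : N →ₗ[A] P) (F : M →ₚₗ[A] N) (b : ι → M) (ν : ι →₀ ℕ) :
    coeff (PolLaw.postcomp g F) b ν = g (coeff F b ν) := by
  rw [← app_lmon, ← app_lmon, app_postcomp]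

theorem gen_precomp (F : N →ₚₗ[A] P) (g : M →ₗ[A] N) (b : ι → M) :
    gen (PolLaw.precomp F g) b = gen F (fun i => g (b i)) := by
  show F.toFun' _ (g.lTensor _ (∑ i, MvPolynomial.X i ⊗ₜ[A] b i)) = _
  simp [gen, map_sum, LinearMap.lTensor_tmul]

theorem app_precomp (L : MvPolynomial ι A →ₗ[A] A) (F : N →ₚₗ[A] P) (g : M →ₗ[A] N) (b : ι → M) :
    app L (PolLaw.precomp F g) b = app L F (fun i => g (b i)) := by
  rw [app, app, gen_precomp]

/-- Substitution: the family `b` written in terms of the family `g`. -/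
theorem gen_subst (F : M →ₚₗ[A] N) (g : κ → M) (c : ι → κ → A) :
    gen F (fun i => ∑ j, c i j • g j) =
      (MvPolynomial.aeval fun j => ∑ i, c i j • MvPolynomial.X i).toLinearMap.rTensor N (gen F g) := by
  rw [rTensor_gen, gen]
  congr 1
  simp only [MvPolynomial.aeval_X, TensorProduct.tmul_sum, TensorProduct.sum_tmul]
  rw [Finset.sum_comm]
  exact Finset.sum_congr rfl fun j _ => Finset.sum_congr rfl fun i _ => (TensorProduct.smul_tmul _ _ _).symm

theorem app_subst (L : MvPolynomial ι A →ₗ[A] A) (F : M →ₚₗ[A] N) (g : κ → M) (c : ι → κ → A) :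
    app L F (fun i => ∑ j, c i j • g j) =
      app (L ∘ₗ (MvPolynomial.aeval fun j => ∑ i, c i j • MvPolynomial.X i).toLinearMap) F g := by
  rw [app, app, gen_subst, LinearMap.rTensor_comp, LinearMap.comp_apply]

/-- The value at a reindexed family. -/
theorem app_comp (L : MvPolynomial ι A →ₗ[A] A) (F : M →ₚₗ[A] N) (g : κ → M) (e : ι → κ) :
    app L F (fun i => g (e i)) =
      app (L ∘ₗ (MvPolynomial.aeval fun j => ∑ i, ((Finsupp.single (e i) (1 : A)) j) • MvPolynomial.X i).toLinearMap) F g := by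
  classical
  rw [← app_subst]
  congr 1
  funext i
  rw [Finset.sum_eq_single (e i)] <;> simp +contextual [Finsupp.single_apply, eq_comm]

/-- Evaluation on an element of the base. -/
theorem ground_eq_app (F : M →ₚₗ[A] N) (b : ι → M) (a : ι → A) :
    F.ground (∑ i, a i • b i) = app (MvPolynomial.aeval a).toLinearMap F b := by
  rw [PolynomialLaw.ground_apply, app, ← toFun_sum]
  congr 2
  simp [TensorProduct.tmul_sum, TensorProduct.smul_tmul']

/-- Homogeneous laws have coefficients only in their degree. -/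
theorem coeff_eq_zero_of_degree {F : M →ₚₗ[A] N} {d : ℕ} (hF : PolLaw.IsHomog F d) (b : ι → M) {ν : ι →₀ ℕ}
    (hν : ∑ i, ν i ≠ d) : coeff F b ν = 0 := by
  classical
  let T : MvPolynomial (Option ι) A := MvPolynomial.X none
  let s : ι → MvPolynomial (Option ι) A := fun i => MvPolynomial.X (some i)
  let e₁ : (ι →₀ ℕ) → (Option ι →₀ ℕ) := fun μ =>
    Finsupp.single none (∑ i, μ i) + Finsupp.mapDomain some μ
  let e₂ : (ι →₀ ℕ) → (Option ι →₀ ℕ) := fun μ => Finsupp.single none d + Finsupp.mapDomain some μ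
  have hm : ∀ μ, MvPolynomial.aeval s (MvPolynomial.monomial μ (1 : A)) =
      MvPolynomial.monomial (Finsupp.mapDomain some μ) 1 := fun μ => by
    rw [(MvPolynomial.algHom_ext fun i => by simp [s] : MvPolynomial.aeval s = MvPolynomial.rename some),
      MvPolynomial.rename_monomial]
  have h := hF (MvPolynomial (Option ι) A) T (∑ i, s i ⊗ₜ[A] b i)
  rw [Finset.smul_sum] at h
  simp only [TensorProduct.smul_tmul', smul_eq_mul] at h
  rw [toFun_sum', toFun_sum', Finsupp.smul_sum] at h
  have h1 : ∀ μ, MvPolynomial.aeval (fun i => T * s i) (MvPolynomial.monomial μ (1 : A)) =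
      MvPolynomial.monomial (e₁ μ) 1 := fun μ => by
    rw [MvPolynomial.aeval_monomial, map_one, one_mul,
      Finsupp.prod_fintype _ _ (fun i => pow_zero _)]
    simp only [mul_pow, Finset.prod_mul_distrib, Finset.prod_pow_eq_pow_sum]
    have := hm μ
    rw [MvPolynomial.aeval_monomial, map_one, one_mul, Finsupp.prod_fintype _ _ (fun i => pow_zero _)] at this
    rw [this, MvPolynomial.X_pow_eq_monomial, MvPolynomial.monomial_mul, one_mul]
  simp only [h1, hm, TensorProduct.smul_tmul', smul_eq_mul, T, MvPolynomial.X_pow_eq_monomial,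
    MvPolynomial.monomial_mul, one_mul] at h
  have h2 := congrArg (fun z => TensorProduct.equivFinsuppOfBasisLeft
    (MvPolynomial.basisMonomials (Option ι) A) z (e₁ ν)) h
  simp only [map_finsuppSum, Finsupp.sum_apply] at h2
  have hb : ∀ (m : Option ι →₀ ℕ) (c : N), TensorProduct.equivFinsuppOfBasisLeft
      (MvPolynomial.basisMonomials (Option ι) A) (MvPolynomial.monomial m (1 : A) ⊗ₜ[A] c) (e₁ ν) =
      if m = e₁ ν then c else 0 := fun m c => by
    have hm' : (MvPolynomial.basisMonomials (Option ι) A) m = MvPolynomial.monomial m 1 := by simp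
    rw [TensorProduct.equivFinsuppOfBasisLeft_apply_tmul_apply, ← hm', Module.Basis.repr_self,
      Finsupp.single_apply, ite_smul, one_smul, zero_smul]
  have hsome : ∀ (μ : ι →₀ ℕ) i, Finsupp.mapDomain some μ (some i) = μ i := fun μ i =>
    Finsupp.mapDomain_apply (Option.some_injective _) μ i
  simp only [hb] at h2
  rw [Finsupp.sum_eq_single ν, Finsupp.sum_eq_single ν] at h2
  · rw [if_pos rfl, if_neg] at h2
    · exact h2
    · intro he
      have := DFunLike.congr_fun he none
      simp [e₁, Finsupp.mapDomain_notin_range _ _ (by simp : none ∉ Set.range (some : ι → Option ι))] at this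
      exact hν this.symm
  · intro μ _ hne
    refine if_neg fun he => hne (Finsupp.ext fun i => ?_)
    have := DFunLike.congr_fun he (some i)
    simpa [e₁, hsome] using this
  · intro _; simp
  · intro μ _ hne
    refine if_neg fun he => hne (Finsupp.ext fun i => ?_)
    have := DFunLike.congr_fun he (some i)
    simpa [e₁, hsome] using this
  · intro _; simp

end Groth.Agent.ZC
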