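import Mathlib
import Groth.Agent.ZC.Coeff

/-!
# The span of the coefficients of a multiplicative law
-/

open scoped TensorProduct

namespace Groth.Agent.ZC

universe u

variable {A : Type u} [CommRing A] {M N : Type u} [AddCommGroup M] [Module A M] [AddCommGroup N] [Module A N]

/-- The span of all coefficients of a law. -/
noncomputable def coeffSpan (F : M →ₚₗ[A] N) : Submodule A N :=
  Submodule.span A {c | ∃ (n : ℕ) (b : Fin n → M) (ν : Fin n →₀ ℕ), coeff F b ν = c}

theorem app_mem_coeffSpan {ι : Type} [Fintype ι] (L : MvPolynomial ι A →ₗ[A] A) (F : M →ₚₗ[A] N) (b : ι → M) :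
    app L F b ∈ coeffSpan F := by
  classical
  have key : app L F b = app L F (fun i => (b ∘ (Fintype.equivFin ι).symm) (Fintype.equivFin ι i)) := by
    congr 1; funext i; simp
  rw [key, app_comp, app_eq_sum]
  exact Submodule.sum_mem _ fun ν _ => Submodule.smul_mem _ _ (Submodule.subset_span ⟨_, _, ν, rfl⟩)

theorem ground_mem_coeffSpan (F : M →ₚₗ[A] N) (x : M) : F.ground x ∈ coeffSpan F := by
  have h := ground_eq_app F (fun _ : Fin 1 => x) (fun _ => 1)
  simp only [Finset.univ_unique, Finset.sum_singleton, one_smul] at h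
  rw [h]
  exact app_mem_coeffSpan _ _ _

theorem coeffSpan_postcomp {P : Type u} [AddCommGroup P] [Module A P] (g : N →ₗ[A] P) (F : M →ₚₗ[A] N) :
    coeffSpan (PolLaw.postcomp g F) = (coeffSpan F).map g := by
  rw [coeffSpan, coeffSpan, Submodule.map_span]
  congr 1
  ext c
  constructor
  · rintro ⟨n, b, ν, rfl⟩; exact ⟨_, ⟨n, b, ν, rfl⟩, (coeff_postcomp g F b ν).symm⟩
  · rintro ⟨_, ⟨n, b, ν, rfl⟩, rfl⟩; exact ⟨n, b, ν, coeff_postcomp g F b ν⟩

/-- Pulling a law back along a surjection does not change the span. -/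
theorem coeffSpan_precomp_of_surjective {P : Type u} [AddCommGroup P] [Module A P] (F : N →ₚₗ[A] P)
    (g : M →ₗ[A] N) (hg : Function.Surjective g) : coeffSpan (PolLaw.precomp F g) = coeffSpan F := by
  rw [coeffSpan, coeffSpan]
  congr 1
  ext c
  constructor
  · rintro ⟨n, b, ν, rfl⟩
    exact ⟨n, fun i => g (b i), ν, by rw [← app_lmon, ← app_lmon, app_precomp]⟩
  · rintro ⟨n, b, ν, rfl⟩
    choose b' hb' using fun i => hg (b i)
    exact ⟨n, b', ν, by rw [← app_lmon, ← app_lmon, app_precomp, show (fun i => g (b' i)) = b from funext hb']⟩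

variable {B C : Type u} [CommRing B] [Algebra A B] [CommRing C] [Algebra A C]

/-- The functional expressing a product of coefficients as a coefficient of the product family. -/
noncomputable def mulFun {ι κ : Type} (ν : ι →₀ ℕ) (μ : κ →₀ ℕ) : MvPolynomial (ι × κ) A →ₗ[A] A :=
  lmon (Finsupp.sumElim ν μ) ∘ₗ (MvPolynomial.aeval fun x : ι × κ =>
    (MvPolynomial.X (Sum.inl x.1) * MvPolynomial.X (Sum.inr x.2) : MvPolynomial (ι ⊕ κ) A)).toLinearMap

/-- The product of two coefficients of a multiplicative law. -/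
theorem coeff_mul_coeff_eq {F : B →ₚₗ[A] C} (hF : PolLaw.IsMult F) {ι κ : Type} [Fintype ι] [Fintype κ]
    (b : ι → B) (c : κ → B) (ν : ι →₀ ℕ) (μ : κ →₀ ℕ) :
    coeff F b ν * coeff F c μ = app (mulFun ν μ) F (fun x => b x.1 * c x.2) := by
  classical
  let S := MvPolynomial (ι ⊕ κ) A
  let s : ι → S := fun i => MvPolynomial.X (Sum.inl i)
  let t : κ → S := fun i => MvPolynomial.X (Sum.inr i)
  let st : ι × κ → S := fun x => s x.1 * t x.2
  show _ = app (lmon (Finsupp.sumElim ν μ) ∘ₗ (MvPolynomial.aeval st).toLinearMap) F _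
  have hx : (∑ i, s i ⊗ₜ[A] b i) * (∑ j, t j ⊗ₜ[A] c j) = ∑ x : ι × κ, st x ⊗ₜ[A] (b x.1 * c x.2) := by
    rw [Finset.sum_mul_sum, ← Finset.sum_product']
    simp [Algebra.TensorProduct.tmul_mul_tmul, st]
  have h := (hF S).2 (∑ i, s i ⊗ₜ[A] b i) (∑ j, t j ⊗ₜ[A] c j)
  rw [hx, toFun_sum] at h
  rw [app, LinearMap.rTensor_comp, LinearMap.comp_apply, h, toFun_sum', toFun_sum', Finsupp.sum_mul,
    map_finsuppSum, map_finsuppSum]
  have hmon : ∀ (α : ι →₀ ℕ) (β : κ →₀ ℕ),
      MvPolynomial.aeval s (MvPolynomial.monomial α (1 : A)) * MvPolynomial.aeval t (MvPolynomial.monomial β (1 : A)) =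
        MvPolynomial.monomial (Finsupp.sumElim α β) 1 := fun α β => by
    rw [(MvPolynomial.algHom_ext fun i => by simp [s, S] : MvPolynomial.aeval s = MvPolynomial.rename Sum.inl),
      (MvPolynomial.algHom_ext fun i => by simp [t, S] : MvPolynomial.aeval t = MvPolynomial.rename Sum.inr),
      MvPolynomial.rename_monomial, MvPolynomial.rename_monomial, MvPolynomial.monomial_mul, one_mul]
    congr 1
    congr 1
    ext (i | i) <;> simp [Finsupp.mapDomain_apply Sum.inl_injective, Finsupp.mapDomain_apply Sum.inr_injective,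
      Finsupp.mapDomain_notin_range]
  simp only [Finsupp.mul_sum, map_finsuppSum, Algebra.TensorProduct.tmul_mul_tmul, hmon,
    LinearMap.rTensor_tmul, TensorProduct.lid_tmul, lmon_monomial]
  rw [Finsupp.sum_eq_single ν, Finsupp.sum_eq_single μ]
  · rw [if_pos rfl, one_smul]
  · intro β _ hne
    rw [if_neg fun he => hne (Finsupp.ext fun i => by simpa using DFunLike.congr_fun he (Sum.inr i)), zero_smul]
  · intro _; simp
  · intro α _ hne
    refine Finset.sum_eq_zero fun β _ => ?_
    beta_reduce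
    rw [if_neg fun he => hne (Finsupp.ext fun i => by simpa using DFunLike.congr_fun he (Sum.inl i)), zero_smul]
  · intro _; simp

theorem coeff_mul_coeff {F : B →ₚₗ[A] C} (hF : PolLaw.IsMult F) {ι κ : Type} [Fintype ι] [Fintype κ]
    (b : ι → B) (c : κ → B) (ν : ι →₀ ℕ) (μ : κ →₀ ℕ) :
    ∃ L : MvPolynomial (ι × κ) A →ₗ[A] A,
      coeff F b ν * coeff F c μ = app L F (fun x => b x.1 * c x.2) :=
  ⟨_, coeff_mul_coeff_eq hF b c ν μ⟩

theorem mul_mem_coeffSpan {F : B →ₚₗ[A] C} (hF : PolLaw.IsMult F) {x y : C} (hx : x ∈ coeffSpan F)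
    (hy : y ∈ coeffSpan F) : x * y ∈ coeffSpan F := by
  induction hx using Submodule.span_induction with
  | zero => simp
  | add p q _ _ hp hq => rw [add_mul]; exact add_mem hp hq
  | smul a p _ hp => rw [smul_mul_assoc]; exact Submodule.smul_mem _ a hp
  | mem p hp =>
    induction hy using Submodule.span_induction with
    | zero => simp
    | add p' q' _ _ hp' hq' => rw [mul_add]; exact add_mem hp' hq'
    | smul a p' _ hp' => rw [mul_smul_comm]; exact Submodule.smul_mem _ a hp'
    | mem q hq =>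
      obtain ⟨n, b, ν, rfl⟩ := hp
      obtain ⟨m, c, μ, rfl⟩ := hq
      obtain ⟨L, hL⟩ := coeff_mul_coeff hF b c ν μ
      rw [hL]
      exact app_mem_coeffSpan _ _ _

theorem ground_one {F : B →ₚₗ[A] C} (hF : PolLaw.IsMult F) : F.ground 1 = 1 := by
  rw [PolynomialLaw.ground_apply]
  rw [show ((1 : A) ⊗ₜ[A] (1 : B)) = 1 from rfl, (hF A).1, Algebra.TensorProduct.one_def, TensorProduct.lid_tmul,
    one_smul]

/-- The coefficients of a multiplicative law span a subalgebra. -/
noncomputable def coeffAlg {F : B →ₚₗ[A] C} (hF : PolLaw.IsMult F) : Subalgebra A C :=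
  (coeffSpan F).toSubalgebra (ground_one hF ▸ ground_mem_coeffSpan F 1) fun _ _ hx hy =>
    mul_mem_coeffSpan hF hx hy

theorem mem_coeffAlg {F : B →ₚₗ[A] C} (hF : PolLaw.IsMult F) {x : C} :
    x ∈ coeffAlg hF ↔ x ∈ coeffSpan F := Iff.rfl

theorem postcomp_ext {C' : Type u} [CommRing C'] [Algebra A C'] {F : B →ₚₗ[A] C} {f g : C →ₗ[A] C'}
    (h : PolLaw.postcomp f F = PolLaw.postcomp g F) {x : C} (hx : x ∈ coeffSpan F) : f x = g x := by
  induction hx using Submodule.span_induction with
  | zero => simp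
  | add p q _ _ hp hq => rw [map_add, map_add, hp, hq]
  | smul a p _ hp => rw [map_smul, map_smul, hp]
  | mem p hp =>
    obtain ⟨n, b, ν, rfl⟩ := hp
    rw [← coeff_postcomp f, ← coeff_postcomp g, h]

end Groth.Agent.ZC
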