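import Mathlib
import Groth.Agent.ZC.Span
import Groth.Agent.S13174

/-!
# Laws are controlled by polynomial test algebras
-/

open scoped TensorProduct

namespace Groth.Agent.ZC

universe u v w

variable {A : Type u} [CommRing A] {M : Type v} [AddCommGroup M] [Module A M] {N : Type w} [AddCommGroup N]
  [Module A N] {S : Type u} [CommSemiring S] [Algebra A S]

theorem exists_sum' (x : S ⊗[A] M) : ∃ (n : ℕ) (s : Fin n → S) (b : Fin n → M), x = ∑ i, s i ⊗ₜ[A] b i := by
  induction x using TensorProduct.induction_on with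
  | zero => exact ⟨0, 0, 0, by simp⟩
  | tmul s m => exact ⟨1, fun _ => s, fun _ => m, by simp⟩
  | add x y hx hy =>
    obtain ⟨n, s, b, rfl⟩ := hx
    obtain ⟨m, t, c, rfl⟩ := hy
    refine ⟨n + m, Fin.append s t, Fin.append b c, ?_⟩
    rw [Fin.sum_univ_add]
    simp

/-- Two elements and a scalar come from one polynomial algebra. -/
theorem exists_lift₂ (x y : S ⊗[A] M) (s : S) :
    ∃ (n : ℕ) (ψ : MvPolynomial (Fin n) A →ₐ[A] S) (p q : MvPolynomial (Fin n) A ⊗[A] M) (r : MvPolynomial (Fin n) A),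
      ψ.toLinearMap.rTensor M p = x ∧ ψ.toLinearMap.rTensor M q = y ∧ ψ r = s := by
  obtain ⟨n, a, b, rfl⟩ := exists_sum' x
  obtain ⟨m, t, c, rfl⟩ := exists_sum' y
  refine ⟨n + m + 1, MvPolynomial.aeval (Fin.snoc (Fin.append a t) s),
    ∑ i, MvPolynomial.X (Fin.castSucc (Fin.castAdd m i)) ⊗ₜ[A] b i,
    ∑ i, MvPolynomial.X (Fin.castSucc (Fin.natAdd n i)) ⊗ₜ[A] c i, MvPolynomial.X (Fin.last _), ?_, ?_, ?_⟩
  · simp [LinearMap.rTensor_tmul]
  · simp only [map_sum, LinearMap.rTensor_tmul, AlgHom.toLinearMap_apply, MvPolynomial.aeval_X,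
      Fin.snoc_castSucc, Fin.append_right]
  · simp

/-- A multiplicative identity for a law need only be checked on polynomial algebras. -/
theorem mult_of_poly {B C : Type*} [CommRing B] [Algebra A B] [CommRing C] [Algebra A C] (F : B →ₚₗ[A] C)
    (h1 : ∀ n : ℕ, F.toFun' (MvPolynomial (Fin n) A) 1 = 1)
    (hmul : ∀ (n : ℕ) (x y : MvPolynomial (Fin n) A ⊗[A] B),
      F.toFun' (MvPolynomial (Fin n) A) (x * y) = F.toFun' (MvPolynomial (Fin n) A) x * F.toFun' (MvPolynomial (Fin n) A) y)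
    (S : Type u) [CommSemiring S] [Algebra A S] :
    F.toFun' S 1 = 1 ∧ ∀ x y : S ⊗[A] B, F.toFun' S (x * y) = F.toFun' S x * F.toFun' S y := by
  have hB : ∀ {R : Type u} [CommSemiring R] [Algebra A R] (φ : R →ₐ[A] S) (z : R ⊗[A] B),
      φ.toLinearMap.rTensor B z = Algebra.TensorProduct.map φ (AlgHom.id A B) z := fun φ z => by
    induction z using TensorProduct.induction_on with
    | zero => simp
    | tmul a b => rfl
    | add a b ha hb => rw [map_add, map_add, ha, hb]
  have hC : ∀ {R : Type u} [CommSemiring R] [Algebra A R] (φ : R →ₐ[A] S) (z : R ⊗[A] C),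
      φ.toLinearMap.rTensor C z = Algebra.TensorProduct.map φ (AlgHom.id A C) z := fun φ z => by
    induction z using TensorProduct.induction_on with
    | zero => simp
    | tmul a b => rfl
    | add a b ha hb => rw [map_add, map_add, ha, hb]
  refine ⟨?_, fun x y => ?_⟩
  · have h := PolynomialLaw.isCompat_apply' (f := F) (MvPolynomial.aeval (Fin.elim0 : Fin 0 → S)) 1
    rw [h1, hB, hC, map_one, map_one] at h
    exact h.symm
  · obtain ⟨n, ψ, p, q, -, rfl, rfl, -⟩ := exists_lift₂ x y 0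
    simp only [hB]
    rw [← map_mul, ← hB ψ (p * q), ← hB ψ p, ← hB ψ q, ← PolynomialLaw.isCompat_apply',
      ← PolynomialLaw.isCompat_apply', ← PolynomialLaw.isCompat_apply', hmul, hC, hC, hC, map_mul]

section

variable {M₁ N₁ N₀ : Type u} [AddCommGroup M₁] [Module A M₁] [AddCommGroup N₁] [Module A N₁] [AddCommGroup N₀]
  [Module A N₀]

omit [AddCommGroup N] [Module A N] in
theorem lTensor_poly_injective (j : N₀ →ₗ[A] N₁) (hj : Function.Injective j) (n : ℕ) :
    Function.Injective (j.lTensor (MvPolynomial (Fin n) A)) :=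
  Module.Flat.lTensor_preserves_injective_linearMap j hj

/-- A law whose coefficients lie in the image of an injective linear map factors through it. -/
theorem exists_factor (F : M₁ →ₚₗ[A] N₁) (j : N₀ →ₗ[A] N₁) (hj : Function.Injective j)
    (hF : ∀ c ∈ coeffSpan F, c ∈ LinearMap.range j) : ∃ F₀ : M₁ →ₚₗ[A] N₀, PolLaw.postcomp j F₀ = F := by
  classical
  have hmem : ∀ (n : ℕ) (x : MvPolynomial (Fin n) A ⊗[A] M₁),
      F.toFun' _ x ∈ LinearMap.range (j.lTensor (MvPolynomial (Fin n) A)) := fun n x => by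
    obtain ⟨m, s, b, rfl⟩ := exists_sum x
    rw [toFun_sum']
    refine Submodule.sum_mem _ fun ν _ => ?_
    obtain ⟨c, hc⟩ := hF (coeff F b ν) (Submodule.subset_span ⟨m, b, ν, rfl⟩)
    exact ⟨MvPolynomial.aeval s (MvPolynomial.monomial ν 1) ⊗ₜ c, (LinearMap.lTensor_tmul _ _ _ _).trans (congrArg _ hc)⟩
  choose T hT using hmem
  have hnat : ∀ (n m : ℕ) (φ : MvPolynomial (Fin n) A →ₐ[A] MvPolynomial (Fin m) A),
      φ.toLinearMap.rTensor N₀ ∘ T n = T m ∘ φ.toLinearMap.rTensor M₁ := fun n m φ => funext fun x => by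
    apply lTensor_poly_injective j hj m
    rw [Function.comp_apply, Function.comp_apply, hT, ← PolynomialLaw.isCompat_apply', ← hT n x,
      ← LinearMap.comp_apply, ← LinearMap.comp_apply, LinearMap.lTensor_comp_rTensor,
      LinearMap.rTensor_comp_lTensor]
  obtain ⟨F₀, hF₀⟩ := (Groth.Agent.S13174.result (M := M₁) (N := N₀)).surjective ⟨T, hnat⟩
  refine ⟨F₀, (Groth.Agent.S13174.result (M := M₁) (N := N₁)).injective (Subtype.ext (funext fun n => funext fun x => ?_))⟩
  have h := congrFun (congrFun (congrArg Subtype.val hF₀) n) x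
  show j.lTensor _ (F₀.toFun' _ x) = F.toFun' _ x
  exact (congrArg _ h).trans (hT n x)

theorem isHomog_of_postcomp {F₀ : M₁ →ₚₗ[A] N₀} {j : N₀ →ₗ[A] N₁} (hj : Function.Injective j) {d : ℕ}
    (h : PolLaw.IsHomog (PolLaw.postcomp j F₀) d) : PolLaw.IsHomog F₀ d := by
  intro S _ _ s x
  obtain ⟨n, ψ, p, -, r, rfl, -, rfl⟩ := exists_lift₂ x x s
  have key : F₀.toFun' _ (r • p) = r ^ d • F₀.toFun' _ p := by
    apply lTensor_poly_injective j hj n
    have h' := h (MvPolynomial (Fin n) A) r p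
    refine h'.trans ?_
    exact ((j.baseChange (MvPolynomial (Fin n) A)).map_smul (r ^ d) (F₀.toFun' _ p)).symm
  have hs : ∀ {P : Type u} [AddCommGroup P] [Module A P] (c : MvPolynomial (Fin n) A)
      (z : MvPolynomial (Fin n) A ⊗[A] P), ψ.toLinearMap.rTensor P (c • z) = ψ c • ψ.toLinearMap.rTensor P z :=
    fun c z => by
    induction z using TensorProduct.induction_on with
    | zero => simp
    | tmul a b => simp [LinearMap.rTensor_tmul, TensorProduct.smul_tmul']
    | add a b ha hb => rw [smul_add, map_add, map_add, ha, hb, smul_add]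
  rw [← hs, ← PolynomialLaw.isCompat_apply', key, hs, map_pow, PolynomialLaw.isCompat_apply']

variable {B C C₀ : Type u} [CommRing B] [Algebra A B] [CommRing C] [Algebra A C] [CommRing C₀] [Algebra A C₀]

theorem isMult_of_postcomp {F₀ : B →ₚₗ[A] C₀} {f : C₀ →ₐ[A] C} (hf : Function.Injective f)
    (h : PolLaw.IsMult (PolLaw.postcomp f.toLinearMap F₀)) : PolLaw.IsMult F₀ := fun S _ _ => by
  refine mult_of_poly F₀ (fun n => ?_) (fun n x y => ?_) S
  · apply lTensor_poly_injective f.toLinearMap hf n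
    refine (h _).1.trans ?_
    rw [PolLaw.lTensor_algHom_apply, map_one]
  · apply lTensor_poly_injective f.toLinearMap hf n
    refine ((h _).2 x y).trans ?_
    show f.toLinearMap.lTensor _ (F₀.toFun' _ x) * f.toLinearMap.lTensor _ (F₀.toFun' _ y) = _
    simp only [PolLaw.lTensor_algHom_apply, map_mul]

/-- A multiplicative law with coefficients in a subalgebra restricts to it. -/
theorem exists_mulLaw_factor {d : ℕ} (F : PolLaw.MulLaw A B C d) (f : C₀ →ₐ[A] C) (hf : Function.Injective f)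
    (hF : ∀ c ∈ coeffSpan F.law, c ∈ f.range) :
    ∃ F₀ : PolLaw.MulLaw A B C₀ d, F₀.postcomp f = F := by
  obtain ⟨F₀, h⟩ := exists_factor F.law f.toLinearMap hf fun c hc => by
    obtain ⟨z, hz⟩ := hF c hc
    exact ⟨z, hz⟩
  exact ⟨⟨F₀, isHomog_of_postcomp hf (h.symm ▸ F.homog), isMult_of_postcomp hf (h.symm ▸ F.mult)⟩,
    PolLaw.MulLaw.ext h⟩

theorem coeffSpan_eq_top {d : ℕ} {γ : PolLaw.MulLaw A B C d} (hγ : PolLaw.IsGammaD γ) : coeffSpan γ.law = ⊤ := by
  obtain ⟨γ₀, h⟩ := exists_mulLaw_factor γ (coeffAlg γ.mult).val Subtype.val_injective fun c hc => ⟨⟨c, hc⟩, rfl⟩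
  obtain ⟨g, hg, -⟩ := hγ _ γ₀
  obtain ⟨f, hf, huniq⟩ := hγ _ γ
  have h1 : (coeffAlg γ.mult).val.comp g = f := huniq _ (by
    refine Eq.trans ?_ (congrArg PolLaw.MulLaw.law h)
    show _ = PolLaw.postcomp _ γ₀.law
    rw [← hg]
    refine PolynomialLaw.ext ?_
    funext S _ _ x
    show ((coeffAlg γ.mult).val.comp g).toLinearMap.lTensor S (γ.law.toFun' S x) = _
    rw [AlgHom.comp_toLinearMap, LinearMap.lTensor_comp]
    rfl)
  have h2 : AlgHom.id A C = f := huniq _ (by
    refine PolynomialLaw.ext ?_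
    funext S _ _ x
    show (AlgHom.id A C).toLinearMap.lTensor S (γ.law.toFun' S x) = _
    simp)
  refine eq_top_iff.2 fun c _ => ?_
  have h3 := DFunLike.congr_fun (h1.trans h2.symm) c
  rw [AlgHom.id_apply] at h3
  rw [← h3]
  exact (g c).2

/-- Algebra maps out of `Γ^d` are determined by the universal law. -/
theorem algHom_ext {C' : Type u} [CommRing C'] [Algebra A C'] {d : ℕ} {γ : PolLaw.MulLaw A B C d}
    (hγ : PolLaw.IsGammaD γ) {f g : C →ₐ[A] C'}
    (h : PolLaw.postcomp f.toLinearMap γ.law = PolLaw.postcomp g.toLinearMap γ.law) : f = g :=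
  AlgHom.ext fun _ => postcomp_ext h (coeffSpan_eq_top hγ ▸ Submodule.mem_top)

end

end Groth.Agent.ZC
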