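import Mathlib
import Groth.Agent.ZC.Coeff

/-!
# Polarization of homogeneous laws
-/

open scoped TensorProduct

namespace Groth.Agent.ZC

universe u

variable {A : Type u} [CommRing A] {M N : Type u} [AddCommGroup M] [Module A M] [AddCommGroup N] [Module A N]

/-- Summing a family along a map of indices corresponds to renaming. -/
theorem gen_fiberSum {ι κ : Type} [Fintype ι] [Fintype κ] [DecidableEq ι] (F : M →ₚₗ[A] N) (g : κ → M) (e : κ → ι) :
    gen F (fun i => ∑ j ∈ Finset.univ.filter (fun j => e j = i), g j) =
      (MvPolynomial.rename e).toLinearMap.rTensor N (gen F g) := by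
  rw [rTensor_gen, gen]
  congr 1
  simp only [MvPolynomial.rename_X, TensorProduct.tmul_sum]
  rw [← Finset.sum_fiberwise Finset.univ e]
  refine Finset.sum_congr rfl fun i _ => Finset.sum_congr rfl fun j hj => ?_
  rw [(Finset.mem_filter.1 hj).2]

theorem coeff_fiberSum {ι κ : Type} [Fintype ι] [Fintype κ] [DecidableEq ι] (F : M →ₚₗ[A] N) (g : κ → M) (e : κ → ι)
    (ν : ι →₀ ℕ) :
    coeff F (fun i => ∑ j ∈ Finset.univ.filter (fun j => e j = i), g j) ν =
      (coeff F g).sum fun κ' c => if Finsupp.mapDomain e κ' = ν then c else 0 := by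
  classical
  rw [← app_lmon, app, gen_fiberSum, ← LinearMap.comp_apply (f := LinearMap.rTensor N (lmon ν)),
    ← LinearMap.rTensor_comp]
  show app (lmon ν ∘ₗ (MvPolynomial.rename e).toLinearMap) F g = _
  rw [app_eq_sum]
  refine Finsupp.sum_congr fun κ' _ => ?_
  rw [LinearMap.comp_apply, AlgHom.toLinearMap_apply, MvPolynomial.rename_monomial, lmon_monomial, ite_smul,
    one_smul, zero_smul]

/-- Coefficients of a subfamily. -/
theorem coeff_comp {ι κ : Type} [Fintype ι] [Fintype κ] (F : M →ₚₗ[A] N) (g : κ → M) {e : ι → κ}
    (he : Function.Injective e) (ν : ι →₀ ℕ) :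
    coeff F (fun i => g (e i)) ν = coeff F g (Finsupp.mapDomain e ν) := by
  classical
  rw [← app_lmon, app_comp, app_eq_sum, Finsupp.sum_eq_single (Finsupp.mapDomain e ν)]
  · have h : ∀ i, (∑ x, (Finsupp.single (e x) (1 : A)) (e i) • MvPolynomial.X x : MvPolynomial ι A) =
        MvPolynomial.X i := fun i => by
      rw [Finset.sum_eq_single i] <;> simp +contextual [Finsupp.single_apply, he.eq_iff]
    rw [LinearMap.comp_apply, AlgHom.toLinearMap_apply, ← MvPolynomial.rename_monomial (R := A),
      MvPolynomial.aeval_rename, (MvPolynomial.algHom_ext fun i => by simp [h] :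
        MvPolynomial.aeval ((fun j => ∑ x, (Finsupp.single (e x) (1 : A)) j • MvPolynomial.X x) ∘ e) =
          AlgHom.id A (MvPolynomial ι A)), AlgHom.id_apply, lmon_monomial, if_pos rfl, one_smul]
  · intro κ' _ hne
    rw [LinearMap.comp_apply, AlgHom.toLinearMap_apply, MvPolynomial.aeval_monomial, map_one, one_mul]
    by_cases hsub : ∀ j ∈ κ'.support, j ∈ Set.range e
    · obtain ⟨μ, rfl⟩ : ∃ μ, Finsupp.mapDomain e μ = κ' :=
        ⟨Finsupp.comapDomain e κ' he.injOn, Finsupp.mapDomain_comapDomain _ he _ hsub⟩
      rw [Finsupp.prod_mapDomain_index_inj he]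
      have h : ∀ i, (∑ x, (Finsupp.single (e x) (1 : A)) (e i) • MvPolynomial.X x : MvPolynomial ι A) =
          MvPolynomial.X i := fun i => by
        rw [Finset.sum_eq_single i] <;> simp +contextual [Finsupp.single_apply, he.eq_iff]
      simp only [h]
      rw [show (μ.prod fun i n => (MvPolynomial.X i : MvPolynomial ι A) ^ n) = MvPolynomial.monomial μ 1 by
        rw [MvPolynomial.monomial_eq, map_one, one_mul], lmon_monomial,
        if_neg fun hμ : μ = ν => hne (by rw [hμ]), zero_smul]
    · push Not at hsub
      obtain ⟨j, hj, hje⟩ := hsub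
      rw [Finsupp.prod, Finset.prod_eq_zero hj, map_zero, zero_smul]
      have h0 : (∑ x, (Finsupp.single (e x) (1 : A)) j • MvPolynomial.X x : MvPolynomial ι A) = 0 :=
        Finset.sum_eq_zero fun x _ => by rw [Finsupp.single_eq_of_ne fun h => hje ⟨x, h.symm⟩, zero_smul]
      rw [h0, zero_pow (Finsupp.mem_support_iff.1 hj)]
  · intro _; simp

/-- The exponent `(1, …, 1)`. -/
noncomputable def ones (d : ℕ) : Fin d →₀ ℕ := Finsupp.equivFunOnFinite.symm fun _ => 1

theorem ones_apply {d : ℕ} (i : Fin d) : ones d i = 1 := rfl

theorem coeff_ones_smul (F : M →ₚₗ[A] N) {d : ℕ} (v : Fin d → M) (k : Fin d) (a : A) :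
    coeff F (Function.update v k (a • v k)) (ones d) = a • coeff F v (ones d) := by
  classical
  have h : Function.update v k (a • v k) = fun i => ∑ j, (if i = j then (if i = k then a else 1) else 0) • v j := by
    funext i
    rw [Finset.sum_eq_single i] <;> by_cases hi : i = k <;> simp +contextual [hi, eq_comm]
  rw [h, ← app_lmon, app_subst, app_eq_sum, Finsupp.sum_eq_single (ones d)]
  · rw [LinearMap.comp_apply, AlgHom.toLinearMap_apply, MvPolynomial.aeval_monomial, map_one, one_mul,
      Finsupp.prod_fintype _ _ (fun i => pow_zero _)]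
    simp only [ite_smul, zero_smul, Finset.sum_ite_eq', Finset.mem_univ, if_true, ones_apply, pow_one,
      one_smul]
    rw [show (∏ x, if x = k then a • (MvPolynomial.X x : MvPolynomial (Fin d) A) else MvPolynomial.X x) =
        a • ∏ x, MvPolynomial.X x by
      rw [← Finset.mul_prod_erase Finset.univ _ (Finset.mem_univ k), ← Finset.mul_prod_erase Finset.univ
        (fun x => (MvPolynomial.X x : MvPolynomial (Fin d) A)) (Finset.mem_univ k), if_pos rfl, smul_mul_assoc]
      exact congrArg _ (congrArg _ (Finset.prod_congr rfl fun x hx => if_neg (Finset.ne_of_mem_erase hx)))]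
    rw [map_smul, show (∏ x, (MvPolynomial.X x : MvPolynomial (Fin d) A)) = MvPolynomial.monomial (ones d) 1 by
      rw [MvPolynomial.monomial_eq, map_one, one_mul, Finsupp.prod_fintype _ _ (fun i => pow_zero _)]
      simp [ones_apply], lmon_monomial, if_pos rfl, smul_eq_mul, mul_one]
  · intro μ _ hne
    rw [LinearMap.comp_apply, AlgHom.toLinearMap_apply, MvPolynomial.aeval_monomial, map_one, one_mul,
      Finsupp.prod_fintype _ _ (fun i => pow_zero _)]
    simp only [ite_smul, zero_smul, Finset.sum_ite_eq', Finset.mem_univ, if_true, one_smul]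
    rw [show (∏ x, (if x = k then a • MvPolynomial.X x else (MvPolynomial.X x : MvPolynomial (Fin d) A)) ^ μ x) =
        a ^ μ k • MvPolynomial.monomial μ (1 : A) by
      rw [MvPolynomial.monomial_eq, map_one, one_mul, Finsupp.prod_fintype _ _ (fun i => pow_zero _),
        ← Finset.mul_prod_erase Finset.univ _ (Finset.mem_univ k), ← Finset.mul_prod_erase Finset.univ
          (fun x => (MvPolynomial.X x : MvPolynomial (Fin d) A) ^ μ x) (Finset.mem_univ k),
        if_pos rfl, smul_pow, smul_mul_assoc]
      exact congrArg _ (congrArg _ (Finset.prod_congr rfl fun x hx => by rw [if_neg (Finset.ne_of_mem_erase hx)]))]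
    rw [map_smul, lmon_monomial, if_neg hne, smul_zero, zero_smul]
  · intro _; simp

theorem coeff_ones_add (F : M →ₚₗ[A] N) {d : ℕ} (v : Fin d → M) (k : Fin d) (x y : M) :
    coeff F (Function.update v k (x + y)) (ones d) =
      coeff F (Function.update v k x) (ones d) + coeff F (Function.update v k y) (ones d) := by
  classical
  let g : Option (Fin d) → M := fun o => o.elim y (Function.update v k x)
  let e : Option (Fin d) → Fin d := fun o => o.elim k id
  let e₂ : Fin d → Option (Fin d) := fun i => if i = k then none else some i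
  have he₂ : Function.Injective e₂ := fun i j h => by
    by_cases hi : i = k <;> by_cases hj : j = k <;> simp [e₂, hi, hj] at h ⊢
    exact h
  have hsum : (fun i => ∑ j ∈ Finset.univ.filter (fun j => e j = i), g j) = Function.update v k (x + y) := by
    funext i
    rw [Finset.sum_filter, Fintype.sum_option]
    simp only [e, g, Option.elim, id, Finset.sum_ite_eq', Finset.mem_univ, if_true]
    by_cases hi : i = k
    · subst hi; simp [add_comm]
    · simp [hi, Ne.symm hi]
  have h1 : (fun i => g (some i)) = Function.update v k x := rfl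
  have h2 : (fun i => g (e₂ i)) = Function.update v k y := by
    funext i
    by_cases hi : i = k <;> simp [g, e₂, hi]
  rw [← hsum, coeff_fiberSum, ← h1, ← h2, coeff_comp F g (Option.some_injective _), coeff_comp F g he₂]
  have key : ∀ κ' : Option (Fin d) →₀ ℕ, Finsupp.mapDomain e κ' = ones d ↔
      κ' = Finsupp.mapDomain some (ones d) ∨ κ' = Finsupp.mapDomain e₂ (ones d) := by
    intro κ'
    have hm : ∀ (f : Option (Fin d) →₀ ℕ) i, Finsupp.mapDomain e f i = f (some i) + if i = k then f none else 0 := by
      intro f i
      rw [Finsupp.mapDomain, Finsupp.sum_apply, Finsupp.sum_fintype _ _ (fun _ => by simp), Fintype.sum_option]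
      simp [e, Finsupp.single_apply, add_comm, eq_comm]
    have hs : ∀ i, Finsupp.mapDomain some (ones d) (some i) = 1 := fun i => by
      rw [Finsupp.mapDomain_apply (Option.some_injective _), ones_apply]
    have hs0 : Finsupp.mapDomain some (ones d) none = 0 :=
      Finsupp.mapDomain_notin_range _ _ (by simp)
    have ht : ∀ i, i ≠ k → Finsupp.mapDomain e₂ (ones d) (some i) = 1 := fun i hi => by
      rw [show some i = e₂ i by simp [e₂, hi], Finsupp.mapDomain_apply he₂, ones_apply]
    have ht0 : Finsupp.mapDomain e₂ (ones d) none = 1 := by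
      rw [show (none : Option (Fin d)) = e₂ k by simp [e₂], Finsupp.mapDomain_apply he₂, ones_apply]
    have htk : Finsupp.mapDomain e₂ (ones d) (some k) = 0 :=
      Finsupp.mapDomain_notin_range _ _ (by
        rintro ⟨j, hj⟩
        by_cases hjk : j = k <;> simp [e₂, hjk] at hj)
    constructor
    · intro h
      have hi : ∀ i, κ' (some i) + (if i = k then κ' none else 0) = 1 := fun i => by
        rw [← hm, h, ones_apply]
      have hk := hi k
      rw [if_pos rfl] at hk
      rcases Nat.eq_zero_or_pos (κ' none) with h0 | h0
      · refine Or.inl (Finsupp.ext fun o => ?_)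
        cases o with
        | none => rw [hs0, h0]
        | some i =>
          rw [hs]
          by_cases hik : i = k
          · subst hik; omega
          · simpa [hik] using hi i
      · refine Or.inr (Finsupp.ext fun o => ?_)
        cases o with
        | none => rw [ht0]; omega
        | some i =>
          by_cases hik : i = k
          · subst hik; rw [htk]; omega
          · rw [ht i hik]; simpa [hik] using hi i
    · rintro (rfl | rfl) <;> ext i <;> rw [hm, ones_apply] <;> by_cases hik : i = k
      · subst hik; rw [hs, hs0]; simp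
      · rw [hs]; simp [hik]
      · subst hik; rw [htk, ht0]; simp
      · rw [ht i hik]; simp [hik]
  have hne : Finsupp.mapDomain some (ones d) ≠ Finsupp.mapDomain e₂ (ones d) := fun h => by
    have h' := DFunLike.congr_fun h none
    rw [Finsupp.mapDomain_notin_range _ _ (by simp : none ∉ Set.range (some : Fin d → Option (Fin d))),
      show (none : Option (Fin d)) = e₂ k by simp [e₂], Finsupp.mapDomain_apply he₂, ones_apply] at h'
    exact zero_ne_one h'
  simp only [key]
  rw [Finsupp.sum]
  have hsplit : ∀ κ' : Option (Fin d) →₀ ℕ,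
      (if κ' = Finsupp.mapDomain some (ones d) ∨ κ' = Finsupp.mapDomain e₂ (ones d) then coeff F g κ' else 0) =
      (if κ' = Finsupp.mapDomain some (ones d) then coeff F g κ' else 0) +
        (if κ' = Finsupp.mapDomain e₂ (ones d) then coeff F g κ' else 0) := fun κ' => by
    by_cases a : κ' = Finsupp.mapDomain some (ones d)
    · subst a; simp [hne]
    · simp [a]
  simp only [hsplit, Finset.sum_add_distrib, Finset.sum_ite_eq', Finsupp.mem_support_iff]
  congr 1 <;> split_ifs with h <;> simp_all

/-- The polarization `(v₁, …, v_d) ↦` coefficient of `t₁⋯t_d`. -/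
noncomputable def polar (F : M →ₚₗ[A] N) (d : ℕ) : MultilinearMap A (fun _ : Fin d => M) N where
  toFun v := coeff F v (ones d)
  map_update_add' {_} v k x y := by
    convert coeff_ones_add F v k x y
  map_update_smul' {inst} v k a x := by
    obtain rfl : inst = instDecidableEqFin d := Subsingleton.elim _ _
    have h := coeff_ones_smul F (Function.update v k x) k a
    rw [Function.update_self, Function.update_idem] at h
    exact h

theorem polar_apply (F : M →ₚₗ[A] N) (d : ℕ) (v : Fin d → M) : polar F d v = coeff F v (ones d) := rfl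

end Groth.Agent.ZC
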