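import Mathlib
import Groth.Prelude.Def_PolLaw2
import Groth.Agent.ZC.Lift
import Groth.Agent.ZC.Polar

/-!
# The tensor power law and its coefficients
-/

open scoped TensorProduct

namespace Groth.Agent.ZC

universe u

variable {A : Type u} [CommRing A] {B : Type u} [CommRing B] [Algebra A B] {d : ℕ}
  {ι κ : Type} [Fintype ι] [Fintype κ]

/-- The exponent vector of a map `Fin d → ι`. -/
noncomputable def mult (c : Fin d → ι) : ι →₀ ℕ := ∑ j, Finsupp.single (c j) 1

theorem mult_apply [DecidableEq ι] (c : Fin d → ι) (i : ι) : mult c i = (Finset.univ.filter fun j => c j = i).card := by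
  rw [mult, Finsupp.finsetSum_apply, Finset.card_filter]
  exact Finset.sum_congr rfl fun j _ => by rw [Finsupp.single_apply]

theorem mult_comp_equiv (c : Fin d → ι) (σ : Equiv.Perm (Fin d)) : mult (fun j => c (σ j)) = mult c :=
  Equiv.sum_comp σ fun j => Finsupp.single (c j) 1

theorem mult_eq_iff {c c' : Fin d → ι} :
    mult c' = mult c ↔ ∃ σ : Equiv.Perm (Fin d), c' = fun j => c (σ j) := by
  classical
  refine ⟨fun h => ?_, by rintro ⟨σ, rfl⟩; exact mult_comp_equiv c σ⟩
  have hc : ∀ i, Fintype.card {j // c' j = i} = Fintype.card {j // c j = i} := fun i => by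
    simpa only [Fintype.card_subtype, mult_apply] using DFunLike.congr_fun h i
  refine ⟨Equiv.ofFiberEquiv fun i => Fintype.equivOfCardEq (hc i), funext fun j => ?_⟩
  exact (Equiv.ofFiberEquiv_map _ j).symm

theorem exists_mult (ν : ι →₀ ℕ) (hν : ∑ i, ν i = d) : ∃ c : Fin d → ι, mult c = ν := by
  classical
  have hcard : Fintype.card (Σ i, Fin (ν i)) = d := by simp [hν]
  refine ⟨fun j => ((Fintype.equivFinOfCardEq hcard).symm j).1, Finsupp.ext fun i => ?_⟩
  rw [mult, Equiv.sum_comp (Fintype.equivFinOfCardEq hcard).symm fun x => Finsupp.single x.1 (1 : ℕ),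
    Fintype.sum_sigma, Finsupp.finsetSum_apply, Finset.sum_eq_single i]
  · simp
  · intro k _ hk; simp [Finsupp.single_apply, hk]
  · simp

theorem prod_X_eq_monomial (c : Fin d → ι) :
    (∏ j, MvPolynomial.X (c j) : MvPolynomial ι A) = MvPolynomial.monomial (mult c) 1 := by
  rw [mult, MvPolynomial.monomial_sum_one]
  rfl

theorem sum_mult (c : Fin d → ι) : ∑ i, mult c i = d := by
  classical
  simp only [mult, Finsupp.finsetSum_apply]
  rw [Finset.sum_comm]
  simp [Finsupp.single_apply]

theorem exists_functional (a : (Fin d → ι) → A) (ha : ∀ c (σ : Equiv.Perm (Fin d)), a (fun j => c (σ j)) = a c) :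
    ∃ L : MvPolynomial ι A →ₗ[A] A, ∀ c : Fin d → ι, L (∏ j, MvPolynomial.X (c j)) = a c := by
  classical
  refine ⟨(MvPolynomial.basisMonomials ι A).constr A fun ν => if h : ∃ c, mult c = ν then a h.choose else 0,
    fun c => ?_⟩
  rw [prod_X_eq_monomial]
  have h : (MvPolynomial.basisMonomials ι A) (mult c) = MvPolynomial.monomial (mult c) 1 := by simp
  rw [← h, Module.Basis.constr_basis, dif_pos ⟨c, rfl⟩]
  obtain ⟨σ, hσ⟩ := mult_eq_iff.1 (Exists.choose_spec (⟨c, rfl⟩ : ∃ c', mult c' = mult c))
  rw [hσ, ha]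

omit [Fintype ι] in
theorem prod_tmul {R : Type u} [CommSemiring R] [Algebra A R] {T : Type u} [CommRing T] [Algebra A T]
    {α : Type*} (s : Finset α) (r : α → R) (t : α → T) :
    ∏ j ∈ s, r j ⊗ₜ[A] t j = (∏ j ∈ s, r j) ⊗ₜ[A] ∏ j ∈ s, t j := by
  classical
  induction s using Finset.induction_on with
  | empty => simp [Algebra.TensorProduct.one_def]
  | insert j s hj ih => rw [Finset.prod_insert hj, Finset.prod_insert hj, Finset.prod_insert hj, ih,
      Algebra.TensorProduct.tmul_mul_tmul]

/-- The value of the tensor power law at a finite sum. -/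
theorem tpowLaw_sum {S : Type u} [CommSemiring S] [Algebra A S] (s : ι → S) (b : ι → B) :
    (SymTen.tpowLaw A B d).law.toFun' S (∑ i, s i ⊗ₜ[A] b i) =
      ∑ c : Fin d → ι, (∏ j, s (c j)) ⊗ₜ[A] PiTensorProduct.tprod A (fun j => b (c j)) := by
  classical
  rw [SymTen.tpowLaw, PolLaw.MulLaw.prodMap_toFun']
  simp only [map_sum, Algebra.TensorProduct.map_tmul, AlgHom.id_apply]
  rw [Finset.prod_univ_sum, Fintype.piFinset_univ]
  refine Finset.sum_congr rfl fun c _ => ?_
  rw [prod_tmul]
  congr 1
  simp only [PiTensorProduct.singleAlgHom_apply, MonoidHom.mulSingle_apply]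
  rw [← PiTensorProduct.tprod_prod]
  exact congrArg _ (Finset.univ_prod_mulSingle fun j => b (c j))

theorem app_tpow (L : MvPolynomial ι A →ₗ[A] A) (b : ι → B) :
    app L (SymTen.tpowLaw A B d).law b =
      ∑ c : Fin d → ι, L (∏ j, MvPolynomial.X (c j)) • PiTensorProduct.tprod A (fun j => b (c j)) := by
  rw [app, gen, tpowLaw_sum, map_sum, map_sum]
  simp [LinearMap.rTensor_tmul]

theorem coeff_tpow [DecidableEq ι] (b : ι → B) (ν : ι →₀ ℕ) :
    coeff (SymTen.tpowLaw A B d).law b ν =
      ∑ c : Fin d → ι, if mult c = ν then PiTensorProduct.tprod A (fun j => b (c j)) else 0 := by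
  rw [← app_lmon, app_tpow]
  refine Finset.sum_congr rfl fun c _ => ?_
  rw [prod_X_eq_monomial, lmon_monomial, ite_smul, one_smul, zero_smul]

theorem perm_app_tpow (σ : Equiv.Perm (Fin d)) (L : MvPolynomial ι A →ₗ[A] A) (b : ι → B) :
    SymTen.perm A B d σ (app L (SymTen.tpowLaw A B d).law b) = app L (SymTen.tpowLaw A B d).law b := by
  rw [app_tpow, map_sum]
  simp only [map_smul, SymTen.perm_tprod]
  refine Fintype.sum_equiv (Equiv.arrowCongr σ (Equiv.refl ι)) _ _ fun c => ?_
  show _ = L (∏ j, MvPolynomial.X (c (σ.symm j))) • _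
  rw [Equiv.prod_comp σ.symm fun j => (MvPolynomial.X (c j) : MvPolynomial ι A)]
  rfl

theorem coeffSpan_tpow_le : coeffSpan (SymTen.tpowLaw A B d).law ≤ Subalgebra.toSubmodule (SymTen.TS A B d) := by
  refine Submodule.span_le.2 ?_
  rintro _ ⟨n, b, ν, rfl⟩ σ
  rw [← app_lmon, ← SymTen.perm_apply, perm_app_tpow]

variable (A B d) in
/-- The tensor power law into the symmetric tensors. -/
theorem exists_tsLaw : ∃ τ : PolLaw.MulLaw A B (SymTen.TS A B d) d,
    τ.postcomp (SymTen.TS A B d).val = SymTen.tpowLaw A B d :=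
  exists_mulLaw_factor _ _ Subtype.val_injective fun c hc => ⟨⟨c, coeffSpan_tpow_le hc⟩, rfl⟩

/-- Laws agree when their coefficients do. -/
theorem ext_coeff {N : Type u} [AddCommGroup N] [Module A N] {F G : B →ₚₗ[A] N}
    (h : ∀ (n : ℕ) (b : Fin n → B) (ν : Fin n →₀ ℕ), coeff F b ν = coeff G b ν) : F = G := by
  refine ext_gen fun n b => ?_
  rw [gen_eq_sum, gen_eq_sum, show coeff F b = coeff G b from Finsupp.ext (h n b)]

/-- A law given by the symmetrized sum formula is the tensor power law. -/
theorem eq_tpow_of_formula {F : B →ₚₗ[A] ⨂[A] _ : Fin d, B}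
    (h : ∀ (S : Type u) [CommSemiring S] [Algebra A S] (n : ℕ) (s : Fin n → S) (b : Fin n → B),
      F.toFun' S (∑ j, s j ⊗ₜ[A] b j) =
        ∑ c : Fin d → Fin n, (∏ i, s (c i)) ⊗ₜ[A] PiTensorProduct.tprod A (fun i => b (c i))) :
    F = (SymTen.tpowLaw A B d).law := by
  refine ext_gen fun n b => ?_
  rw [gen, gen, h, tpowLaw_sum]

/-- The comparison map composed with the universal law is the tensor power law. -/
theorem postcomp_eq_tpow {C : Type u} [CommRing C] [Algebra A C] {γ : PolLaw.MulLaw A B C d}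
    {φ : C →ₐ[A] SymTen.TS A B d}
    (hφ : ∀ (S : Type u) [CommSemiring S] [Algebra A S] (n : ℕ) (s : Fin n → S) (b : Fin n → B),
      ((SymTen.TS A B d).val.comp φ).toLinearMap.lTensor S (γ.law.toFun' S (∑ j, s j ⊗ₜ[A] b j)) =
        ∑ c : Fin d → Fin n, (∏ i, s (c i)) ⊗ₜ[A] PiTensorProduct.tprod A (fun i => b (c i))) :
    PolLaw.postcomp ((SymTen.TS A B d).val.comp φ).toLinearMap γ.law = (SymTen.tpowLaw A B d).law :=
  eq_tpow_of_formula hφ

theorem val_coeff {C : Type u} [CommRing C] [Algebra A C] {γ : PolLaw.MulLaw A B C d}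
    {φ : C →ₐ[A] SymTen.TS A B d}
    (hφ : PolLaw.postcomp ((SymTen.TS A B d).val.comp φ).toLinearMap γ.law = (SymTen.tpowLaw A B d).law)
    (L : MvPolynomial ι A →ₗ[A] A) (b : ι → B) :
    (SymTen.TS A B d).val (φ (app L γ.law b)) = app L (SymTen.tpowLaw A B d).law b := by
  rw [← hφ, app_postcomp]
  rfl

theorem mult_id_eq_ones : mult (fun j : Fin d => j) = ones d := by
  ext i
  simp [mult_apply, ones_apply, Finset.filter_eq']

/-- The polarization of the tensor power law is the sum over permutations. -/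
theorem polar_tpow (v : Fin d → B) :
    polar (SymTen.tpowLaw A B d).law d v =
      ∑ σ : Equiv.Perm (Fin d), PiTensorProduct.tprod A (fun j => v (σ j)) := by
  classical
  rw [polar_apply, coeff_tpow, ← Finset.sum_filter]
  symm
  refine Finset.sum_bij (fun σ _ => (σ : Fin d → Fin d)) (fun σ _ => ?_) (fun σ _ τ _ h => Equiv.ext (congrFun h))
    (fun c hc => ?_) (fun σ _ => rfl)
  · rw [Finset.mem_filter]
    exact ⟨Finset.mem_univ _, by rw [← mult_id_eq_ones]; exact mult_comp_equiv (fun j => j) σ⟩
  · rw [Finset.mem_filter, ← mult_id_eq_ones] at hc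
    obtain ⟨σ, hσ⟩ := mult_eq_iff.1 hc.2
    exact ⟨σ, Finset.mem_univ _, hσ.symm⟩

/-- The weight of `ν` in the polarization at `b ∘ c`. -/
noncomputable def weight (A : Type u) [CommRing A] {d : ℕ} {ι : Type} [Fintype ι] [DecidableEq ι] (c : Fin d → ι) (ν : ι →₀ ℕ) : A :=
  lmon (ones d) (MvPolynomial.aeval (fun i => ∑ j, (Finsupp.single (c j) (1 : A)) i • MvPolynomial.X j)
    (MvPolynomial.monomial ν (1 : A)))

theorem polar_comp [DecidableEq ι] {N : Type u} [AddCommGroup N] [Module A N] (F : B →ₚₗ[A] N) (b : ι → B)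
    (c : Fin d → ι) :
    polar F d (fun j => b (c j)) = (coeff F b).sum fun ν x => weight A c ν • x := by
  rw [polar_apply, ← app_lmon, app_comp, app_eq_sum]
  rfl

theorem weight_mult [DecidableEq ι] (c c₀ : Fin d → ι) :
    weight A c (mult c₀) = ∑ σ : Equiv.Perm (Fin d), if (fun j => c (σ j)) = c₀ then (1 : A) else 0 := by
  classical
  let P := MvPolynomial ι A
  let δ : (⨂[A] _ : Fin d, P) →ₗ[A] A :=
    PiTensorProduct.lift ((MultilinearMap.mkPiAlgebra A (Fin d) A).compLinearMap
      fun j => lmon (Finsupp.single (c₀ j) 1))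
  have hδ : ∀ c' : Fin d → ι, δ (PiTensorProduct.tprod A fun j => (MvPolynomial.X (c' j) : P)) =
      if c' = c₀ then 1 else 0 := fun c' => by
    simp only [δ, PiTensorProduct.lift.tprod, MultilinearMap.compLinearMap_apply, MultilinearMap.mkPiAlgebra_apply]
    have hj : ∀ j, lmon (Finsupp.single (c₀ j) 1) (MvPolynomial.X (c' j) : P) = if c' j = c₀ j then (1 : A) else 0 := by
      intro j
      rw [show (MvPolynomial.X (c' j) : P) = MvPolynomial.monomial (Finsupp.single (c' j) 1) 1 from rfl,
        lmon_monomial]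
      exact if_congr (Finsupp.single_left_inj one_ne_zero) rfl rfl
    simp only [hj, Finset.prod_boole, Finset.mem_univ, forall_true_left, funext_iff]
  have h := congrArg δ (polar_comp (SymTen.tpowLaw A P d).law (fun i => (MvPolynomial.X i : P)) c)
  rw [polar_tpow, map_sum, map_finsuppSum] at h
  simp only [hδ, map_smul] at h
  rw [h]
  have hcoeff : ∀ ν, δ (coeff (SymTen.tpowLaw A P d).law (fun i => (MvPolynomial.X i : P)) ν) =
      if mult c₀ = ν then 1 else 0 := fun ν => by
    rw [coeff_tpow, map_sum, Finset.sum_eq_single c₀]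
    · split_ifs <;> simp [hδ]
    · intro c' _ hne; split_ifs <;> simp [hδ, hne]
    · simp
  rw [Finsupp.sum_eq_single (mult c₀)]
  · rw [hcoeff, if_pos rfl, smul_eq_mul, mul_one]
  · intro ν _ hne; rw [hcoeff, if_neg (Ne.symm hne), smul_zero]
  · intro _; simp

theorem sum_weight [DecidableEq ι] (c₀ : Fin d → ι) (ν : ι →₀ ℕ) :
    (∑ c : Fin d → ι, if mult c = ν then weight A c (mult c₀) else 0) =
      if mult c₀ = ν then (d.factorial : A) else 0 := by
  classical
  calc (∑ c : Fin d → ι, if mult c = ν then weight A c (mult c₀) else 0)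
      = ∑ c : Fin d → ι, ∑ σ : Equiv.Perm (Fin d),
          if (fun j => c (σ j)) = c₀ then (if mult c₀ = ν then (1 : A) else 0) else 0 := by
        refine Finset.sum_congr rfl fun c _ => ?_
        rw [weight_mult]
        split_ifs with hc hc₀
        · refine Finset.sum_congr rfl fun σ _ => ?_
          split_ifs <;> rfl
        · refine Finset.sum_congr rfl fun σ _ => ?_
          split_ifs with h
          · exact absurd (by rw [← h, mult_comp_equiv, hc]) hc₀
          · rfl
        · refine (Finset.sum_eq_zero fun σ _ => ?_).symm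
          split_ifs with h <;> first | rfl | (exfalso; apply hc; rw [← mult_comp_equiv c σ, h, ‹mult c₀ = ν›])
        · simp
    _ = _ := by
        rw [Finset.sum_comm]
        have : ∀ σ : Equiv.Perm (Fin d), (∑ c : Fin d → ι,
            if (fun j => c (σ j)) = c₀ then (if mult c₀ = ν then (1 : A) else 0) else 0) =
              if mult c₀ = ν then (1 : A) else 0 := fun σ => by
          rw [Finset.sum_eq_single (fun j => c₀ (σ.symm j))]
          · simp
          · intro c _ hne
            exact if_neg fun h => hne (funext fun j => by simp [← h])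
          · simp
        simp only [this, Finset.sum_const, Finset.card_univ, Fintype.card_perm, Fintype.card_fin, nsmul_eq_mul]
        split_ifs <;> simp

/-- The polarization turns a coefficient of the tensor power law into `d!` times the coefficient. -/
theorem lift_polar_coeff {N : Type u} [AddCommGroup N] [Module A N] {F : B →ₚₗ[A] N}
    (hF : PolLaw.IsHomog F d) (b : ι → B) (ν : ι →₀ ℕ) :
    PiTensorProduct.lift (polar F d) (coeff (SymTen.tpowLaw A B d).law b ν) = (d.factorial : A) • coeff F b ν := by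
  classical
  rw [coeff_tpow, map_sum]
  simp only [apply_ite (PiTensorProduct.lift (polar F d)), map_zero, PiTensorProduct.lift.tprod, polar_comp,
    Finsupp.sum]
  calc (∑ c : Fin d → ι, if mult c = ν then ∑ μ ∈ (coeff F b).support, weight A c μ • coeff F b μ else 0)
      = ∑ μ ∈ (coeff F b).support, (∑ c : Fin d → ι, if mult c = ν then weight A c μ else 0) • coeff F b μ := by
        simp only [Finset.sum_smul, ite_smul, zero_smul]
        rw [Finset.sum_comm]
        refine Finset.sum_congr rfl fun c _ => ?_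
        split_ifs <;> simp
    _ = (d.factorial : A) • coeff F b ν := by
        rw [Finset.sum_eq_single ν]
        · by_cases hν : ∑ i, ν i = d
          · obtain ⟨c₀, rfl⟩ := exists_mult ν hν
            rw [sum_weight, if_pos rfl]
          · rw [coeff_eq_zero_of_degree hF b hν, smul_zero, smul_zero]
        · intro μ _ hne
          by_cases hμ : ∑ i, μ i = d
          · obtain ⟨c₀, rfl⟩ := exists_mult μ hμ
            rw [sum_weight, if_neg hne, zero_smul]
          · rw [coeff_eq_zero_of_degree hF b hμ, smul_zero]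
        · intro h
          rw [Finsupp.notMem_support_iff.1 h, smul_zero]

theorem lift_polar_app {N : Type u} [AddCommGroup N] [Module A N] {F : B →ₚₗ[A] N}
    (hF : PolLaw.IsHomog F d) (L : MvPolynomial ι A →ₗ[A] A) (b : ι → B) :
    PiTensorProduct.lift (polar F d) (app L (SymTen.tpowLaw A B d).law b) = (d.factorial : A) • app L F b := by
  have h : gen (PolLaw.postcomp (PiTensorProduct.lift (polar F d)) (SymTen.tpowLaw A B d).law) b =
      (d.factorial : A) • gen F b := by
    apply (TensorProduct.equivFinsuppOfBasisLeft (MvPolynomial.basisMonomials ι A)).injective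
    rw [map_smul]
    exact Finsupp.ext fun ν => (coeff_postcomp _ _ b ν).trans (lift_polar_coeff hF b ν)
  rw [← app_postcomp, app, h, map_smul, map_smul]
  rfl

/-- The full symmetrization of a tensor lies in the span of the coefficients. -/
theorem sum_perm_mem (t : ⨂[A] _ : Fin d, B) :
    (∑ σ : Equiv.Perm (Fin d), SymTen.perm A B d σ t) ∈ coeffSpan (SymTen.tpowLaw A B d).law := by
  induction t using PiTensorProduct.induction_on with
  | smul_tprod r f =>
    simp only [map_smul, ← Finset.smul_sum, SymTen.perm_tprod]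
    refine Submodule.smul_mem _ _ ?_
    rw [Fintype.sum_equiv (Equiv.inv (Equiv.Perm (Fin d)))
      (fun σ => PiTensorProduct.tprod A fun i => f (σ.symm i)) (fun σ => PiTensorProduct.tprod A fun i => f (σ i))
      (fun σ => rfl), ← polar_tpow, polar_apply, ← app_lmon]
    exact app_mem_coeffSpan _ _ _
  | add x y hx hy => simpa only [map_add, Finset.sum_add_distrib] using add_mem hx hy

theorem smul_mem_coeffSpan {t : ⨂[A] _ : Fin d, B} (ht : t ∈ SymTen.TS A B d) :
    (d.factorial : A) • t ∈ coeffSpan (SymTen.tpowLaw A B d).law := by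
  have h : (∑ σ : Equiv.Perm (Fin d), SymTen.perm A B d σ t) = (d.factorial : A) • t := by
    rw [Finset.sum_congr rfl fun σ _ => (SymTen.perm_apply A B d σ t).trans (ht σ)]
    simp [Fintype.card_perm, Nat.cast_smul_eq_nsmul]
  exact h ▸ sum_perm_mem t

end Groth.Agent.ZC
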