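import Mathlib
import Groth.Agent.ZC.Tpow

/-!
# Symmetric tensors of a flat algebra are divided powers
-/

open scoped TensorProduct

namespace Groth.Agent.ZC

universe u

variable {A : Type u} [CommRing A] {d : ℕ}

section Module

variable {M M' : Type u} [AddCommGroup M] [Module A M] [AddCommGroup M'] [Module A M']
  {ι κ : Type} [Fintype ι] [Fintype κ]

/-- `∑ a(c) • b(c 1) ⊗ ⋯ ⊗ b(c d)`. -/
noncomputable def tsum (a : (Fin d → ι) → A) (b : ι → M) : ⨂[A] _ : Fin d, M :=
  ∑ c, a c • PiTensorProduct.tprod A (fun j => b (c j))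

/-- The effect of a substitution on the coefficient array. -/
noncomputable def asub (a : (Fin d → ι) → A) (m : ι → κ → A) : (Fin d → κ) → A :=
  fun c' => ∑ c, a c * ∏ j, m (c j) (c' j)

theorem tsum_subst (a : (Fin d → ι) → A) (m : ι → κ → A) (b' : κ → M) :
    tsum a (fun i => ∑ k, m i k • b' k) = tsum (asub a m) b' := by
  classical
  simp only [tsum, asub, MultilinearMap.map_sum, MultilinearMap.map_smul_univ, Finset.smul_sum, smul_smul,
    Finset.sum_smul]
  exact Finset.sum_comm

theorem map_tsum (g : M →ₗ[A] M') (a : (Fin d → ι) → A) (b : ι → M) :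
    PiTensorProduct.map (fun _ : Fin d => g) (tsum a b) = tsum a (fun i => g (b i)) := by
  simp [tsum]

theorem reindex_tsum (σ : Equiv.Perm (Fin d)) (a : (Fin d → ι) → A) (b : ι → M) :
    PiTensorProduct.reindex A (fun _ : Fin d => M) σ (tsum a b) = tsum (fun c => a fun j => c (σ j)) b := by
  simp only [tsum, map_sum, map_smul, PiTensorProduct.reindex_tprod]
  refine Fintype.sum_equiv (Equiv.arrowCongr σ (Equiv.refl ι)) _ _ fun c => ?_
  simp [Equiv.arrowCongr]

theorem asub_reindex (σ : Equiv.Perm (Fin d)) (a : (Fin d → ι) → A) (m : ι → κ → A) (c' : Fin d → κ) :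
    asub (fun c => a fun j => c (σ j)) m c' = asub a m fun j => c' (σ j) := by
  refine Fintype.sum_equiv (Equiv.arrowCongr σ.symm (Equiv.refl ι)) _ _ fun c => ?_
  show a (fun j => c (σ j)) * _ = a (fun j => c (σ j)) * _
  exact congrArg _ (Equiv.prod_comp σ fun j => m (c j) (c' j)).symm

theorem asub_sub (a₁ a₂ : (Fin d → ι) → A) (m : ι → κ → A) (c' : Fin d → κ) :
    asub (fun c => a₁ c - a₂ c) m c' = asub a₁ m c' - asub a₂ m c' := by
  simp [asub, sub_mul]

theorem tsum_sub (a₁ a₂ : (Fin d → ι) → A) (b : ι → M) :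
    tsum (fun c => a₁ c - a₂ c) b = tsum a₁ b - tsum a₂ b := by
  simp [tsum, sub_smul]

/-- Coordinates with respect to a basis. -/
theorem eq_zero_of_tsum_basis {k : ℕ} {a : (Fin d → Fin k) → A}
    (h : tsum a (fun i => Finsupp.single i (1 : A)) = 0) (c : Fin d → Fin k) : a c = 0 := by
  classical
  have h' := congrArg (fun z => (Basis.piTensorProduct fun _ : Fin d => (Finsupp.basisSingleOne :
    Module.Basis (Fin k) A (Fin k →₀ A))).repr z c) h
  simp only [tsum, map_sum, map_smul, Finsupp.finsetSum_apply, Finsupp.smul_apply,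
    Basis.piTensorProduct_repr_tprod_apply, map_zero, Finsupp.coe_zero, Pi.zero_apply] at h'
  rw [Finset.sum_eq_single c] at h'
  · simpa using h'
  · intro c' _ hne
    obtain ⟨j, hj⟩ := Function.ne_iff.1 hne
    rw [Finset.prod_eq_zero (Finset.mem_univ j), smul_zero]
    simp [hj]
  · simp

theorem exists_tsum (t : ⨂[A] _ : Fin d, M) :
    ∃ (n : ℕ) (b : Fin n → M) (a : (Fin d → Fin n) → A), t = tsum a b := by
  classical
  induction t using PiTensorProduct.induction_on with
  | smul_tprod r f =>
    refine ⟨d, f, fun c => if c = id then r else 0, ?_⟩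
    simp [tsum, ite_smul]
  | add x y hx hy =>
    obtain ⟨n, b, a, rfl⟩ := hx
    obtain ⟨m, b', a', rfl⟩ := hy
    refine ⟨n + m, Fin.append b b',
      fun c => asub a (fun i k => Pi.single (M := fun _ : Fin (n + m) => A) (Fin.castAdd m i) 1 k) c +
        asub a' (fun i k => Pi.single (M := fun _ : Fin (n + m) => A) (Fin.natAdd n i) 1 k) c, ?_⟩
    have h : ∀ a₁ a₂ : (Fin d → Fin (n + m)) → A, tsum (fun c => a₁ c + a₂ c) (Fin.append b b') =
        tsum a₁ (Fin.append b b') + tsum a₂ (Fin.append b b') := fun a₁ a₂ => by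
      simp [tsum, add_smul, Finset.sum_add_distrib]
    rw [h, ← tsum_subst, ← tsum_subst]
    congr 1 <;> congr 1 <;> funext i <;> simp [Pi.single_apply, ite_smul]

/-- The kernel of a tensor power of a surjection is detected by finitely many relations. -/
theorem exists_finset_of_map_eq_zero {G H : Type u} [AddCommGroup G] [Module A G] [AddCommGroup H] [Module A H]
    (π : G →ₗ[A] H) (hπ : Function.Surjective π) {z : ⨂[A] _ : Fin d, G}
    (hz : PiTensorProduct.map (fun _ : Fin d => π) z = 0) :
    ∃ R : Finset G, (∀ g ∈ R, π g = 0) ∧ ∀ (P : Type u) [AddCommGroup P] [Module A P] (u : G →ₗ[A] P),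
      (∀ g ∈ R, u g = 0) → PiTensorProduct.map (fun _ : Fin d => u) z = 0 := by
  classical
  let K : Submodule A (⨂[A] _ : Fin d, G) :=
    Submodule.span A {w | ∃ (g : Fin d → G) (j : Fin d), π (g j) = 0 ∧ PiTensorProduct.tprod A g = w}
  obtain ⟨s, hs⟩ := hπ.hasRightInverse
  have hK : ∀ (g : Fin d → G) (j : Fin d), π (g j) = 0 →
      K.mkQ (PiTensorProduct.tprod A g) = 0 := fun g j hj =>
    (Submodule.Quotient.mk_eq_zero K).2 (Submodule.subset_span ⟨g, j, hj, rfl⟩)
  have hupd : ∀ (g : Fin d → G) (j : Fin d) (x y : G), π x = π y →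
      K.mkQ (PiTensorProduct.tprod A (Function.update g j x)) =
        K.mkQ (PiTensorProduct.tprod A (Function.update g j y)) := fun g j x y hxy => by
    rw [← sub_eq_zero, ← map_sub, ← MultilinearMap.map_update_sub]
    exact hK _ j (by simp [hxy])
  have hrep : ∀ g g' : Fin d → G, (∀ j, π (g j) = π (g' j)) →
      K.mkQ (PiTensorProduct.tprod A g) = K.mkQ (PiTensorProduct.tprod A g') := fun g g' h => by
    have key : ∀ S : Finset (Fin d), K.mkQ (PiTensorProduct.tprod A (S.piecewise g' g)) =
        K.mkQ (PiTensorProduct.tprod A g) := fun S => by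
      induction S using Finset.induction_on with
      | empty => simp
      | insert j S hj ih =>
        rw [Finset.piecewise_insert, hupd _ j (g' j) (g j) (h j).symm, ← ih]
        congr 2
        conv_lhs => rw [← Finset.piecewise_eq_of_notMem S g' g hj, Function.update_eq_self]
    have := key Finset.univ
    rw [Finset.piecewise_univ] at this
    exact this.symm
  let ψ : MultilinearMap A (fun _ : Fin d => H) ((⨂[A] _ : Fin d, G) ⧸ K) :=
    { toFun := fun h => K.mkQ (PiTensorProduct.tprod A fun j => s (h j))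
      map_update_add' := fun {inst} h j x y => by
        obtain rfl : inst = instDecidableEqFin d := Subsingleton.elim _ _
        have e : ∀ w, (fun i => s (Function.update h j w i)) = Function.update (fun i => s (h i)) j (s w) :=
          fun w => funext fun i => Function.apply_update (fun _ => s) h j w i
        simp only [e]
        rw [hupd _ j (s (x + y)) (s x + s y) (by rw [map_add, hs, hs, hs]), MultilinearMap.map_update_add, map_add]
      map_update_smul' := fun {inst} h j r x => by
        obtain rfl : inst = instDecidableEqFin d := Subsingleton.elim _ _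
        have e : ∀ w, (fun i => s (Function.update h j w i)) = Function.update (fun i => s (h i)) j (s w) :=
          fun w => funext fun i => Function.apply_update (fun _ => s) h j w i
        simp only [e]
        rw [hupd _ j (s (r • x)) (r • s x) (by rw [map_smul, hs, hs]), MultilinearMap.map_update_smul, map_smul] }
  have hψ : ∀ w, PiTensorProduct.lift ψ (PiTensorProduct.map (fun _ : Fin d => π) w) = K.mkQ w := fun w => by
    induction w using PiTensorProduct.induction_on with
    | smul_tprod r g =>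
      simp only [map_smul, PiTensorProduct.map_tprod, PiTensorProduct.lift.tprod]
      exact congrArg (r • ·) (hrep (fun j => s (π (g j))) g fun j => hs _)
    | add x y hx hy => simp only [map_add, hx, hy]
  have hzK : z ∈ K := by
    have := hψ z
    rw [hz, map_zero] at this
    exact (Submodule.Quotient.mk_eq_zero K).1 this.symm
  refine Submodule.span_induction (p := fun z _ => ∃ R : Finset G, (∀ g ∈ R, π g = 0) ∧
      ∀ (P : Type u) [AddCommGroup P] [Module A P] (u : G →ₗ[A] P),
        (∀ g ∈ R, u g = 0) → PiTensorProduct.map (fun _ : Fin d => u) z = 0) ?_ ?_ ?_ ?_ hzK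
  · rintro _ ⟨g, j, hj, rfl⟩
    refine ⟨{g j}, by simpa using hj, fun P _ _ u hu => ?_⟩
    rw [PiTensorProduct.map_tprod]
    exact MultilinearMap.map_coord_zero _ j (hu _ (Finset.mem_singleton_self _))
  · exact ⟨∅, by simp, fun P _ _ u _ => map_zero _⟩
  · rintro x y - - ⟨R, hR, hx⟩ ⟨R', hR', hy⟩
    refine ⟨R ∪ R', fun g hg => (Finset.mem_union.1 hg).elim (hR g) (hR' g), fun P _ _ u hu => ?_⟩
    rw [map_add, hx P u fun g hg => hu g (Finset.mem_union_left _ hg),
      hy P u fun g hg => hu g (Finset.mem_union_right _ hg), add_zero]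
  · rintro r x - ⟨R, hR, hx⟩
    exact ⟨R, hR, fun P _ _ u hu => by rw [map_smul, hx P u hu, smul_zero]⟩

variable [Module.Flat A M]

/-- Finitely many vanishing tensors over a flat module vanish in a finite free module mapping to it. -/
theorem exists_lift_of_flat (b : ι → M) {α : Type} [Fintype α] (as : α → (Fin d → ι) → A)
    (h : ∀ x, tsum (as x) b = 0) :
    ∃ (k : ℕ) (m : ι → Fin k → A) (b' : Fin k → M),
      (∀ i, b i = ∑ l, m i l • b' l) ∧ ∀ x c, asub (as x) m c = 0 := by
  classical
  let G := (ι ⊕ M) →₀ A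
  let π : G →ₗ[A] M := Finsupp.linearCombination A (Sum.elim b id)
  have hπs : Function.Surjective π := fun x =>
    ⟨Finsupp.single (Sum.inr x) 1, (Finsupp.linearCombination_single A (v := Sum.elim b id) 1 (Sum.inr x)).trans (one_smul _ _)⟩
  let e : ι → G := fun i => Finsupp.single (Sum.inl i) 1
  have hπe : ∀ i, π (e i) = b i := fun i =>
    (Finsupp.linearCombination_single A (v := Sum.elim b id) 1 (Sum.inl i)).trans (one_smul _ _)
  have hz : ∀ x, PiTensorProduct.map (fun _ : Fin d => π) (tsum (as x) e) = 0 := fun x => by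
    rw [map_tsum]; simp only [hπe, h x]
  choose R hR0 hR using fun x => exists_finset_of_map_eq_zero π hπs (hz x)
  let T : Finset (ι ⊕ M) := (Finset.univ.biUnion fun x => (R x).biUnion fun g => g.support) ∪
    Finset.univ.biUnion fun i => (e i).support
  let j : (↥T →₀ A) →ₗ[A] G := Finsupp.lmapDomain A A Subtype.val
  let q : G →ₗ[A] (↥T →₀ A) := Finsupp.lcomapDomain Subtype.val Subtype.val_injective
  have hjq : ∀ g : G, g.support ⊆ T → j (q g) = g := fun g hg =>
    Finsupp.mapDomain_comapDomain _ Subtype.val_injective g fun y hy => ⟨⟨y, hg hy⟩, rfl⟩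
  let RR := Finset.univ.biUnion fun x => R x
  let f : (↥RR →₀ A) →ₗ[A] (↥T →₀ A) := Finsupp.linearCombination A fun g => q g.1
  have hsupp : ∀ x, ∀ g ∈ R x, g.support ⊆ T := fun x g hg y hy =>
    Finset.mem_union_left _ (Finset.mem_biUnion.2 ⟨x, Finset.mem_univ _, Finset.mem_biUnion.2 ⟨g, hg, hy⟩⟩)
  have hsuppe : ∀ i, (e i).support ⊆ T := fun i y hy =>
    Finset.mem_union_right _ (Finset.mem_biUnion.2 ⟨i, Finset.mem_univ _, hy⟩)
  have hf : (π ∘ₗ j) ∘ₗ f = 0 := Finsupp.lhom_ext' fun g => LinearMap.ext_ring (by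
    obtain ⟨x, -, hx⟩ := Finset.mem_biUnion.1 g.2
    simp [f, hjq _ (hsupp x _ hx), hR0 x _ hx])
  obtain ⟨k, a, y, hya, haf⟩ := Module.Flat.exists_factorization_of_comp_eq_zero_of_free hf
  refine ⟨k, fun i l => a (q (e i)) l, fun l => y (Finsupp.single l 1), fun i => ?_, fun x => ?_⟩
  · have h1 : b i = y (a (q (e i))) := by
      rw [← LinearMap.comp_apply, ← hya, LinearMap.comp_apply, hjq _ (hsuppe i), hπe]
    conv_lhs => rw [h1, ← Finsupp.univ_sum_single (a (q (e i))), map_sum]
    exact Finset.sum_congr rfl fun l _ => by rw [← map_smul, Finsupp.smul_single', mul_one]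
  · refine eq_zero_of_tsum_basis ?_
    have h2 := hR x _ (a ∘ₗ q) fun g hg => by
      have := LinearMap.congr_fun haf (Finsupp.single ⟨g, Finset.mem_biUnion.2 ⟨x, Finset.mem_univ _, hg⟩⟩ 1)
      simpa [f] using this
    rw [map_tsum] at h2
    rw [← tsum_subst, ← h2]
    congr 1
    funext i
    conv_rhs => rw [LinearMap.comp_apply, ← Finsupp.univ_sum_single (a (q (e i)))]
    exact Finset.sum_congr rfl fun l _ => by rw [Finsupp.smul_single', mul_one]

end Module

variable {B : Type u} [CommRing B] [Algebra A B] {ι : Type} [Fintype ι]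

theorem app_tpow_eq_tsum (L : MvPolynomial ι A →ₗ[A] A) (b : ι → B) :
    app L (SymTen.tpowLaw A B d).law b = tsum (fun c => L (∏ j, MvPolynomial.X (c j))) b :=
  app_tpow L b

/-- Relations among the coefficients of the tensor power law hold for every homogeneous law. -/
theorem app_eq_zero (hB : Module.Flat A B ∨ IsUnit ((d.factorial : ℕ) : A)) {N : Type u} [AddCommGroup N]
    [Module A N] {F : B →ₚₗ[A] N} (hF : PolLaw.IsHomog F d) (L : MvPolynomial ι A →ₗ[A] A) (b : ι → B)
    (h : app L (SymTen.tpowLaw A B d).law b = 0) : app L F b = 0 := by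
  classical
  rcases hB with hB | hu
  · rw [app_tpow_eq_tsum] at h
    obtain ⟨k, m, b', hb, hm⟩ := exists_lift_of_flat b
      (fun _ : Unit => fun c => L (∏ j, MvPolynomial.X (c j))) fun _ => h
    rw [show b = fun i => ∑ l, m i l • b' l from funext hb, app_subst, app_eq_sum]
    refine Finset.sum_eq_zero fun ν _ => ?_
    by_cases hν : ∑ i, ν i = d
    · obtain ⟨c, rfl⟩ := exists_mult ν hν
      beta_reduce
      rw [← prod_X_eq_monomial, LinearMap.comp_apply, AlgHom.toLinearMap_apply, map_prod]
      simp only [MvPolynomial.aeval_X, Finset.prod_univ_sum, Fintype.piFinset_univ, map_sum]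
      have hsum : (∑ c' : Fin d → ι, L (∏ j, m (c' j) (c j) • MvPolynomial.X (c' j))) = 0 := by
        refine Eq.trans ?_ (hm () c)
        refine Finset.sum_congr rfl fun c' _ => ?_
        rw [Finset.prod_smul, map_smul, smul_eq_mul, mul_comm]
      rw [hsum, zero_smul]
    · beta_reduce
      rw [coeff_eq_zero_of_degree hF b' hν, smul_zero]
  · have h' := lift_polar_app hF L b
    rw [h, map_zero] at h'
    exact hu.smul_eq_zero.1 h'.symm

/-- The coefficients of the tensor power law span the symmetric tensors. -/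
theorem coeffSpan_tpow_eq (hB : Module.Flat A B ∨ IsUnit ((d.factorial : ℕ) : A)) :
    coeffSpan (SymTen.tpowLaw A B d).law = Subalgebra.toSubmodule (SymTen.TS A B d) := by
  classical
  refine le_antisymm coeffSpan_tpow_le fun t ht => ?_
  rcases hB with hB | hu
  · obtain ⟨n, b, a, rfl⟩ := exists_tsum t
    obtain ⟨k, m, b', hb, hm⟩ := exists_lift_of_flat b
      (fun σ : Equiv.Perm (Fin d) => fun c => a (fun j => c (σ j)) - a c) fun σ => by
        rw [tsum_sub, ← reindex_tsum, ht σ, sub_self]
    obtain ⟨L, hL⟩ := exists_functional (asub a m) fun c σ => by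
      have := hm σ c
      rw [asub_sub, asub_reindex, sub_eq_zero] at this
      exact this
    rw [show b = fun i => ∑ l, m i l • b' l from funext hb, tsum_subst,
      show asub a m = fun c => L (∏ j, MvPolynomial.X (c j)) from funext fun c => (hL c).symm, ← app_tpow_eq_tsum]
    exact app_mem_coeffSpan _ _ _
  · exact (Submodule.smul_mem_iff_of_isUnit _ hu).1 (smul_mem_coeffSpan ht)

/-- Every combination of coefficients is the value of a single functional at a single family. -/
theorem exists_app (x : (Σ n : ℕ, (Fin n → B) × (Fin n →₀ ℕ)) →₀ A) :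
    ∃ (n : ℕ) (b : Fin n → B) (L : MvPolynomial (Fin n) A →ₗ[A] A),
      ∀ (N : Type u) [AddCommGroup N] [Module A N] (F : B →ₚₗ[A] N),
        Finsupp.linearCombination A (fun p : Σ n : ℕ, (Fin n → B) × (Fin n →₀ ℕ) => coeff F p.2.1 p.2.2) x =
          app L F b := by
  classical
  induction x using Finsupp.induction_linear with
  | zero => exact ⟨0, Fin.elim0, 0, fun N _ _ F => by simp [app_eq_sum]⟩
  | add x y hx hy =>
    obtain ⟨n, b, L, hL⟩ := hx
    obtain ⟨m, b', L', hL'⟩ := hy
    refine ⟨n + m, Fin.append b b',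
      L ∘ₗ (MvPolynomial.aeval fun k => ∑ i, (Finsupp.single (Fin.castAdd m i) (1 : A)) k • MvPolynomial.X i).toLinearMap +
      L' ∘ₗ (MvPolynomial.aeval fun k => ∑ i, (Finsupp.single (Fin.natAdd n i) (1 : A)) k • MvPolynomial.X i).toLinearMap,
      fun N _ _ F => ?_⟩
    have hadd : ∀ (L₁ L₂ : MvPolynomial (Fin (n + m)) A →ₗ[A] A) (g : Fin (n + m) → B),
        app (L₁ + L₂) F g = app L₁ F g + app L₂ F g := fun L₁ L₂ g => by
      simp [app, LinearMap.rTensor_add]
    rw [map_add, hL, hL', hadd, ← app_comp L F (Fin.append b b') (Fin.castAdd m),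
      ← app_comp L' F (Fin.append b b') (Fin.natAdd n)]
    simp
  | single p a =>
    refine ⟨p.1, p.2.1, a • lmon p.2.2, fun N _ _ F => ?_⟩
    rw [Finsupp.linearCombination_single, app_eq_sum, ← app_lmon, app_eq_sum, Finsupp.smul_sum]
    simp [smul_smul]

/-- The symmetric tensors with the tensor power law are the divided powers. -/
theorem isGammaD_tsLaw (hB : Module.Flat A B ∨ IsUnit ((d.factorial : ℕ) : A))
    {τ : PolLaw.MulLaw A B (SymTen.TS A B d) d}
    (hτ : τ.postcomp (SymTen.TS A B d).val = SymTen.tpowLaw A B d) : PolLaw.IsGammaD τ := by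
  classical
  intro C _ _ F
  have hval : ∀ {κ : Type} [Fintype κ] (L : MvPolynomial κ A →ₗ[A] A) (b : κ → B),
      ((app L τ.law b : SymTen.TS A B d) : ⨂[A] _ : Fin d, B) = app L (SymTen.tpowLaw A B d).law b :=
    fun L b => by
      rw [← hτ]
      exact (app_postcomp L (SymTen.TS A B d).val.toLinearMap τ.law b).symm
  have htop : coeffSpan τ.law = ⊤ := by
    refine eq_top_iff.2 fun t _ => ?_
    have h := coeffSpan_tpow_eq hB
    rw [← hτ] at h
    have ht : (SymTen.TS A B d).val t ∈ coeffSpan (τ.postcomp (SymTen.TS A B d).val).law := h.symm ▸ t.2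
    rw [show (τ.postcomp (SymTen.TS A B d).val).law = PolLaw.postcomp (SymTen.TS A B d).val.toLinearMap τ.law from rfl,
      coeffSpan_postcomp] at ht
    obtain ⟨t', ht', e⟩ := ht
    rwa [← Subtype.val_injective e]
  let Φ := Finsupp.linearCombination A (fun p : Σ n : ℕ, (Fin n → B) × (Fin n →₀ ℕ) => coeff τ.law p.2.1 p.2.2)
  let Ψ := Finsupp.linearCombination A (fun p : Σ n : ℕ, (Fin n → B) × (Fin n →₀ ℕ) => coeff F.law p.2.1 p.2.2)
  have hΦ : Function.Surjective Φ := by
    rw [← LinearMap.range_eq_top, Finsupp.range_linearCombination, ← htop, coeffSpan]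
    congr 1
    ext c
    exact ⟨fun ⟨⟨n, b, ν⟩, h⟩ => ⟨n, b, ν, h⟩, fun ⟨n, b, ν, h⟩ => ⟨⟨n, b, ν⟩, h⟩⟩
  have hker : LinearMap.ker Φ ≤ LinearMap.ker Ψ := fun x hx => by
    obtain ⟨n, b, L, hL⟩ := exists_app x
    rw [LinearMap.mem_ker] at hx ⊢
    rw [show Ψ x = app L F.law b from hL C F.law]
    refine app_eq_zero hB F.homog L b ?_
    rw [← hval, ← hL _ τ.law, hx]
    rfl
  let f : SymTen.TS A B d →ₗ[A] C :=
    (LinearMap.ker Φ).liftQ Ψ hker ∘ₗ (LinearMap.quotKerEquivOfSurjective Φ hΦ).symm.toLinearMap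
  have hf : ∀ (n : ℕ) (b : Fin n → B) (ν : Fin n →₀ ℕ), f (coeff τ.law b ν) = coeff F.law b ν := fun n b ν => by
    have e : (LinearMap.quotKerEquivOfSurjective Φ hΦ).symm (coeff τ.law b ν) =
        Submodule.Quotient.mk (Finsupp.single ⟨n, b, ν⟩ 1) := by
      rw [LinearEquiv.symm_apply_eq]
      simp [LinearMap.quotKerEquivOfSurjective, Φ]
    rw [LinearMap.comp_apply, LinearEquiv.coe_coe, e, Submodule.liftQ_apply]
    simp [Ψ]
  have hlaw : PolLaw.postcomp f τ.law = F.law := ext_coeff fun n b ν => by rw [coeff_postcomp, hf]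
  have hfapp : ∀ {κ : Type} [Fintype κ] (L : MvPolynomial κ A →ₗ[A] A) (b : κ → B),
      f (app L τ.law b) = app L F.law b := fun L b => by rw [← app_postcomp, hlaw]
  have hfg : ∀ x : B, f (τ.law.ground x) = F.law.ground x := fun x => by
    have h1 := ground_eq_app τ.law (fun _ : Fin 1 => x) (fun _ => 1)
    have h2 := ground_eq_app F.law (fun _ : Fin 1 => x) (fun _ => 1)
    simp only [Finset.univ_unique, Finset.sum_singleton, one_smul] at h1 h2
    rw [h1, hfapp, ← h2]
  have hone : f 1 = 1 := by rw [← ground_one τ.mult, hfg, ground_one F.mult]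
  have hmul : ∀ x y, f (x * y) = f x * f y := by
    intro x y
    have hx : x ∈ coeffSpan τ.law := htop ▸ Submodule.mem_top
    have hy : y ∈ coeffSpan τ.law := htop ▸ Submodule.mem_top
    induction hx using Submodule.span_induction with
    | zero => simp
    | add p q _ _ hp hq => rw [add_mul, map_add, hp, hq, map_add, add_mul]
    | smul a p _ hp => rw [smul_mul_assoc, map_smul, hp, map_smul, smul_mul_assoc]
    | mem p hp =>
      induction hy using Submodule.span_induction with
      | zero => simp
      | add p' q' _ _ hp' hq' => rw [mul_add, map_add, hp', hq', map_add, mul_add]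
      | smul a p' _ hp' => rw [mul_smul_comm, map_smul, hp', map_smul, mul_smul_comm]
      | mem q hq =>
        obtain ⟨n, b, ν, rfl⟩ := hp
        obtain ⟨m, c, μ, rfl⟩ := hq
        rw [coeff_mul_coeff_eq τ.mult, hfapp, hf, hf, ← coeff_mul_coeff_eq F.mult]
  refine ⟨AlgHom.ofLinearMap f hone hmul, ?_, fun g hg => ?_⟩
  · show PolLaw.postcomp f τ.law = F.law
    exact hlaw
  · refine AlgHom.ext fun x => ?_
    exact postcomp_ext (f := g.toLinearMap) (g := f) (hg.trans hlaw.symm) (htop ▸ Submodule.mem_top)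

end Groth.Agent.ZC
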