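import Mathlib
import Groth.Agent.ZC.Flat

/-!
# Norms, characteristic polynomials and the Cayley-Hamilton theorem for multiplicative laws
-/

open scoped TensorProduct

namespace Groth.Agent.ZC

universe u

variable {A : Type u} [CommRing A] {B C : Type u} [CommRing B] [Algebra A B] [CommRing C] [Algebra A C] {d : ℕ}

/-- The value of a law pushed to a test ring along an algebra map out of the target. -/
noncomputable def norm (F : PolLaw.MulLaw A B C d) {R : Type u} [CommRing R] [Algebra A R] (ψ : C →ₐ[A] R)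
    (z : R ⊗[A] B) : R :=
  Algebra.TensorProduct.productMap (AlgHom.id A R) ψ (F.law.toFun' R z)

variable (F : PolLaw.MulLaw A B C d) {R : Type u} [CommRing R] [Algebra A R] (ψ : C →ₐ[A] R)

theorem norm_one : norm F ψ 1 = 1 := by rw [norm, (F.mult R).1, map_one]

theorem norm_mul (z w : R ⊗[A] B) : norm F ψ (z * w) = norm F ψ z * norm F ψ w := by
  rw [norm, (F.mult R).2, map_mul]; rfl

theorem norm_pow (z : R ⊗[A] B) (n : ℕ) : norm F ψ (z ^ n) = norm F ψ z ^ n := by
  induction n with
  | zero => simp [norm_one]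
  | succ n ih => rw [pow_succ, pow_succ, norm_mul, ih]

theorem productMap_smul (r : R) (w : R ⊗[A] C) :
    Algebra.TensorProduct.productMap (AlgHom.id A R) ψ (r • w) =
      r * Algebra.TensorProduct.productMap (AlgHom.id A R) ψ w := by
  induction w using TensorProduct.induction_on with
  | zero => simp
  | tmul s c => simp [TensorProduct.smul_tmul', mul_assoc]
  | add x y hx hy => rw [smul_add, map_add, map_add, hx, hy, mul_add]

theorem norm_smul (r : R) (z : R ⊗[A] B) : norm F ψ (r • z) = r ^ d * norm F ψ z := by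
  rw [norm, F.homog, productMap_smul]; rfl

theorem norm_zero (hd : 0 < d) : norm F ψ 0 = 0 := by
  have h := norm_smul F ψ 0 0
  rwa [zero_smul, zero_pow hd.ne', zero_mul] at h

theorem norm_algebraMap (r : R) : norm F ψ (algebraMap R (R ⊗[A] B) r) = r ^ d := by
  rw [Algebra.algebraMap_eq_smul_one, norm_smul, norm_one, mul_one]

theorem map_norm_aux {R' C' : Type u} [CommRing R'] [Algebra A R'] [CommRing C'] [Algebra A C'] (ψ' : C' →ₐ[A] R')
    (f : C →ₐ[A] C') (Φ : R →ₐ[A] R') (hψ : ψ'.comp f = Φ.comp ψ) (w : R ⊗[A] C) :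
    Φ (Algebra.TensorProduct.productMap (AlgHom.id A R) ψ w) =
      Algebra.TensorProduct.productMap (AlgHom.id A R') ψ'
        (Φ.toLinearMap.rTensor C' (f.toLinearMap.lTensor R w)) := by
  induction w using TensorProduct.induction_on with
  | zero => simp
  | tmul r c =>
    have hc := DFunLike.congr_fun hψ c
    simp only [AlgHom.comp_apply] at hc
    simp [hc]
  | add x y hx hy => simp only [map_add, hx, hy]

theorem rTensor_lTensor_eq_map {R' B' : Type u} [CommRing R'] [Algebra A R'] [CommRing B'] [Algebra A B']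
    (π : B →ₐ[A] B') (Φ : R →ₐ[A] R') (z : R ⊗[A] B) :
    Φ.toLinearMap.rTensor B' (π.toLinearMap.lTensor R z) = Algebra.TensorProduct.map Φ π z := by
  induction z using TensorProduct.induction_on with
  | zero => simp
  | tmul r b => simp
  | add x y hx hy => simp only [map_add, hx, hy]

/-- Naturality of the norm in the test ring, the law and the algebra. -/
theorem norm_map {R' B' C' : Type u} [CommRing R'] [Algebra A R'] [CommRing B'] [Algebra A B'] [CommRing C']
    [Algebra A C'] (F' : PolLaw.MulLaw A B' C' d) (ψ' : C' →ₐ[A] R') (π : B →ₐ[A] B') (f : C →ₐ[A] C')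
    (Φ : R →ₐ[A] R') (hF : PolLaw.postcomp f.toLinearMap F.law = PolLaw.precomp F'.law π.toLinearMap)
    (hψ : ψ'.comp f = Φ.comp ψ) (z : R ⊗[A] B) :
    Φ (norm F ψ z) = norm F' ψ' (Algebra.TensorProduct.map Φ π z) := by
  rw [norm, map_norm_aux ψ ψ' f Φ hψ, norm]
  congr 1
  have h : f.toLinearMap.lTensor R (F.law.toFun' R z) = F'.law.toFun' R (π.toLinearMap.lTensor R z) :=
    congrFun (congrArg (fun G : B →ₚₗ[A] C' => G.toFun' R) hF) z
  rw [h, PolynomialLaw.isCompat_apply', rTensor_lTensor_eq_map]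

theorem precomp_id : PolLaw.postcomp (AlgHom.id A C).toLinearMap F.law =
    PolLaw.precomp F.law (AlgHom.id A B).toLinearMap := by
  refine PolynomialLaw.ext (funext fun S => funext fun _ => funext fun _ => funext fun x => ?_)
  show (LinearMap.id : C →ₗ[A] C).lTensor S (F.law.toFun' S x) = F.law.toFun' S ((LinearMap.id : B →ₗ[A] B).lTensor S x)
  simp

theorem norm_map' {R' : Type u} [CommRing R'] [Algebra A R'] (Φ : R →ₐ[A] R') (z : R ⊗[A] B) :
    Φ (norm F ψ z) = norm F (Φ.comp ψ) (Algebra.TensorProduct.map Φ (AlgHom.id A B) z) :=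
  norm_map F ψ F _ _ (AlgHom.id A C) Φ (precomp_id F) rfl z

/-! ### Characteristic polynomials -/

/-- Constant polynomials, on the first factor. -/
noncomputable def incC : R ⊗[A] B →ₐ[A] Polynomial R ⊗[A] B :=
  Algebra.TensorProduct.map Polynomial.CAlgHom (AlgHom.id A B)

/-- The characteristic polynomial `N(y - X)`. -/
noncomputable def chi (y : R ⊗[A] B) : Polynomial R :=
  norm F (Polynomial.CAlgHom.comp ψ) (incC y - Polynomial.X ⊗ₜ[A] (1 : B))

theorem map_chi {R' B' C' : Type u} [CommRing R'] [Algebra A R'] [CommRing B'] [Algebra A B'] [CommRing C']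
    [Algebra A C'] (F' : PolLaw.MulLaw A B' C' d) (ψ' : C' →ₐ[A] R') (π : B →ₐ[A] B') (f : C →ₐ[A] C')
    (Φ : R →ₐ[A] R') (hF : PolLaw.postcomp f.toLinearMap F.law = PolLaw.precomp F'.law π.toLinearMap)
    (hψ : ψ'.comp f = Φ.comp ψ) (y : R ⊗[A] B) :
    (chi F ψ y).map Φ.toRingHom = chi F' ψ' (Algebra.TensorProduct.map Φ π y) := by
  have h := norm_map F (Polynomial.CAlgHom.comp ψ) F' (Polynomial.CAlgHom.comp ψ') π f (Polynomial.mapAlgHom Φ) hF
    (by
      refine AlgHom.ext fun c => ?_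
      have hc := DFunLike.congr_fun hψ c
      simp only [AlgHom.comp_apply] at hc
      simp [Polynomial.CAlgHom, hc])
    (incC y - Polynomial.X ⊗ₜ[A] (1 : B))
  refine Eq.trans (by rfl) (h.trans ?_)
  have hcomm : Algebra.TensorProduct.map (Polynomial.mapAlgHom Φ) π (incC y) =
      incC (Algebra.TensorProduct.map Φ π y) := by
    rw [incC, incC]
    clear h
    induction y using TensorProduct.induction_on with
    | zero => simp
    | tmul r b => simp [Polynomial.CAlgHom]
    | add x y hx hy => simp only [map_add, hx, hy]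
  rw [map_sub, hcomm, Algebra.TensorProduct.map_tmul, map_one]
  simp [chi]

theorem map_chi' {R' : Type u} [CommRing R'] [Algebra A R'] (Φ : R →ₐ[A] R') (y : R ⊗[A] B) :
    (chi F ψ y).map Φ.toRingHom = chi F (Φ.comp ψ) (Algebra.TensorProduct.map Φ (AlgHom.id A B) y) :=
  map_chi F ψ F _ _ (AlgHom.id A C) Φ (precomp_id F) rfl y

/-- The algebra maps in the product formula. -/
noncomputable def slot (ψ : (⨂[A] _ : Fin d, B) →ₐ[A] R) (j : Fin d) : R ⊗[A] B →ₐ[R] R :=
  Algebra.TensorProduct.lift (Algebra.ofId R R)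
    (ψ.comp (PiTensorProduct.singleAlgHom (A := fun _ : Fin d => B) j)) fun _ _ => Commute.all _ _

theorem norm_tpow (ψ : (⨂[A] _ : Fin d, B) →ₐ[A] R) (z : R ⊗[A] B) :
    norm (SymTen.tpowLaw A B d) ψ z = ∏ j, slot ψ j z := by
  rw [norm, SymTen.tpowLaw, PolLaw.MulLaw.prodMap_toFun', map_prod]
  refine Finset.prod_congr rfl fun j _ => ?_
  induction z using TensorProduct.induction_on with
  | zero => simp
  | tmul r b => simp [slot, Algebra.ofId_apply]
  | add x y hx hy => simp only [map_add, hx, hy]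

theorem chi_tpow (ψ : (⨂[A] _ : Fin d, B) →ₐ[A] R) (y : R ⊗[A] B) :
    chi (SymTen.tpowLaw A B d) ψ y = ∏ j, (Polynomial.C (slot ψ j y) - Polynomial.X) := by
  rw [chi, norm_tpow]
  refine Finset.prod_congr rfl fun j _ => ?_
  rw [map_sub]
  congr 1
  · induction y using TensorProduct.induction_on with
    | zero => simp
    | tmul r b => simp [slot, incC, Algebra.ofId_apply, Polynomial.CAlgHom]
    | add x y hx hy => simp only [map_add, hx, hy]
  · rw [slot, Algebra.TensorProduct.lift_tmul, map_one, mul_one]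
    simp [Algebra.ofId_apply]

/-- Lifting a finite family to a tensor product over a polynomial ring. -/
theorem exists_lift_family {P : Type u} [CommRing P] [Algebra A P] (π : P →ₐ[A] B) (hπ : Function.Surjective π)
    {m : ℕ} (z : Fin m → R ⊗[A] B) :
    ∃ (N : ℕ) (s : Fin N → R) (z' : Fin m → MvPolynomial (Fin N) A ⊗[A] P),
      ∀ i, Algebra.TensorProduct.map (MvPolynomial.aeval s) π (z' i) = z i := by
  choose n s b h using fun i => exists_sum (z i)
  choose b' hb' using fun i j => hπ (b i j)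
  let e := Fintype.equivFin (Σ i, Fin (n i))
  refine ⟨_, fun k => s (e.symm k).1 (e.symm k).2,
    fun i => ∑ j, MvPolynomial.X (e ⟨i, j⟩) ⊗ₜ[A] b' i j, fun i => ?_⟩
  rw [h i, map_sum]
  refine Finset.sum_congr rfl fun j _ => ?_
  rw [Algebra.TensorProduct.map_tmul, MvPolynomial.aeval_X, hb']
  exact congrArg (fun x : Σ i, Fin (n i) => s x.1 x.2 ⊗ₜ[A] b i j) (e.symm_apply_apply ⟨i, j⟩)

/-- Every finite configuration comes from a split one through an injective map. -/
theorem exists_universal {m : ℕ} (z : Fin m → R ⊗[A] B) :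
    ∃ (P : Type u) (_ : CommRing P) (_ : Algebra A P) (C₁ : Type u) (_ : CommRing C₁) (_ : Algebra A C₁)
      (τ : PolLaw.MulLaw A P C₁ d) (R₁ : Type u) (_ : CommRing R₁) (_ : Algebra A R₁) (ψ₁ : C₁ →ₐ[A] R₁)
      (R₀ : Type u) (_ : CommRing R₀) (_ : Algebra A R₀) (ψ₀ : (⨂[A] _ : Fin d, P) →ₐ[A] R₀)
      (v : C₁ →ₐ[A] ⨂[A] _ : Fin d, P) (ι : R₁ →ₐ[A] R₀) (π : P →ₐ[A] B) (f : C₁ →ₐ[A] C) (Φ : R₁ →ₐ[A] R)
      (z' : Fin m → R₁ ⊗[A] P),
      Function.Injective ι ∧
      PolLaw.postcomp v.toLinearMap τ.law = PolLaw.precomp (SymTen.tpowLaw A P d).law (AlgHom.id A P).toLinearMap ∧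
      ψ₀.comp v = ι.comp ψ₁ ∧
      PolLaw.postcomp f.toLinearMap τ.law = PolLaw.precomp F.law π.toLinearMap ∧
      ψ.comp f = Φ.comp ψ₁ ∧
      ∀ i, Algebra.TensorProduct.map Φ π (z' i) = z i := by
  let P := MvPolynomial B A
  let π : P →ₐ[A] B := MvPolynomial.aeval id
  have hπ : Function.Surjective π := fun b => ⟨MvPolynomial.X b, by simp [π, P]⟩
  obtain ⟨τ, hτ⟩ := exists_tsLaw A P d
  obtain ⟨f, hf, -⟩ := isGammaD_tsLaw (Or.inl inferInstance) hτ C (F.precomp π)
  obtain ⟨N, s, z', hz'⟩ := exists_lift_family π hπ z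
  let Z := MvPolynomial (Fin N) A
  let val := (SymTen.TS A P d).val
  refine ⟨P, inferInstance, inferInstance, SymTen.TS A P d, inferInstance, inferInstance, τ,
    Z ⊗[A] SymTen.TS A P d, inferInstance, inferInstance, Algebra.TensorProduct.includeRight,
    Z ⊗[A] (⨂[A] _ : Fin d, P), inferInstance, inferInstance, Algebra.TensorProduct.includeRight,
    val, Algebra.TensorProduct.map (AlgHom.id A Z) val, π, f,
    Algebra.TensorProduct.productMap (MvPolynomial.aeval s) (ψ.comp f),
    fun i => Algebra.TensorProduct.map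
      (Algebra.TensorProduct.includeLeft : Z →ₐ[A] Z ⊗[A] SymTen.TS A P d) (AlgHom.id A P) (z' i),
    ?_, ?_, ?_, hf, ?_, fun i => ?_⟩
  · intro x y hxy
    refine Module.Flat.lTensor_preserves_injective_linearMap val.toLinearMap Subtype.val_injective ?_
    rw [PolLaw.lTensor_algHom_apply, PolLaw.lTensor_algHom_apply]
    exact hxy
  · rw [← precomp_id]
    refine (congrArg PolLaw.MulLaw.law hτ).trans (PolynomialLaw.ext (funext fun S => funext fun _ => funext fun _ =>
      funext fun x => ?_))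
    show _ = (LinearMap.id : (⨂[A] _ : Fin d, P) →ₗ[A] _).lTensor S _
    simp
  · ext c; simp
  · ext c; simp
  · beta_reduce
    rw [← hz' i]
    generalize z' i = q
    induction q using TensorProduct.induction_on with
    | zero => simp
    | tmul p q => simp
    | add x y hx hy => simp only [map_add, hx, hy]

theorem aeval_map_chi {R' B' : Type u} [CommRing R'] [Algebra A R'] [CommRing B'] [Algebra A B']
    (Φ : R →ₐ[A] R') (π : B →ₐ[A] B') (y : R ⊗[A] B) (p : Polynomial R) :
    Algebra.TensorProduct.map Φ π (Polynomial.aeval y p) =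
      Polynomial.aeval (Algebra.TensorProduct.map Φ π y) (p.map Φ.toRingHom) := by
  induction p using Polynomial.induction_on' with
  | add p q hp hq => rw [map_add, map_add, hp, hq, Polynomial.map_add, map_add]
  | monomial k r =>
    rw [Polynomial.aeval_monomial, Polynomial.map_monomial, Polynomial.aeval_monomial, map_mul, map_pow]
    congr 1
    simp [Algebra.TensorProduct.algebraMap_apply]

/-- The Cayley–Hamilton theorem. -/
theorem norm_add_mul_aeval_chi (y z w : R ⊗[A] B) :
    norm F ψ (z + w * Polynomial.aeval y (chi F ψ y)) = norm F ψ z := by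
  obtain ⟨P, _, _, C₁, _, _, τ, R₁, _, _, ψ₁, R₀, _, _, ψ₀, v, ι, π, f, Φ, z', hι, hv, hψ₀, hf, hψ, hz'⟩ :=
    exists_universal F ψ ![y, z, w]
  have key : norm τ ψ₁ (z' 1 + z' 2 * Polynomial.aeval (z' 0) (chi τ ψ₁ (z' 0))) = norm τ ψ₁ (z' 1) := by
    apply hι
    rw [norm_map τ ψ₁ _ ψ₀ _ v ι hv hψ₀, norm_map τ ψ₁ _ ψ₀ _ v ι hv hψ₀, map_add, map_mul, aeval_map_chi,
      map_chi τ ψ₁ _ ψ₀ _ v ι hv hψ₀, norm_tpow, norm_tpow]
    refine Finset.prod_congr rfl fun j _ => ?_
    rw [map_add, map_mul, ← Polynomial.aeval_algHom_apply, chi_tpow, map_prod,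
      Finset.prod_eq_zero (Finset.mem_univ j), mul_zero, add_zero]
    simp
  have h := congrArg Φ key
  rw [norm_map τ ψ₁ F ψ π f Φ hf hψ, norm_map τ ψ₁ F ψ π f Φ hf hψ, map_add, map_mul, aeval_map_chi,
    map_chi τ ψ₁ F ψ π f Φ hf hψ] at h
  simpa [hz'] using h

theorem natDegree_prod_le_and_coeff {S : Type*} [CommRing S] (a : Fin d → S) :
    (∏ j, (Polynomial.C (a j) - Polynomial.X)).natDegree ≤ d ∧
      (∏ j, (Polynomial.C (a j) - Polynomial.X)).coeff d = (-1) ^ d := by
  rcases subsingleton_or_nontrivial S with hS | hS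
  · exact ⟨by simp [Subsingleton.elim (∏ j, (Polynomial.C (a j) - Polynomial.X)) 0], Subsingleton.elim _ _⟩
  have h1 : (∏ j, (Polynomial.C (a j) - Polynomial.X)) =
      Polynomial.C ((-1) ^ d) * ∏ j, (Polynomial.X - Polynomial.C (a j)) := by
    rw [map_pow, map_neg, map_one, ← Fin.prod_const, ← Finset.prod_mul_distrib]
    exact Finset.prod_congr rfl fun j _ => by ring
  have h2 := Polynomial.monic_prod_of_monic Finset.univ _ fun j _ => Polynomial.monic_X_sub_C (a j)
  have h3 : (∏ j, (Polynomial.X - Polynomial.C (a j))).natDegree = d := by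
    rw [Polynomial.natDegree_prod_of_monic _ _ fun j _ => Polynomial.monic_X_sub_C (a j)]
    simp
  refine ⟨h1 ▸ (Polynomial.natDegree_C_mul_le _ _).trans h3.le, ?_⟩
  rw [h1, Polynomial.coeff_C_mul]
  have h4 := h2.coeff_natDegree
  rw [h3] at h4
  rw [h4, mul_one]

/-- The characteristic polynomial has degree `d` and leading coefficient `(-1) ^ d`. -/
theorem chi_natDegree_le_and_coeff (y : R ⊗[A] B) :
    (chi F ψ y).natDegree ≤ d ∧ (chi F ψ y).coeff d = (-1) ^ d := by
  obtain ⟨P, _, _, C₁, _, _, τ, R₁, _, _, ψ₁, R₀, _, _, ψ₀, v, ι, π, f, Φ, z', hι, hv, hψ₀, hf, hψ, hz'⟩ :=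
    exists_universal F ψ ![y]
  have h0 : ((chi τ ψ₁ (z' 0)).map ι.toRingHom).natDegree ≤ d ∧
      ((chi τ ψ₁ (z' 0)).map ι.toRingHom).coeff d = (-1) ^ d := by
    rw [map_chi τ ψ₁ _ ψ₀ _ v ι hv hψ₀, chi_tpow]
    exact natDegree_prod_le_and_coeff _
  have h1 : (chi τ ψ₁ (z' 0)).natDegree ≤ d := by
    rw [← Polynomial.natDegree_map_eq_of_injective (f := ι.toRingHom) hι]
    exact h0.1
  have h2 : (chi τ ψ₁ (z' 0)).coeff d = (-1) ^ d := hι (by simpa using h0.2)
  have h3 := map_chi τ ψ₁ F ψ π f Φ hf hψ (z' 0)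
  rw [hz' 0] at h3
  simp only [Matrix.cons_val_zero] at h3
  rw [← h3]
  exact ⟨Polynomial.natDegree_map_le.trans h1, by simp [h2]⟩

theorem natDegree_chi_le (y : R ⊗[A] B) : (chi F ψ y).natDegree ≤ d := (chi_natDegree_le_and_coeff F ψ y).1

theorem coeff_chi_top (y : R ⊗[A] B) : (chi F ψ y).coeff d = (-1) ^ d := (chi_natDegree_le_and_coeff F ψ y).2

theorem monic_neg_one_pow_mul_chi (y : R ⊗[A] B) : (Polynomial.C ((-1) ^ d) * chi F ψ y).Monic :=
  Polynomial.monic_of_natDegree_le_of_coeff_eq_one d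
    ((Polynomial.natDegree_C_mul_le _ _).trans (natDegree_chi_le F ψ y))
    (by rw [Polynomial.coeff_C_mul, coeff_chi_top, ← mul_pow, neg_mul_neg, one_mul, one_pow])

theorem eval_chi (y : R ⊗[A] B) (r : R) :
    (chi F ψ y).eval r = norm F ψ (y - algebraMap R (R ⊗[A] B) r) := by
  let ev : Polynomial R →ₐ[A] R := ((Polynomial.aeval r : Polynomial R →ₐ[R] R)).restrictScalars A
  have hev : ev.comp (Polynomial.CAlgHom : R →ₐ[A] Polynomial R) = AlgHom.id A R := by ext x; simp [ev, Polynomial.CAlgHom]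
  have h := norm_map' F (Polynomial.CAlgHom.comp ψ) ev (incC y - Polynomial.X ⊗ₜ[A] (1 : B))
  rw [← AlgHom.comp_assoc, hev, AlgHom.id_comp, map_sub, incC] at h
  have hy : Algebra.TensorProduct.map ev (AlgHom.id A B) (Algebra.TensorProduct.map (Polynomial.CAlgHom : R →ₐ[A] Polynomial R) (AlgHom.id A B) y) = y := by
    clear h
    induction y using TensorProduct.induction_on with
    | zero => simp
    | tmul s b => simp [ev, Polynomial.CAlgHom]
    | add x y hx hy => simp only [map_add, hx, hy]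
  rw [hy] at h
  refine Eq.trans ?_ (h.trans ?_)
  · simp [chi, incC, ev, Polynomial.coe_aeval_eq_eval]
  · simp [ev, Algebra.TensorProduct.algebraMap_apply]

/-! ### Kernels -/

theorem map_rTensor_mul {S S' : Type u} [CommSemiring S] [Algebra A S] [CommSemiring S'] [Algebra A S']
    (φ : S →ₐ[A] S') (x w : S ⊗[A] B) (b : B) :
    φ.toLinearMap.rTensor B (x + w * (1 ⊗ₜ[A] b)) =
      φ.toLinearMap.rTensor B x + φ.toLinearMap.rTensor B w * (1 ⊗ₜ[A] b) := by
  rw [PolLaw.rTensor_algHom_apply, PolLaw.rTensor_algHom_apply, PolLaw.rTensor_algHom_apply, map_add, map_mul,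
    Algebra.TensorProduct.map_tmul, map_one]
  rfl

/-- The kernel is tested on polynomial rings over the target. -/
theorem mem_ker_of_norm {b : B}
    (h : ∀ (n : ℕ) (x w : MvPolynomial (Fin n) C ⊗[A] B),
      norm F (IsScalarTower.toAlgHom A C (MvPolynomial (Fin n) C)) (x + w * (1 ⊗ₜ[A] b)) =
        norm F (IsScalarTower.toAlgHom A C (MvPolynomial (Fin n) C)) x) :
    b ∈ PolLaw.ker F.law := by
  intro S _ _ x w
  obtain ⟨n, φ, x', w', -, rfl, rfl, -⟩ := exists_lift₂ x w 0
  rw [← map_rTensor_mul, ← PolynomialLaw.isCompat_apply', ← PolynomialLaw.isCompat_apply']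
  congr 1
  let j : MvPolynomial (Fin n) A →ₐ[A] MvPolynomial (Fin n) C := MvPolynomial.mapAlgHom (Algebra.ofId A C)
  let T : MvPolynomial (Fin n) A ⊗[A] C →ₐ[A] MvPolynomial (Fin n) C :=
    Algebra.TensorProduct.productMap j (IsScalarTower.toAlgHom A C _)
  have hT : Function.Injective T := by
    have : T = ((MvPolynomial.algebraTensorAlgEquiv A C).toAlgHom.restrictScalars A).comp
        (Algebra.TensorProduct.comm A _ C).toAlgHom := by
      refine Algebra.TensorProduct.ext' fun p c => ?_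
      simp [T, j, MvPolynomial.algebraTensorAlgEquiv_tmul, Algebra.smul_def, mul_comm]
    rw [this]
    exact (MvPolynomial.algebraTensorAlgEquiv A C).injective.comp (Algebra.TensorProduct.comm A _ C).injective
  have hN : ∀ z, T (F.law.toFun' _ z) = norm F (IsScalarTower.toAlgHom A C (MvPolynomial (Fin n) C))
      (Algebra.TensorProduct.map j (AlgHom.id A B) z) := fun z => by
    rw [norm, ← PolLaw.rTensor_algHom_apply, ← PolynomialLaw.isCompat_apply']
    induction F.law.toFun' (MvPolynomial (Fin n) A) z using TensorProduct.induction_on with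
    | zero => simp
    | tmul p c => simp [T, LinearMap.rTensor_tmul]
    | add a b ha hb => simp only [map_add, ha, hb]
  apply hT
  rw [hN, hN, map_add, map_mul, Algebra.TensorProduct.map_tmul, map_one]
  exact h n _ _

theorem norm_add_mul_of_mem_ker {b : B} (hb : b ∈ PolLaw.ker F.law) (x w : R ⊗[A] B) :
    norm F ψ (x + w * (1 ⊗ₜ[A] b)) = norm F ψ x := by
  rw [norm, hb R x w]; rfl

end Groth.Agent.ZC
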