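import Mathlib
import Groth.Agent.ZC.Norm

/-!
# Kernels of multiplicative laws
-/

open scoped TensorProduct

namespace Groth.Agent.ZC

universe u

variable {A : Type u} [CommRing A] {B C : Type u} [CommRing B] [Algebra A B] [CommRing C] [Algebra A C] {d : ℕ}

section General

variable (F : PolLaw.MulLaw A B C d) {R : Type u} [CommRing R] [Algebra A R] (ψ : C →ₐ[A] R)

/-- Evaluating at `r` undoes the inclusion of constants. -/
theorem map_eval_incC (r : R) (y : R ⊗[A] B) :
    Algebra.TensorProduct.map ((Polynomial.aeval r : Polynomial R →ₐ[R] R).restrictScalars A) (AlgHom.id A B) (incC y) = y := by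
  rw [incC]
  induction y using TensorProduct.induction_on with
  | zero => simp
  | tmul s b => simp [Polynomial.CAlgHom]
  | add x y hx hy => simp only [map_add, hx, hy]

theorem eval_norm (r : R) (z : Polynomial R ⊗[A] B) :
    (norm F (Polynomial.CAlgHom.comp ψ) z).eval r =
      norm F ψ (Algebra.TensorProduct.map ((Polynomial.aeval r : Polynomial R →ₐ[R] R).restrictScalars A)
        (AlgHom.id A B) z) := by
  have h := norm_map' F (Polynomial.CAlgHom.comp ψ) ((Polynomial.aeval r : Polynomial R →ₐ[R] R).restrictScalars A) z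
  rw [show ((Polynomial.aeval r : Polynomial R →ₐ[R] R).restrictScalars A).comp (Polynomial.CAlgHom.comp ψ) = ψ from
    AlgHom.ext fun c => by simp [Polynomial.CAlgHom]] at h
  rw [← h]
  simp [Polynomial.coe_aeval_eq_eval]

theorem norm_incC (y : R ⊗[A] B) :
    norm F (Polynomial.CAlgHom.comp ψ) (incC y) = Polynomial.C (norm F ψ y) :=
  (norm_map' F ψ Polynomial.CAlgHom y).symm

theorem chi_of_mem_ker {b : B} (hb : b ∈ PolLaw.ker F.law) :
    chi F ψ ((1 : R) ⊗ₜ[A] b) = (-Polynomial.X) ^ d := by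
  have h := norm_add_mul_of_mem_ker F (Polynomial.CAlgHom.comp ψ) hb
    ((-Polynomial.X : Polynomial R) ⊗ₜ[A] (1 : B)) 1
  rw [one_mul, show (-Polynomial.X : Polynomial R) ⊗ₜ[A] (1 : B) = algebraMap (Polynomial R) (Polynomial R ⊗[A] B) (-Polynomial.X) from rfl,
    norm_algebraMap] at h
  rw [chi, ← h]
  congr 1
  rw [incC, Algebra.TensorProduct.map_tmul, map_one, Algebra.TensorProduct.algebraMap_apply]
  simp only [Algebra.algebraMap_self, RingHom.id_apply, AlgHom.id_apply, TensorProduct.neg_tmul]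
  ring

theorem precomp_eq {B' : Type u} [CommRing B'] [Algebra A B'] (φ : B' →ₐ[A] B) :
    PolLaw.postcomp (AlgHom.id A C).toLinearMap (F.precomp φ).law = PolLaw.precomp F.law φ.toLinearMap := by
  refine PolynomialLaw.ext (funext fun S => funext fun _ => funext fun _ => funext fun x => ?_)
  show (LinearMap.id : C →ₗ[A] C).lTensor S _ = _
  simp only [LinearMap.lTensor_id, LinearMap.id_coe, id_eq]
  rfl

theorem norm_precomp {B' : Type u} [CommRing B'] [Algebra A B'] (φ : B' →ₐ[A] B) (z : R ⊗[A] B') :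
    norm (F.precomp φ) ψ z = norm F ψ (Algebra.TensorProduct.map (AlgHom.id A R) φ z) :=
  norm_map (F.precomp φ) ψ F ψ φ (AlgHom.id A C) (AlgHom.id A R) (precomp_eq F φ) rfl z

theorem chi_precomp {B' : Type u} [CommRing B'] [Algebra A B'] (φ : B' →ₐ[A] B) (y : R ⊗[A] B') :
    chi (F.precomp φ) ψ y = chi F ψ (Algebra.TensorProduct.map (AlgHom.id A R) φ y) := by
  have h := map_chi (F.precomp φ) ψ F ψ φ (AlgHom.id A C) (AlgHom.id A R) (precomp_eq F φ) rfl y
  exact (Polynomial.map_id).symm.trans h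

theorem comap_ker_le {B' : Type u} [CommRing B'] [Algebra A B'] (φ : B' →ₐ[A] B) :
    (PolLaw.ker F.law).comap φ ≤ PolLaw.ker (F.precomp φ).law := fun b hb =>
  mem_ker_of_norm _ fun n x w => by
    rw [norm_precomp, norm_precomp, map_add, map_mul, Algebra.TensorProduct.map_tmul, map_one]
    exact norm_add_mul_of_mem_ker F _ hb _ _

/-- Elements all of whose translates leave the law unchanged, over a base change. -/
def Inv {P : Type u} [CommRing P] [Algebra A P] (z : P ⊗[A] B) : Prop :=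
  ∀ (R : Type u) [CommRing R] [Algebra A R] (Φ : P →ₐ[A] R) (ψ : C →ₐ[A] R) (x w : R ⊗[A] B),
    norm F ψ (x + w * Algebra.TensorProduct.map Φ (AlgHom.id A B) z) = norm F ψ x

theorem Inv.map {P Q : Type u} [CommRing P] [Algebra A P] [CommRing Q] [Algebra A Q] {z : P ⊗[A] B}
    (hz : Inv F z) (Φ : P →ₐ[A] Q) : Inv F (Algebra.TensorProduct.map Φ (AlgHom.id A B) z) := by
  intro R _ _ Φ' ψ x w
  have h : Algebra.TensorProduct.map Φ' (AlgHom.id A B) (Algebra.TensorProduct.map Φ (AlgHom.id A B) z) =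
      Algebra.TensorProduct.map (Φ'.comp Φ) (AlgHom.id A B) z := by
    clear hz
    induction z using TensorProduct.induction_on with
    | zero => simp
    | tmul p b => simp
    | add x y hx hy => simp only [map_add, hx, hy]
  rw [h]
  exact hz R _ ψ x w

theorem inv_tmul {P : Type u} [CommRing P] [Algebra A P] (p : P) {b : B} (hb : b ∈ PolLaw.ker F.law) :
    Inv F (p ⊗ₜ[A] b) := by
  intro R _ _ Φ ψ x w
  rw [Algebra.TensorProduct.map_tmul, AlgHom.id_apply,
    show Φ p ⊗ₜ[A] b = (Φ p ⊗ₜ[A] (1 : B)) * (1 ⊗ₜ[A] b) by simp, ← mul_assoc]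
  exact norm_add_mul_of_mem_ker F ψ hb x _

theorem Inv.sub {P : Type u} [CommRing P] [Algebra A P] {z z' : P ⊗[A] B} (hz : Inv F z) (hz' : Inv F z') :
    Inv F (z - z') := by
  intro R _ _ Φ ψ x w
  have h1 := hz' R Φ ψ (x + w * Algebra.TensorProduct.map Φ (AlgHom.id A B) z) (-w)
  rw [hz R Φ ψ x w] at h1
  refine Eq.trans ?_ h1
  rw [map_sub]
  congr 1
  ring

/-- An invariant polynomial has its top coefficient in the kernel. -/
theorem top_mem_ker {m : ℕ} {b : ℕ → B}
    (hz : Inv F (∑ i ∈ Finset.range (m + 1), ((Polynomial.X : Polynomial A) ^ i) ⊗ₜ[A] b i)) :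
    b m ∈ PolLaw.ker F.law := by
  classical
  refine mem_ker_of_norm F fun n x w => ?_
  let R := MvPolynomial (Fin n) C
  let ψ := IsScalarTower.toAlgHom A C R
  let Q := Polynomial R
  let L := Localization.Away (Polynomial.X : Q)
  let ι : Q →ₐ[A] L := IsScalarTower.toAlgHom A Q L
  have hι : Function.Injective ι :=
    IsLocalization.injective L ((Submonoid.powers_le).2 Polynomial.monic_X.mem_nonZeroDivisors)
  let T : L := IsLocalization.Away.invSelf (Polynomial.X : Q)
  have hT : ι Polynomial.X * T = 1 := IsLocalization.Away.mul_invSelf _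
  let g : Q ⊗[A] B := ∑ i ∈ Finset.range (m + 1), ((Polynomial.X : Q) ^ (m - i)) ⊗ₜ[A] b i
  have key : norm F (Polynomial.CAlgHom.comp ψ) (incC x + incC w * g) = norm F (Polynomial.CAlgHom.comp ψ) (incC x) := by
    apply hι
    rw [norm_map', norm_map', map_add, map_mul]
    have hg : Algebra.TensorProduct.map ι (AlgHom.id A B) g =
        (((ι Polynomial.X) ^ m) ⊗ₜ[A] (1 : B)) * Algebra.TensorProduct.map (Polynomial.aeval T : Polynomial A →ₐ[A] L)
          (AlgHom.id A B) (∑ i ∈ Finset.range (m + 1), ((Polynomial.X : Polynomial A) ^ i) ⊗ₜ[A] b i) := by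
      rw [map_sum, map_sum, Finset.mul_sum]
      refine Finset.sum_congr rfl fun i hi => ?_
      have him : i ≤ m := Nat.lt_succ_iff.1 (Finset.mem_range.1 hi)
      simp only [Algebra.TensorProduct.map_tmul, map_pow, AlgHom.id_apply, Polynomial.aeval_X,
        Algebra.TensorProduct.tmul_mul_tmul, one_mul]
      congr 1
      calc ι Polynomial.X ^ (m - i) = ι Polynomial.X ^ (m - i) * (ι Polynomial.X * T) ^ i := by rw [hT, one_pow, mul_one]
        _ = _ := by rw [mul_pow, ← mul_assoc, ← pow_add, Nat.sub_add_cancel him]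
    rw [hg, ← mul_assoc]
    exact hz L _ _ _ _
  have h := congrArg (Polynomial.eval 0) key
  rw [eval_norm, eval_norm, map_add, map_mul, map_eval_incC, map_eval_incC, map_sum,
    Finset.sum_eq_single m] at h
  · simpa using h
  · intro i hi hne
    have : m - i ≠ 0 := by have := Finset.mem_range.1 hi; omega
    simp [zero_pow this]
  · simp

theorem mem_ker_of_inv_range {m : ℕ} {b : ℕ → B}
    (hz : Inv F (∑ i ∈ Finset.range m, ((Polynomial.X : Polynomial A) ^ i) ⊗ₜ[A] b i)) :
    ∀ i < m, b i ∈ PolLaw.ker F.law := by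
  induction m with
  | zero => simp
  | succ m ih =>
    intro i hi
    rcases Nat.lt_succ_iff_lt_or_eq.1 hi with h | h
    · refine ih ?_ i h
      have h2 := hz.sub F (inv_tmul F ((Polynomial.X : Polynomial A) ^ m) (top_mem_ker F hz))
      rwa [Finset.sum_range_succ, add_sub_cancel_right] at h2
    · exact h ▸ top_mem_ker F hz

/-- An invariant element over a polynomial ring lies in the extension of the kernel. -/
theorem mem_map_ker_of_inv {n : ℕ} {z : MvPolynomial (Fin n) A ⊗[A] B} (hz : Inv F z) :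
    z ∈ (PolLaw.ker F.law).map
      (Algebra.TensorProduct.includeRight : B →ₐ[A] MvPolynomial (Fin n) A ⊗[A] B) := by
  classical
  let cz := TensorProduct.equivFinsuppOfBasisLeft (MvPolynomial.basisMonomials (Fin n) A) z
  have hzc : z = cz.sum fun ν c => MvPolynomial.monomial ν (1 : A) ⊗ₜ[A] c := by
    conv_lhs => rw [← (TensorProduct.equivFinsuppOfBasisLeft (MvPolynomial.basisMonomials (Fin n) A)).symm_apply_apply
      z, TensorProduct.equivFinsuppOfBasisLeft_symm_apply]
    simp [cz]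
  obtain ⟨N, hN⟩ : ∃ N, ∀ ν ∈ cz.support, ∀ i, ν i < N :=
    ⟨(cz.support.sup fun ν => Finset.univ.sup fun i => ν i) + 1, fun ν hν i => Nat.lt_succ_of_le
      ((Finset.le_sup (f := fun i => ν i) (Finset.mem_univ i)).trans
        (Finset.le_sup (f := fun ν : Fin n →₀ ℕ => Finset.univ.sup fun i => ν i) hν))⟩
  let code : (Fin n →₀ ℕ) → ℕ := fun ν => ∑ i, ν i * N ^ (i : ℕ)
  have hcode : ∀ ν ∈ cz.support, ∀ μ ∈ cz.support, code ν = code μ → ν = μ := fun ν hν μ hμ he => by
    have h := finFunctionFinEquiv.injective (a₁ := fun i => (⟨ν i, hN ν hν i⟩ : Fin N))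
      (a₂ := fun i => (⟨μ i, hN μ hμ i⟩ : Fin N)) (Fin.ext (by
        rw [finFunctionFinEquiv_apply, finFunctionFinEquiv_apply]
        exact he))
    exact Finsupp.ext fun i => congrArg Fin.val (congrFun h i)
  let K : MvPolynomial (Fin n) A →ₐ[A] Polynomial A := MvPolynomial.aeval fun i => Polynomial.X ^ N ^ (i : ℕ)
  have hK : ∀ ν : Fin n →₀ ℕ, K (MvPolynomial.monomial ν 1) = Polynomial.X ^ code ν := fun ν => by
    rw [MvPolynomial.aeval_monomial, map_one, one_mul, Finsupp.prod_fintype _ _ (fun i => pow_zero _)]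
    simp only [← pow_mul, Finset.prod_pow_eq_pow_sum, code]
    congr 1
    exact Finset.sum_congr rfl fun i _ => mul_comm _ _
  let b : ℕ → B := fun j => ∑ ν ∈ cz.support, if code ν = j then cz ν else 0
  let m := (cz.support.sup code) + 1
  have hinv := hz.map F K
  have hsum : Algebra.TensorProduct.map K (AlgHom.id A B) z =
      ∑ i ∈ Finset.range m, ((Polynomial.X : Polynomial A) ^ i) ⊗ₜ[A] b i := by
    rw [hzc, map_finsuppSum]
    simp only [Algebra.TensorProduct.map_tmul, hK, AlgHom.id_apply, b, TensorProduct.tmul_sum]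
    rw [Finset.sum_comm]
    refine Finset.sum_congr rfl fun ν hν => ?_
    rw [Finset.sum_eq_single (code ν)]
    · simp
    · intro i _ hne; rw [if_neg (Ne.symm hne), TensorProduct.tmul_zero]
    · intro h; exact absurd (Finset.mem_range.2 (Nat.lt_succ_of_le (Finset.le_sup hν))) h
  rw [hsum] at hinv
  rw [hzc]
  refine Ideal.sum_mem _ fun ν hν => ?_
  have h := mem_ker_of_inv_range F hinv (code ν) (Nat.lt_succ_of_le (Finset.le_sup hν))
  simp only [b] at h
  rw [Finset.sum_eq_single ν] at h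
  · rw [if_pos rfl] at h
    beta_reduce
    rw [show MvPolynomial.monomial ν (1 : A) ⊗ₜ[A] cz ν =
      (MvPolynomial.monomial ν (1 : A) ⊗ₜ[A] (1 : B)) *
        (Algebra.TensorProduct.includeRight : B →ₐ[A] MvPolynomial (Fin n) A ⊗[A] B) (cz ν) by simp]
    exact Ideal.mul_mem_left _ _ (Ideal.mem_map_of_mem _ h)
  · intro μ hμ hne; exact if_neg fun he => hne (hcode μ hμ ν hν he)
  · intro h'; exact absurd hν h'

end General

section Valued

variable (F : PolLaw.MulLaw A B A d)

/-- The characteristic polynomial over the base, in the form of the statements. -/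
theorem chi_eq_rid (b : B) :
    chi F (AlgHom.id A A) ((1 : A) ⊗ₜ[A] b) = TensorProduct.rid A (Polynomial A)
      (F.law.toFun' (Polynomial A) ((1 : Polynomial A) ⊗ₜ[A] b - Polynomial.X ⊗ₜ[A] (1 : B))) := by
  rw [chi, norm, incC, Algebra.TensorProduct.map_tmul, map_one, AlgHom.id_apply]
  generalize F.law.toFun' (Polynomial A) ((1 : Polynomial A) ⊗ₜ[A] b - Polynomial.X ⊗ₜ[A] (1 : B)) = w
  induction w using TensorProduct.induction_on with
  | zero => simp
  | tmul p a => simp [Polynomial.CAlgHom, Algebra.smul_def, mul_comm]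
  | add x y hx hy => simp only [map_add, hx, hy]

theorem toAlgHom_eq {R : Type u} [CommRing R] [Algebra A R] (ψ : A →ₐ[A] R) : ψ = Algebra.ofId A R :=
  Subsingleton.elim _ _

theorem one_tmul_aeval {R : Type u} [CommRing R] [Algebra A R] (ψ : A →ₐ[A] R) (b : B) :
    (1 : R) ⊗ₜ[A] Polynomial.aeval b (chi F (AlgHom.id A A) ((1 : A) ⊗ₜ[A] b)) =
      Polynomial.aeval ((1 : R) ⊗ₜ[A] b) (chi F ψ ((1 : R) ⊗ₜ[A] b)) := by
  have h := map_chi' F (AlgHom.id A A) (Algebra.ofId A R) ((1 : A) ⊗ₜ[A] b)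
  rw [toAlgHom_eq ((Algebra.ofId A R).comp (AlgHom.id A A)), Algebra.TensorProduct.map_tmul,
    map_one, AlgHom.id_apply] at h
  rw [toAlgHom_eq ψ, ← h]
  refine Eq.trans ?_ (Polynomial.aeval_map_algebraMap (A := R) ((1 : R) ⊗ₜ[A] b) _).symm
  exact (Polynomial.aeval_algHom_apply (Algebra.TensorProduct.includeRight : B →ₐ[A] R ⊗[A] B) b _).symm

theorem aeval_chi_mem_ker (b : B) :
    Polynomial.aeval b (chi F (AlgHom.id A A) ((1 : A) ⊗ₜ[A] b)) ∈ PolLaw.ker F.law :=
  mem_ker_of_norm F fun n x w => by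
    rw [one_tmul_aeval F (IsScalarTower.toAlgHom A A (MvPolynomial (Fin n) A))]
    exact norm_add_mul_aeval_chi F _ _ _ _

theorem aeval_chi_of_mem_ker {b : B} (hb : b ∈ PolLaw.ker F.law) :
    Polynomial.aeval b (chi F (AlgHom.id A A) ((1 : A) ⊗ₜ[A] b)) = (-b) ^ d := by
  rw [chi_of_mem_ker F _ hb]; simp

/-- The Cayley–Hamilton elements of any base change lie in the extension of the kernel. -/
theorem aeval_chi_mem_map_ker {A' : Type u} [CommRing A'] [Algebra A A'] (y : A' ⊗[A] B) :
    Polynomial.aeval y (chi F (Algebra.ofId A A') y) ∈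
      (PolLaw.ker F.law).map (Algebra.TensorProduct.includeRight : B →ₐ[A] A' ⊗[A] B) := by
  obtain ⟨N, s, z', hz'⟩ := exists_lift_family (R := A') (AlgHom.id A B) Function.surjective_id ![y]
  have hinv : Inv F (Polynomial.aeval (z' 0) (chi F (Algebra.ofId A (MvPolynomial (Fin N) A)) (z' 0))) := by
    intro R _ _ Φ ψ x w
    rw [aeval_map_chi, map_chi', toAlgHom_eq (Φ.comp _), ← toAlgHom_eq ψ]
    exact norm_add_mul_aeval_chi F ψ _ _ _
  have h := Ideal.mem_map_of_mem (Algebra.TensorProduct.map (MvPolynomial.aeval s) (AlgHom.id A B))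
    (mem_map_ker_of_inv F hinv)
  rw [aeval_map_chi, map_chi', toAlgHom_eq ((MvPolynomial.aeval s).comp _), hz' 0, Ideal.map_mapₐ] at h
  rwa [show (Algebra.TensorProduct.map (MvPolynomial.aeval s) (AlgHom.id A B)).comp
      Algebra.TensorProduct.includeRight = Algebra.TensorProduct.includeRight from
    AlgHom.ext fun b => by simp] at h

theorem norm_eq_of_mem_kerBC {A' : Type u} [CommRing A'] [Algebra A A'] {z : A' ⊗[A] B}
    (hz : z ∈ PolLaw.kerBC F.law A') {R : Type u} [CommRing R] [Algebra A R] (Φ : A' →ₐ[A] R) (ψ : A →ₐ[A] R)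
    (x w : R ⊗[A] B) :
    norm F ψ (x + w * Algebra.TensorProduct.map Φ (AlgHom.id A B) z) = norm F ψ x := by
  let : Algebra A' R := Φ.toRingHom.toAlgebra
  have : IsScalarTower A A' R := IsScalarTower.of_algebraMap_eq fun a => (Φ.commutes a).symm
  have h := hz R x w
  rw [show IsScalarTower.toAlgHom A A' R = Φ from AlgHom.ext fun _ => rfl] at h
  rw [norm, h]; rfl

theorem chi_of_mem_kerBC {A' : Type u} [CommRing A'] [Algebra A A'] {z : A' ⊗[A] B}
    (hz : z ∈ PolLaw.kerBC F.law A') : chi F (Algebra.ofId A A') z = (-Polynomial.X) ^ d := by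
  have h := norm_eq_of_mem_kerBC F hz Polynomial.CAlgHom (Polynomial.CAlgHom.comp (Algebra.ofId A A'))
    ((-Polynomial.X : Polynomial A') ⊗ₜ[A] (1 : B)) 1
  rw [one_mul, show (-Polynomial.X : Polynomial A') ⊗ₜ[A] (1 : B) = algebraMap (Polynomial A') (Polynomial A' ⊗[A] B) (-Polynomial.X) from rfl,
    norm_algebraMap] at h
  rw [chi, ← h]
  congr 1
  rw [incC, Algebra.TensorProduct.algebraMap_apply]
  simp only [Algebra.algebraMap_self, RingHom.id_apply, TensorProduct.neg_tmul]
  ring

theorem map_ker_le_kerBC (A' : Type u) [CommRing A'] [Algebra A A'] :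
    (PolLaw.ker F.law).map (Algebra.TensorProduct.includeRight : B →ₐ[A] A' ⊗[A] B) ≤ PolLaw.kerBC F.law A' := by
  refine Ideal.map_le_iff_le_comap.2 fun b hb R _ _ _ _ x w => ?_
  rw [Algebra.TensorProduct.includeRight_apply, Algebra.TensorProduct.map_tmul, map_one]
  exact hb R x w

theorem kerBC_le_radical (A' : Type u) [CommRing A'] [Algebra A A'] :
    PolLaw.kerBC F.law A' ≤
      ((PolLaw.ker F.law).map (Algebra.TensorProduct.includeRight : B →ₐ[A] A' ⊗[A] B)).radical := fun z hz => by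
  have h := aeval_chi_mem_map_ker F z
  rw [chi_of_mem_kerBC F hz] at h
  simp only [map_pow, map_neg, Polynomial.aeval_X] at h
  refine ⟨d, ?_⟩
  rw [neg_pow] at h
  exact (Ideal.unit_mul_mem_iff_mem _ ((isUnit_one.neg).pow d)).1 h

theorem isIntegral_image : Algebra.IsIntegral A (PolLaw.image F.law) := by
  constructor
  intro z
  obtain ⟨b, rfl⟩ := Ideal.Quotient.mk_surjective z
  refine ⟨_, monic_neg_one_pow_mul_chi F (AlgHom.id A A) ((1 : A) ⊗ₜ[A] b), ?_⟩
  rw [← Polynomial.aeval_def, map_mul]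
  rw [show (Ideal.Quotient.mk (PolLaw.ker F.law) b) = Ideal.Quotient.mkₐ A (PolLaw.ker F.law) b from rfl,
    Polynomial.aeval_algHom_apply (Ideal.Quotient.mkₐ A (PolLaw.ker F.law)) b (chi F (AlgHom.id A A) ((1 : A) ⊗ₜ[A] b)),
    Ideal.Quotient.mkₐ_eq_mk, Ideal.Quotient.eq_zero_iff_mem.2 (aeval_chi_mem_ker F b), mul_zero]

/-- Over a domain the kernel is saturated. -/
theorem mem_ker_of_smul_mem [IsDomain A] {a : A} (ha : a ≠ 0) {b : B}
    (h : algebraMap A B a * b ∈ PolLaw.ker F.law) : b ∈ PolLaw.ker F.law := by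
  refine mem_ker_of_norm F fun n x w => ?_
  let R := MvPolynomial (Fin n) A
  let ψ := IsScalarTower.toAlgHom A A R
  let q : Polynomial R := norm F (Polynomial.CAlgHom.comp ψ)
    (incC x + (Polynomial.X ⊗ₜ[A] (1 : B)) * incC w * ((1 : Polynomial R) ⊗ₜ[A] b))
  let r : R := algebraMap A R a
  let S : Polynomial R →ₐ[A] Polynomial R :=
    (Polynomial.aeval (Polynomial.C r * Polynomial.X) : Polynomial R →ₐ[R] Polynomial R).restrictScalars A
  have hS : ∀ y : R ⊗[A] B, Algebra.TensorProduct.map S (AlgHom.id A B) (incC y) = incC y := fun y => by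
    rw [incC]
    induction y using TensorProduct.induction_on with
    | zero => simp
    | tmul s b => simp [S, Polynomial.CAlgHom]
    | add x y hx hy => simp only [map_add, hx, hy]
  have hq : S q = Polynomial.C (norm F ψ x) := by
    rw [norm_map', toAlgHom_eq (S.comp _), ← toAlgHom_eq (Polynomial.CAlgHom.comp ψ), map_add, map_mul, map_mul,
      hS, hS, ← norm_incC]
    simp only [Algebra.TensorProduct.map_tmul, map_one, AlgHom.id_apply]
    have hab : (S Polynomial.X ⊗ₜ[A] (1 : B)) * incC w * ((1 : Polynomial R) ⊗ₜ[A] b) =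
        (Polynomial.X ⊗ₜ[A] (1 : B)) * incC w * ((1 : Polynomial R) ⊗ₜ[A] (algebraMap A B a * b)) := by
      have h1 : S Polynomial.X = a • Polynomial.X := by
        simp [S, r, Algebra.smul_def, IsScalarTower.algebraMap_eq A R (Polynomial R)]
      rw [h1, ← Algebra.smul_def, TensorProduct.tmul_smul, ← TensorProduct.smul_tmul', smul_mul_assoc,
        smul_mul_assoc, mul_smul_comm]
    rw [hab]
    exact norm_add_mul_of_mem_ker F _ h _ _
  have hr : r ≠ 0 := fun h0 => ha (MvPolynomial.C_injective (Fin n) A (by simpa [r] using h0))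
  have hconst : q = Polynomial.C (norm F ψ x) := by
    refine Polynomial.ext fun k => ?_
    have hk := congrArg (Polynomial.coeff · k) hq
    simp only [S, AlgHom.coe_restrictScalars', ← Polynomial.comp_eq_aeval, Polynomial.coeff_C] at hk
    rw [Polynomial.comp_C_mul_X_coeff] at hk
    rw [Polynomial.coeff_C]
    by_cases h0 : k = 0
    · subst h0; simpa using hk
    · rw [if_neg h0] at hk ⊢
      exact (mul_eq_zero.1 hk).resolve_right (pow_ne_zero _ hr)
  have h1 := congrArg (Polynomial.eval 1) hconst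
  rw [eval_norm, map_add, map_mul, map_mul, map_eval_incC, map_eval_incC, Polynomial.eval_C] at h1
  simpa [← Algebra.TensorProduct.one_def] using h1

end Valued

theorem isReduced_polynomial {R : Type u} [CommRing R] [IsReduced R] : IsReduced (Polynomial R) :=
  ⟨fun p hp => Polynomial.ext fun k => (Polynomial.isNilpotent_iff.1 hp k).eq_zero.trans (Polynomial.coeff_zero k).symm⟩

theorem norm_add_mul_of_sq_mem {R : Type u} [CommRing R] [Algebra A R] [IsReduced R] (F : PolLaw.MulLaw A B C d)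
    (ψ : C →ₐ[A] R) {b : B} (h : b * b ∈ PolLaw.ker F.law) (x w : R ⊗[A] B) :
    norm F ψ (x + w * (1 ⊗ₜ[A] b)) = norm F ψ x := by
  let Q := Polynomial R
  let ψQ : C →ₐ[A] Q := Polynomial.CAlgHom.comp ψ
  let x' : Q ⊗[A] B := incC x - Polynomial.X ⊗ₜ[A] (1 : B)
  let v : Q ⊗[A] B := incC w * ((1 : Q) ⊗ₜ[A] b)
  let q : Polynomial Q := norm F (Polynomial.CAlgHom.comp ψQ) (incC x' + (Polynomial.X ⊗ₜ[A] (1 : B)) * incC v)
  let Sn : Polynomial Q →ₐ[A] Polynomial Q :=
    (Polynomial.aeval (-Polynomial.X) : Polynomial Q →ₐ[Q] Polynomial Q).restrictScalars A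
  have hSn : ∀ y : Q ⊗[A] B, Algebra.TensorProduct.map Sn (AlgHom.id A B) (incC y) = incC y := fun y => by
    rw [incC]
    induction y using TensorProduct.induction_on with
    | zero => simp
    | tmul s b => simp [Sn, Polynomial.CAlgHom]
    | add x y hx hy => simp only [map_add, hx, hy]
  have hprod : q * Sn q = Polynomial.C (chi F ψ x ^ 2) := by
    have hsn : Sn.comp (Polynomial.CAlgHom.comp ψQ) = Polynomial.CAlgHom.comp ψQ :=
      AlgHom.ext fun c => by simp [Sn, Polynomial.CAlgHom]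
    show q * Sn (norm F (Polynomial.CAlgHom.comp ψQ) (incC x' + (Polynomial.X ⊗ₜ[A] (1 : B)) * incC v)) = _
    have hm := norm_map' (R := Polynomial Q) (R' := Polynomial Q) F (Polynomial.CAlgHom.comp ψQ) Sn (incC x' + (Polynomial.X ⊗ₜ[A] (1 : B)) * incC v)
    rw [hsn] at hm
    rw [hm, show q = norm F (Polynomial.CAlgHom.comp ψQ) (incC x' + (Polynomial.X ⊗ₜ[A] (1 : B)) * incC v) from rfl,
      ← norm_mul, map_add, map_mul (Algebra.TensorProduct.map Sn (AlgHom.id A B)), hSn, hSn, Algebra.TensorProduct.map_tmul,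
      show chi F ψ x = norm F ψQ x' from rfl, ← norm_pow, ← norm_incC]
    have hbb : (incC x' + (Polynomial.X ⊗ₜ[A] (1 : B)) * incC v) * (incC x' + (Sn Polynomial.X ⊗ₜ[A] (AlgHom.id A B) 1) * incC v) =
        incC (x' ^ 2) + (-((Polynomial.X ⊗ₜ[A] (1 : B)) ^ 2) * incC (incC w) ^ 2) * ((1 : Polynomial Q) ⊗ₜ[A] (b * b)) := by
      have h1 : Sn Polynomial.X ⊗ₜ[A] (AlgHom.id A B) 1 = -((Polynomial.X : Polynomial Q) ⊗ₜ[A] (1 : B)) := by
        simp [Sn, TensorProduct.neg_tmul]
      have h2 : incC v = incC (incC w) * ((1 : Polynomial Q) ⊗ₜ[A] b) := by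
        simp [v, incC, map_mul]
      have h3 : ((1 : Polynomial Q) ⊗ₜ[A] (b * b)) = ((1 : Polynomial Q) ⊗ₜ[A] b) ^ 2 := by
        rw [sq, Algebra.TensorProduct.tmul_mul_tmul, one_mul]
      rw [h1, h2, h3, map_pow]
      ring
    rw [hbb]
    exact norm_add_mul_of_mem_ker F _ h _ _
  have hreg : chi F ψ x ∈ nonZeroDivisors Q := by
    have hm := monic_neg_one_pow_mul_chi F ψ x
    have h2 : Polynomial.C ((-1 : R) ^ d) * chi F ψ x ∈ nonZeroDivisors Q := hm.mem_nonZeroDivisors
    exact (mul_mem_nonZeroDivisors.1 h2).2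
  have hred : ∀ k ≠ 0, q.coeff k = 0 := fun k hk => by
    have : IsReduced Q := isReduced_polynomial
    refine IsNilpotent.eq_zero ((nilpotent_iff_mem_prime).2 fun p hp => ?_)
    obtain ⟨p₀, hp₀, hle⟩ := Ideal.exists_minimalPrimes_le (bot_le : ⊥ ≤ p)
    refine hle ?_
    have : p₀.IsPrime := hp₀.1.1
    have ha : Ideal.Quotient.mk p₀ (chi F ψ x ^ 2) ≠ 0 := fun h0 =>
      Set.disjoint_left.1 (Ideal.disjoint_nonZeroDivisors_of_mem_minimalPrimes hp₀)
        (this.mem_of_pow_mem 2 (Ideal.Quotient.eq_zero_iff_mem.1 h0)) hreg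
    have hmap := congrArg (Polynomial.map (Ideal.Quotient.mk p₀)) hprod
    rw [Polynomial.map_mul, Polynomial.map_C] at hmap
    have hne : q.map (Ideal.Quotient.mk p₀) ≠ 0 := fun h0 => by
      rw [h0, zero_mul] at hmap
      exact ha (Polynomial.C_eq_zero.1 hmap.symm)
    have hne' : (Sn q).map (Ideal.Quotient.mk p₀) ≠ 0 := fun h0 => by
      rw [h0, mul_zero] at hmap
      exact ha (Polynomial.C_eq_zero.1 hmap.symm)
    have hdeg := congrArg Polynomial.natDegree hmap
    rw [Polynomial.natDegree_mul hne hne', Polynomial.natDegree_C, Nat.add_eq_zero_iff] at hdeg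
    rw [← Ideal.Quotient.eq_zero_iff_mem, ← Polynomial.coeff_map]
    exact Polynomial.coeff_eq_zero_of_natDegree_lt (hdeg.1 ▸ Nat.pos_of_ne_zero hk)
  have hev : q.eval 1 = q.eval 0 := by
    rw [show q = Polynomial.C (q.coeff 0) from Polynomial.ext fun k => by
      by_cases hk : k = 0
      · subst hk; simp
      · rw [hred k hk, Polynomial.coeff_C, if_neg hk]]
    simp
  rw [eval_norm, eval_norm] at hev
  simp only [map_add, map_mul, map_eval_incC, v] at hev
  have h1 := congrArg (Polynomial.eval 0) hev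
  simp only [Algebra.TensorProduct.map_tmul, AlgHom.coe_restrictScalars', Polynomial.aeval_X, AlgHom.id_apply,
    TensorProduct.zero_tmul, zero_mul, add_zero, ← Algebra.TensorProduct.one_def, one_mul, x', v, ψQ] at h1
  rw [eval_norm, eval_norm] at h1
  simp only [map_add, map_sub, map_mul, map_eval_incC, Algebra.TensorProduct.map_tmul, AlgHom.coe_restrictScalars',
    Polynomial.aeval_X, map_one, AlgHom.id_apply, TensorProduct.zero_tmul, sub_zero] at h1
  exact h1

/-- The kernel of a law with reduced target is radical. -/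
theorem mem_ker_of_sq_mem [IsReduced C] (F : PolLaw.MulLaw A B C d) {b : B} (h : b * b ∈ PolLaw.ker F.law) :
    b ∈ PolLaw.ker F.law :=
  mem_ker_of_norm F fun _ x w => norm_add_mul_of_sq_mem F _ h x w

end Groth.Agent.ZC
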