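import Mathlib
import Groth.Agent.ZC.Kernel

/-!
# Fibres, openness and components of the image of a family of zero-cycles
-/

open scoped TensorProduct

namespace Groth.Agent.ZC

universe u

variable {A : Type u} [CommRing A] {B : Type u} [CommRing B] [Algebra A B] {d : ℕ}
  (F : PolLaw.MulLaw A B A d)

/-- The base change of the quotient map. -/
noncomputable def imageMap (A' : Type u) [CommRing A'] [Algebra A A'] :
    A' ⊗[A] B →ₐ[A'] A' ⊗[A] PolLaw.image F.law :=
  Algebra.TensorProduct.map (AlgHom.id A' A') (Ideal.Quotient.mkₐ A (PolLaw.ker F.law))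

theorem imageMap_surjective (A' : Type u) [CommRing A'] [Algebra A A'] : Function.Surjective (imageMap F A') :=
  LinearMap.lTensor_surjective A' (g := (Ideal.Quotient.mkₐ A (PolLaw.ker F.law)).toLinearMap)
    (Ideal.Quotient.mkₐ_surjective A _)

theorem ker_imageMap (A' : Type u) [CommRing A'] [Algebra A A'] :
    RingHom.ker (imageMap F A') =
      (PolLaw.ker F.law).map (Algebra.TensorProduct.includeRight : B →ₐ[A] A' ⊗[A] B) := by
  have h := Algebra.TensorProduct.lTensor_ker (A := A') (Ideal.Quotient.mkₐ A (PolLaw.ker F.law))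
    (Ideal.Quotient.mkₐ_surjective A _)
  rw [show RingHom.ker (Ideal.Quotient.mkₐ A (PolLaw.ker F.law)) = PolLaw.ker F.law from Ideal.mk_ker] at h
  exact h

/-- The monic equation satisfied by an element of the image. -/
noncomputable def eqn {A' : Type u} [CommRing A'] [Algebra A A'] (y : A' ⊗[A] B) : Polynomial A' :=
  Polynomial.C ((-1) ^ d) * chi F (Algebra.ofId A A') y

theorem monic_eqn {A' : Type u} [CommRing A'] [Algebra A A'] (y : A' ⊗[A] B) : (eqn F y).Monic :=
  monic_neg_one_pow_mul_chi F _ y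

theorem natDegree_eqn {A' : Type u} [CommRing A'] [Algebra A A'] (y : A' ⊗[A] B) : (eqn F y).natDegree ≤ d :=
  (Polynomial.natDegree_C_mul_le _ _).trans (natDegree_chi_le F _ y)

theorem aeval_eqn {A' : Type u} [CommRing A'] [Algebra A A'] (y : A' ⊗[A] B) :
    Polynomial.aeval (imageMap F A' y) (eqn F y) = 0 := by
  rw [Polynomial.aeval_algHom_apply, eqn, map_mul, map_mul]
  have h : imageMap F A' (Polynomial.aeval y (chi F (Algebra.ofId A A') y)) = 0 := by
    rw [← RingHom.mem_ker, ker_imageMap]; exact aeval_chi_mem_map_ker F y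
  rw [h, mul_zero]

theorem isIntegral_baseChange (A' : Type u) [CommRing A'] [Algebra A A'] :
    Algebra.IsIntegral A' (A' ⊗[A] PolLaw.image F.law) :=
  ⟨fun z => by
    obtain ⟨y, rfl⟩ := imageMap_surjective F A' z
    exact ⟨eqn F y, monic_eqn F y, by rw [← Polynomial.aeval_def]; exact aeval_eqn F y⟩⟩

/-- An algebra over an infinite field all whose elements have degree at most `d` has at most `d` primes. -/
theorem not_injective_of_degree_le {K L : Type u} [Field K] [Infinite K] [CommRing L] [Algebra K L]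
    (h : ∀ z : L, ∃ p : Polynomial K, p.Monic ∧ p.natDegree ≤ d ∧ Polynomial.aeval z p = 0)
    (f : Fin (d + 1) → PrimeSpectrum L) : ¬ Function.Injective f := fun hf => by
  classical
  have : Algebra.IsIntegral K L := ⟨fun z => by
    obtain ⟨p, hp, -, hz⟩ := h z
    exact ⟨p, hp, hz⟩⟩
  have hmax : ∀ P : PrimeSpectrum L, P.asIdeal.IsMaximal := fun P =>
    Ideal.isMaximal_of_isIntegral_of_isMaximal_comap P.asIdeal (by
      rw [show P.asIdeal.comap (algebraMap K L) = ⊥ from Ideal.eq_bot_of_prime _]
      exact Ideal.bot_isMaximal)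
  have hcop : Pairwise (Function.onFun IsCoprime fun i => (f i).asIdeal) := fun i j hij =>
    Ideal.isCoprime_iff_sup_eq.2 ((hmax (f i)).coprime_of_ne (hmax (f j)) fun he => hij (hf (PrimeSpectrum.ext he)))
  let c : Fin (d + 1) → K := fun i => Infinite.natEmbedding K i
  have hc : Function.Injective c := (Infinite.natEmbedding K).injective.comp Fin.val_injective
  obtain ⟨z, hz⟩ := Ideal.exists_forall_sub_mem_ideal hcop fun i => algebraMap K L (c i)
  obtain ⟨p, hp, hdeg, hpz⟩ := h z
  have hroot : ∀ i, p.IsRoot (c i) := fun i => by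
    by_contra hne
    refine (f i).isPrime.ne_top (Ideal.eq_top_of_isUnit_mem _ (x := algebraMap K L (p.eval (c i))) ?_
      ((IsUnit.mk0 _ hne).map _))
    have hm : Ideal.Quotient.mk (f i).asIdeal (algebraMap K L (p.eval (c i))) = 0 := by
      have e : ∀ w, Ideal.Quotient.mk (f i).asIdeal (Polynomial.aeval w p) =
          Polynomial.aeval (Ideal.Quotient.mk (f i).asIdeal w) p := fun w =>
        (Polynomial.aeval_algHom_apply (Ideal.Quotient.mkₐ K (f i).asIdeal) w p).symm
      have e2 : algebraMap K L (p.eval (c i)) = Polynomial.aeval (algebraMap K L (c i)) p := by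
        rw [Polynomial.aeval_algebraMap_apply, Polynomial.coe_aeval_eq_eval]
      rw [e2, e, ← (Ideal.Quotient.mk_eq_mk_iff_sub_mem _ _).2 (hz i), ← e, hpz, map_zero]
    exact Ideal.Quotient.eq_zero_iff_mem.1 hm
  have hcard := Polynomial.card_roots' p
  have hsub : Finset.univ.image c ⊆ p.roots.toFinset := fun x hx => by
    obtain ⟨i, -, rfl⟩ := Finset.mem_image.1 hx
    exact Multiset.mem_toFinset.2 ((Polynomial.mem_roots hp.ne_zero).2 (hroot i))
  have := (Finset.card_le_card hsub).trans (Multiset.toFinset_card_le _)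
  rw [Finset.card_image_of_injective _ hc, Finset.card_univ, Fintype.card_fin] at this
  omega

theorem finite_and_card_le {α : Type*} {d : ℕ} (h : ∀ f : Fin (d + 1) → α, ¬ Function.Injective f) :
    Finite α ∧ Nat.card α ≤ d := by
  have hfin : Finite α := by
    by_contra hinf
    rw [not_finite_iff_infinite] at hinf
    exact h _ ((Infinite.natEmbedding α).injective.comp Fin.val_injective)
  refine ⟨hfin, ?_⟩
  by_contra hlt
  have := Fintype.ofFinite α
  rw [Nat.card_eq_fintype_card, not_le] at hlt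
  exact h (fun i => (Fintype.equivFin α).symm (Fin.castLE hlt i))
    ((Fintype.equivFin α).symm.injective.comp (Fin.castLE_injective hlt))

theorem exists_point_over {K : Type u} [Field K] [Algebra A K] (P : PrimeSpectrum (K ⊗[A] PolLaw.image F.law)) :
    ∃ Q : PrimeSpectrum (AlgebraicClosure K ⊗[A] PolLaw.image F.law),
      Q.comap (Algebra.TensorProduct.map (IsScalarTower.toAlgHom A K (AlgebraicClosure K))
        (AlgHom.id A (PolLaw.image F.law))).toRingHom = P := by
  have : Algebra.IsIntegral K (K ⊗[A] PolLaw.image F.law) := isIntegral_baseChange F K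
  have hPmax : P.asIdeal.IsMaximal :=
    Ideal.isMaximal_of_isIntegral_of_isMaximal_comap P.asIdeal (by
      rw [show P.asIdeal.comap (algebraMap K (K ⊗[A] PolLaw.image F.law)) = ⊥ from Ideal.eq_bot_of_prime _]
      exact Ideal.bot_isMaximal)
  let := Ideal.Quotient.field P.asIdeal
  have : Algebra.IsAlgebraic K ((K ⊗[A] PolLaw.image F.law) ⧸ P.asIdeal) := by
    have : Algebra.IsIntegral K ((K ⊗[A] PolLaw.image F.law) ⧸ P.asIdeal) :=
      Algebra.IsIntegral.of_surjective (Ideal.Quotient.mkₐ K P.asIdeal) (Ideal.Quotient.mkₐ_surjective K _)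
    exact Algebra.IsIntegral.isAlgebraic
  let h : K ⊗[A] PolLaw.image F.law →ₐ[K] AlgebraicClosure K :=
    (IsAlgClosed.lift : ((K ⊗[A] PolLaw.image F.law) ⧸ P.asIdeal) →ₐ[K] AlgebraicClosure K).comp
      (Ideal.Quotient.mkₐ K P.asIdeal)
  let g : AlgebraicClosure K ⊗[A] PolLaw.image F.law →ₐ[AlgebraicClosure K] AlgebraicClosure K :=
    Algebra.TensorProduct.lift (Algebra.ofId _ _)
      ((h.restrictScalars A).comp Algebra.TensorProduct.includeRight) fun _ _ => Commute.all _ _
  refine ⟨⟨RingHom.ker g.toRingHom, RingHom.ker_isPrime _⟩, PrimeSpectrum.ext ?_⟩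
  have hg : ∀ z, g (Algebra.TensorProduct.map (IsScalarTower.toAlgHom A K (AlgebraicClosure K))
      (AlgHom.id A (PolLaw.image F.law)) z) = h z := fun z => by
    induction z using TensorProduct.induction_on with
    | zero => simp
    | tmul k x =>
      rw [show k ⊗ₜ[A] x = k • ((1 : K) ⊗ₜ[A] x) by simp [TensorProduct.smul_tmul']]
      simp [g, TensorProduct.smul_tmul', Algebra.smul_def, Algebra.ofId_apply]
      rw [← h.commutes, ← map_mul]
      simp [Algebra.TensorProduct.algebraMap_apply]
    | add x y hx hy => simp only [map_add, hx, hy]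
  ext z
  show g (Algebra.TensorProduct.map _ _ z) = 0 ↔ _
  rw [hg, AlgHom.comp_apply, map_eq_zero, Ideal.Quotient.mkₐ_eq_mk,
    Ideal.Quotient.eq_zero_iff_mem]

/-- Every geometric fibre has at most `d` points, hence every fibre. -/
theorem fibre (K : Type u) [Field K] [Algebra A K] :
    Finite (PrimeSpectrum (K ⊗[A] PolLaw.image F.law)) ∧
      Nat.card (PrimeSpectrum (K ⊗[A] PolLaw.image F.law)) ≤ d := by
  refine finite_and_card_le fun f hf => ?_
  choose Q hQ using fun i => exists_point_over F (f i)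
  refine not_injective_of_degree_le (d := d) (K := AlgebraicClosure K) (fun z => ?_) Q
    fun i j hij => hf (by rw [← hQ i, ← hQ j, hij])
  obtain ⟨y, rfl⟩ := imageMap_surjective F (AlgebraicClosure K) z
  exact ⟨eqn F y, monic_eqn F y, natDegree_eqn F y, aeval_eqn F y⟩

/-- The points over a prime are at most `d`. -/
theorem finite_preimage (A' : Type u) [CommRing A'] [Algebra A A'] (q : PrimeSpectrum A') :
    Finite (PrimeSpectrum.comap (algebraMap A' (A' ⊗[A] PolLaw.image F.law)) ⁻¹' {q}) ∧
      Nat.card (PrimeSpectrum.comap (algebraMap A' (A' ⊗[A] PolLaw.image F.law)) ⁻¹' {q}) ≤ d := by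
  let e := (PrimeSpectrum.preimageEquivFiber A' (A' ⊗[A] PolLaw.image F.law) q).trans
    (PrimeSpectrum.comapEquiv (Algebra.TensorProduct.cancelBaseChange A A' q.asIdeal.ResidueField
      q.asIdeal.ResidueField (PolLaw.image F.law)).toRingEquiv).toEquiv
  obtain ⟨h1, h2⟩ := fibre F q.asIdeal.ResidueField
  exact ⟨Finite.of_equiv _ e.symm, (Nat.card_congr e).trans_le h2⟩

theorem chi_pow_dvd {A' : Type u} [CommRing A'] [Algebra A A'] (y : A' ⊗[A] B) {m : ℕ} :
    chi F (Algebra.ofId A A') y ∣
      (chi F (Algebra.ofId A A') (y ^ m)).comp (Polynomial.X ^ m) := by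
  let Φ : Polynomial A' →ₐ[A] Polynomial A' :=
    (Polynomial.aeval (Polynomial.X ^ m) : Polynomial A' →ₐ[A'] Polynomial A').restrictScalars A
  have hinc : ∀ z : A' ⊗[A] B, Algebra.TensorProduct.map Φ (AlgHom.id A B) (incC z) = incC z := fun z => by
    rw [incC]
    induction z using TensorProduct.induction_on with
    | zero => simp
    | tmul s b => simp [Φ, Polynomial.CAlgHom]
    | add x y hx hy => simp only [map_add, hx, hy]
  have h := norm_map' (R := Polynomial A') (R' := Polynomial A') F (Polynomial.CAlgHom.comp (Algebra.ofId A A')) Φ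
    (incC (y ^ m) - Polynomial.X ⊗ₜ[A] (1 : B))
  rw [toAlgHom_eq (Φ.comp _), ← toAlgHom_eq (Polynomial.CAlgHom.comp (Algebra.ofId A A')), map_sub, hinc,
    Algebra.TensorProduct.map_tmul, map_one] at h
  have hx : (Φ Polynomial.X) ⊗ₜ[A] (1 : B) = ((Polynomial.X : Polynomial A') ⊗ₜ[A] (1 : B)) ^ m := by
    simp [Φ]
  rw [hx, map_pow] at h
  obtain ⟨g, hg⟩ := sub_dvd_pow_sub_pow (incC y) ((Polynomial.X : Polynomial A') ⊗ₜ[A] (1 : B)) m
  rw [hg, norm_mul] at h
  refine ⟨_, Eq.trans ?_ h⟩
  simp [chi, Φ, Polynomial.comp_eq_aeval, map_pow]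

/-- Reduced base: a nilpotent element of the fibre has trivial characteristic polynomial. -/
theorem eqn_eq_X_pow {K : Type u} [Field K] [Algebra A K] {y : K ⊗[A] B} (hy : IsNilpotent (imageMap F K y)) :
    eqn F y = Polynomial.X ^ d := by
  obtain ⟨m, hm⟩ := hy
  have hker : y ^ m ∈ PolLaw.kerBC F.law K := map_ker_le_kerBC F K (by
    rw [← ker_imageMap, RingHom.mem_ker, map_pow, hm])
  have h := chi_pow_dvd F y (m := m)
  rw [chi_of_mem_kerBC F hker, Polynomial.pow_comp, Polynomial.neg_comp, Polynomial.X_comp, neg_pow,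
    ← pow_mul] at h
  have h' : eqn F y ∣ Polynomial.X ^ (m * d) := by
    rw [eqn]
    have hu : IsUnit (Polynomial.C ((-1 : K) ^ d)) := ((isUnit_one.neg).pow d).map _
    exact (hu.mul_left_dvd).2 ((((isUnit_one.neg).pow d).dvd_mul_left).1 h)
  obtain ⟨j, -, hj⟩ := (dvd_prime_pow Polynomial.prime_X _).1 h'
  have hej : eqn F y = Polynomial.X ^ j :=
    Polynomial.eq_of_monic_of_associated (monic_eqn F y) (Polynomial.monic_X_pow j) hj
  have hd : (eqn F y).coeff d = 1 := by
    rw [eqn, Polynomial.coeff_C_mul, coeff_chi_top, ← mul_pow, neg_mul_neg, one_mul, one_pow]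
  rw [hej, Polynomial.coeff_X_pow] at hd
  rw [hej]
  split_ifs at hd with he
  · rw [he]
  · exact absurd hd zero_ne_one

/-- The image of a basic open set. -/
theorem image_basicOpen {A' : Type u} [CommRing A'] [Algebra A A'] (y : A' ⊗[A] B) :
    PrimeSpectrum.comap (algebraMap A' (A' ⊗[A] PolLaw.image F.law)) ''
        (PrimeSpectrum.basicOpen (imageMap F A' y) : Set (PrimeSpectrum (A' ⊗[A] PolLaw.image F.law))) =
      ⋃ i ∈ Finset.range d, (PrimeSpectrum.basicOpen ((eqn F y).coeff i) : Set (PrimeSpectrum A')) := by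
  ext q
  simp only [Set.mem_image, Set.mem_iUnion, exists_prop, Finset.mem_range]
  constructor
  · rintro ⟨P, hP, rfl⟩
    by_contra hall
    push Not at hall
    refine hP (P.isPrime.mem_of_pow_mem d ?_)
    have h := aeval_eqn F y
    rw [Polynomial.aeval_eq_sum_range' (n := d + 1) (Nat.lt_succ_of_le (natDegree_eqn F y)),
      Finset.sum_range_succ] at h
    have hd : (eqn F y).coeff d = 1 := by
      rw [eqn, Polynomial.coeff_C_mul, coeff_chi_top, ← mul_pow, neg_mul_neg, one_mul, one_pow]
    rw [hd, one_smul, add_eq_zero_iff_eq_neg'] at h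
    rw [h]
    refine neg_mem (Ideal.sum_mem _ fun i hi => ?_)
    rw [Algebra.smul_def]
    refine Ideal.mul_mem_right _ _ ?_
    have := hall i (Finset.mem_range.1 hi)
    simpa [PrimeSpectrum.mem_basicOpen] using this
  · rintro ⟨i, hi, hqi⟩
    let K := q.asIdeal.ResidueField
    let f : A' ⊗[A] PolLaw.image F.law →ₐ[A] K ⊗[A] PolLaw.image F.law :=
      Algebra.TensorProduct.map (IsScalarTower.toAlgHom A A' K) (AlgHom.id A _)
    let yK : K ⊗[A] B := Algebra.TensorProduct.map (IsScalarTower.toAlgHom A A' K) (AlgHom.id A B) y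
    have hf : f (imageMap F A' y) = imageMap F K yK := by
      simp only [f, yK]
      clear hqi yK
      induction y using TensorProduct.induction_on with
      | zero => simp
      | tmul s b => simp [imageMap]
      | add x y hx hy => simp only [map_add, hx, hy]
    have hnil : ¬ IsNilpotent (imageMap F K yK) := fun hn => by
      have h := congrArg (Polynomial.coeff · i) (eqn_eq_X_pow F hn)
      have hmap : eqn F yK = (eqn F y).map (IsScalarTower.toAlgHom A A' K).toRingHom := by
        rw [eqn, eqn, Polynomial.map_mul, Polynomial.map_C, map_chi', toAlgHom_eq (AlgHom.comp _ _)]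
        simp [yK]
      simp only [hmap, Polynomial.coeff_map, Polynomial.coeff_X_pow, if_neg hi.ne] at h
      exact hqi (Ideal.algebraMap_residueField_eq_zero.1 h)
    rw [nilpotent_iff_mem_prime] at hnil
    push Not at hnil
    obtain ⟨Q, hQp, hQ⟩ := hnil
    refine ⟨⟨Q.comap f, Ideal.comap_isPrime f Q⟩, fun h => hQ (hf ▸ h), PrimeSpectrum.ext ?_⟩
    show (Q.comap f).comap (algebraMap A' _) = q.asIdeal
    have hc : (algebraMap K (K ⊗[A] PolLaw.image F.law)).comp (algebraMap A' K) =
        f.toRingHom.comp (algebraMap A' (A' ⊗[A] PolLaw.image F.law)) := by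
      ext a
      simp [f]
    rw [show (Q.comap f).comap (algebraMap A' (A' ⊗[A] PolLaw.image F.law)) =
      Q.comap (f.toRingHom.comp (algebraMap A' (A' ⊗[A] PolLaw.image F.law))) from rfl, ← hc, ← Ideal.comap_comap,
      Ideal.eq_bot_of_prime (Q.comap (algebraMap K (K ⊗[A] PolLaw.image F.law)))]
    exact Ideal.ker_algebraMap_residueField _

theorem isOpenMap_baseChange (A' : Type u) [CommRing A'] [Algebra A A'] :
    IsOpenMap (PrimeSpectrum.comap (algebraMap A' (A' ⊗[A] PolLaw.image F.law))) := by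
  refine PrimeSpectrum.isTopologicalBasis_basic_opens.isOpenMap_iff.2 ?_
  rintro _ ⟨z, rfl⟩
  obtain ⟨y, rfl⟩ := imageMap_surjective F A' z
  beta_reduce
  rw [image_basicOpen]
  exact isOpen_biUnion fun i _ => (PrimeSpectrum.basicOpen _).2

theorem generalizingMap_baseChange (A' : Type u) [CommRing A'] [Algebra A A'] :
    GeneralizingMap (PrimeSpectrum.comap (algebraMap A' (A' ⊗[A] PolLaw.image F.law))) := by
  intro P q hq
  by_contra hcon
  simp only [not_exists, not_and] at hcon
  have hfin := (finite_preimage F A' q).1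
  rw [Set.finite_coe_iff] at hfin
  let U : Set (PrimeSpectrum (A' ⊗[A] PolLaw.image F.law)) :=
    (⋃ Q ∈ PrimeSpectrum.comap (algebraMap A' (A' ⊗[A] PolLaw.image F.law)) ⁻¹' {q}, closure {Q})ᶜ
  have hU : IsOpen U := (hfin.isClosed_biUnion fun _ _ => isClosed_closure).isOpen_compl
  have hP : P ∈ U := fun h => by
    simp only [Set.mem_iUnion, exists_prop] at h
    obtain ⟨Q, hQ, hPQ⟩ := h
    exact hcon Q (specializes_iff_mem_closure.2 hPQ) hQ
  obtain ⟨Q, hQ, hQq⟩ := hq.mem_open (isOpenMap_baseChange F A' U hU) ⟨P, hP, rfl⟩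
  exact hQ (Set.mem_biUnion (hQq : Q ∈ _ ⁻¹' {q}) (subset_closure rfl))

end Groth.Agent.ZC
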