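import Mathlib
import Groth.Agent.ZC.Fibres

/-!
# Connected components and points of the image
-/

open scoped TensorProduct

namespace Groth.Agent.ZC

universe u

/-- A space in which every surjection to a finite set from locally constant maps is bounded. -/
theorem finite_connectedComponents {X : Type*} [TopologicalSpace X] {d : ℕ}
    (h : ∀ (n : ℕ) (f : LocallyConstant X (Fin n)), Function.Surjective f → n ≤ d) :
    Finite (ConnectedComponents X) ∧ Nat.card (ConnectedComponents X) ≤ d := by
  classical
  rcases isEmpty_or_nonempty X with hX | hX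
  · have : IsEmpty (ConnectedComponents X) := ⟨fun c => Quotient.inductionOn c fun x => hX.elim x⟩
    exact ⟨inferInstance, by simp⟩
  let P : ℕ → Prop := fun n => ∃ f : LocallyConstant X (Fin n), Function.Surjective f
  have h1 : P 1 := ⟨LocallyConstant.const X 0, fun i => ⟨Classical.arbitrary X, Subsingleton.elim _ _⟩⟩
  have hd : 1 ≤ d := let ⟨f, hf⟩ := h1; h 1 f hf
  obtain ⟨n, hn⟩ : ∃ n, n = Nat.findGreatest P d := ⟨_, rfl⟩
  obtain ⟨f, hf⟩ : P n := hn ▸ Nat.findGreatest_spec (P := P) hd h1
  have hconn : ∀ i, IsPreconnected (f ⁻¹' {i}) := by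
    intro i
    rw [isPreconnected_iff_preconnectedSpace, preconnectedSpace_iff_clopen]
    intro s hs
    by_contra hne
    push Not at hne
    let T : Set X := Subtype.val '' s
    have hT : IsClopen T := ⟨(f.isLocallyConstant.isClosed_fiber i).isClosedMap_subtype_val _ hs.1,
      (f.isLocallyConstant.isOpen_fiber i).isOpenMap_subtype_val _ hs.2⟩
    let g : X → Fin (n + 1) := fun x => if x ∈ T then Fin.last n else (f x).castSucc
    have hg : IsLocallyConstant g := by
      refine IsLocallyConstant.iff_isOpen_fiber.2 fun j => ?_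
      have : g ⁻¹' {j} = (if Fin.last n = j then T else ∅) ∪ (Tᶜ ∩ f ⁻¹' {k | k.castSucc = j}) := by
        ext x
        by_cases hx : x ∈ T <;> by_cases hj : Fin.last n = j <;> simp [g, hx, hj]
      rw [this]
      refine IsOpen.union ?_ (hT.compl.2.inter (f.isLocallyConstant _))
      split_ifs
      · exact hT.2
      · exact isOpen_empty
    have hsurj : Function.Surjective g := fun j => by
      refine Fin.lastCases ?_ (fun k => ?_) j
      · obtain ⟨y, hy⟩ := hne.1
        exact ⟨y.1, if_pos ⟨y, hy, rfl⟩⟩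
      · obtain ⟨y, hy⟩ := (Set.ne_univ_iff_exists_notMem s).1 hne.2
        by_cases hk : k = i
        · refine ⟨y.1, ?_⟩
          show (if y.1 ∈ T then Fin.last n else (f y.1).castSucc) = _
          rw [if_neg fun ⟨z, hz, hzy⟩ => hy (Subtype.ext hzy ▸ hz), (y.2 : f y.1 = i), hk]
        · obtain ⟨x, hx⟩ := hf k
          refine ⟨x, ?_⟩
          show (if x ∈ T then Fin.last n else (f x).castSucc) = _
          rw [if_neg fun ⟨z, _, hzx⟩ => hk (hx.symm.trans (hzx ▸ z.2)), hx]
    have hPn : P (n + 1) := ⟨⟨g, hg⟩, hsurj⟩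
    exact Nat.findGreatest_is_greatest (hn ▸ Nat.lt_succ_self n) (h _ ⟨g, hg⟩ hsurj) hPn
  choose x hx using hf
  have hsur : Function.Surjective fun i => (ConnectedComponents.mk (x i)) := fun c =>
    Quotient.inductionOn c fun y => ⟨f y, (ConnectedComponents.coe_eq_coe).2 (connectedComponent_eq
      ((hconn (f y)).subset_connectedComponent (hx (f y)) (rfl : f y = f y)))⟩
  refine ⟨Finite.of_surjective _ hsur, (Nat.card_le_card_of_surjective _ hsur).trans ?_⟩
  rw [Nat.card_eq_fintype_card, Fintype.card_fin]
  exact hn ▸ Nat.findGreatest_le d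

variable {A : Type u} [CommRing A] {B : Type u} [CommRing B] [Algebra A B] {d : ℕ}
  (F : PolLaw.MulLaw A B A d)

/-- Transport of the base change along `A ⊗ I ≅ I`. -/
theorem comap_image_eq : (algebraMap A (PolLaw.image F.law)) =
    (Algebra.TensorProduct.lid A (PolLaw.image F.law)).toRingHom.comp (algebraMap A (A ⊗[A] PolLaw.image F.law)) := by
  ext a
  simp [Algebra.algebraMap_eq_smul_one]

theorem isOpenMap_image : IsOpenMap (PrimeSpectrum.comap (algebraMap A (PolLaw.image F.law))) := by
  rw [comap_image_eq, PrimeSpectrum.comap_comp]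
  exact (isOpenMap_baseChange F A).comp
    (PrimeSpectrum.homeomorphOfRingEquiv (Algebra.TensorProduct.lid A (PolLaw.image F.law)).toRingEquiv.symm).isOpenMap

theorem finite_preimage_image (q : PrimeSpectrum A) :
    Finite (PrimeSpectrum.comap (algebraMap A (PolLaw.image F.law)) ⁻¹' {q}) ∧
      Nat.card (PrimeSpectrum.comap (algebraMap A (PolLaw.image F.law)) ⁻¹' {q}) ≤ d := by
  let e := PrimeSpectrum.preimageEquivFiber A (PolLaw.image F.law) q
  obtain ⟨h1, h2⟩ := fibre F q.asIdeal.ResidueField
  exact ⟨@Finite.of_equiv _ _ h1 e.symm, (Nat.card_congr e).trans_le h2⟩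

theorem components [ConnectedSpace (PrimeSpectrum A)] :
    Finite (ConnectedComponents (PrimeSpectrum (PolLaw.image F.law))) ∧
      Nat.card (ConnectedComponents (PrimeSpectrum (PolLaw.image F.law))) ≤ d := by
  refine finite_connectedComponents fun n f hf => ?_
  have := isIntegral_image F
  have hsur : ∀ i, PrimeSpectrum.comap (algebraMap A (PolLaw.image F.law)) '' (f ⁻¹' {i}) = Set.univ := fun i =>
    IsClopen.eq_univ ⟨PrimeSpectrum.isClosedMap_comap_of_isIntegral _ Algebra.IsIntegral.isIntegral _
        (f.isLocallyConstant.isClosed_fiber i), isOpenMap_image F _ (f.isLocallyConstant.isOpen_fiber i)⟩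
      (Set.Nonempty.image _ (hf i))
  let q : PrimeSpectrum A := Classical.arbitrary _
  obtain ⟨h1, h2⟩ := finite_preimage_image F q
  choose P hP hPq using fun i => (hsur i).symm ▸ Set.mem_univ q
  have hinj : Function.Injective fun i => (⟨P i, hPq i⟩ :
      PrimeSpectrum.comap (algebraMap A (PolLaw.image F.law)) ⁻¹' {q}) := fun i j hij => by
    have h := congrArg f (congrArg Subtype.val hij)
    rwa [show f (P i) = i from hP i, show f (P j) = j from hP j] at h
  exact le_trans (le_of_eq (Nat.card_fin n).symm) ((Nat.card_le_card_of_injective _ hinj).trans h2)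

theorem finite_maximal [Finite (MaximalSpectrum A)] : Finite (MaximalSpectrum (PolLaw.image F.law)) := by
  have := isIntegral_image F
  let g : MaximalSpectrum (PolLaw.image F.law) → MaximalSpectrum A := fun M =>
    have := M.isMaximal
    ⟨M.asIdeal.comap (algebraMap A _), Ideal.isMaximal_comap_of_isIntegral_of_isMaximal M.asIdeal⟩
  have : ∀ m, Finite {M // g M = m} := fun m => by
    obtain ⟨h1, -⟩ := finite_preimage_image F ⟨m.asIdeal, m.isMaximal.isPrime⟩
    exact Finite.of_injective (fun M : {M // g M = m} =>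
      (⟨⟨M.1.asIdeal, M.1.isMaximal.isPrime⟩, PrimeSpectrum.ext (congrArg MaximalSpectrum.asIdeal (M.2 : g M.1 = m))⟩ :
        PrimeSpectrum.comap (algebraMap A (PolLaw.image F.law)) ⁻¹' {⟨m.asIdeal, m.isMaximal.isPrime⟩}))
      fun M N h => Subtype.ext (MaximalSpectrum.ext (congrArg (fun z => z.1.asIdeal) h))
  exact Finite.of_equiv _ (Equiv.sigmaFiberEquiv g)

end Groth.Agent.ZC
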