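import Mathlib
import Groth.Agent.ZC.Flat

/-!
# Generators of divided powers
-/

open scoped TensorProduct

namespace Groth.Agent.ZC

universe u

variable {A : Type u} [CommRing A] {d : ℕ}

section

variable {M N : Type u} [AddCommGroup M] [Module A M] [AddCommGroup N] [Module A N]

/-- The coefficients at generators span all coefficients. -/
theorem coeffSpan_eq_span {κ : Type} [Fintype κ] (F : M →ₚₗ[A] N) (hF : PolLaw.IsHomog F d) (g : κ → M)
    (hg : Submodule.span A (Set.range g) = ⊤) :
    coeffSpan F = Submodule.span A (Set.range fun c : Fin d → κ => coeff F g (mult c)) := by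
  refine le_antisymm (Submodule.span_le.2 ?_) (Submodule.span_le.2 ?_)
  · rintro _ ⟨n, b, ν, rfl⟩
    choose a ha using fun i => (Submodule.mem_span_range_iff_exists_fun A).1 (hg ▸ Submodule.mem_top : b i ∈ Submodule.span A (Set.range g))
    rw [SetLike.mem_coe, show b = fun i => ∑ j, a i j • g j from funext fun i => (ha i).symm, ← app_lmon, app_subst,
      app_eq_sum]
    refine Submodule.sum_mem _ fun μ _ => Submodule.smul_mem _ _ ?_
    by_cases hμ : ∑ i, μ i = d
    · obtain ⟨c, rfl⟩ := exists_mult μ hμ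
      exact Submodule.subset_span ⟨c, rfl⟩
    · rw [coeff_eq_zero_of_degree hF g hμ]; exact Submodule.zero_mem _
  · rintro _ ⟨c, rfl⟩
    rw [SetLike.mem_coe]
    beta_reduce
    rw [← app_lmon]
    exact app_mem_coeffSpan _ _ _

theorem coeffSpan_fg [Module.Finite A M] (F : M →ₚₗ[A] N) (hF : PolLaw.IsHomog F d) : (coeffSpan F).FG := by
  obtain ⟨n, g, hg⟩ := Module.Finite.exists_fin (R := A) (M := M)
  rw [coeffSpan_eq_span F hF g hg]
  exact Submodule.fg_span (Set.finite_range _)

end

variable {B C : Type u} [CommRing B] [Algebra A B] [CommRing C] [Algebra A C]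

theorem finite_of_isGammaD {γ : PolLaw.MulLaw A B C d} (hγ : PolLaw.IsGammaD γ) [Module.Finite A B] :
    Module.Finite A C :=
  ⟨coeffSpan_eq_top hγ ▸ coeffSpan_fg γ.law γ.homog⟩

theorem isIntegral_of_isGammaD {γ : PolLaw.MulLaw A B C d} (hγ : PolLaw.IsGammaD γ) [Algebra.IsIntegral A B] :
    Algebra.IsIntegral A C := by
  constructor
  intro x
  have hx : x ∈ coeffSpan γ.law := coeffSpan_eq_top hγ ▸ Submodule.mem_top
  induction hx using Submodule.span_induction with
  | zero => exact isIntegral_zero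
  | add p q _ _ hp hq => exact hp.add hq
  | smul a p _ hp => exact hp.smul a
  | mem p hp =>
    obtain ⟨n, b, ν, rfl⟩ := hp
    let B₀ := Algebra.adjoin A (Set.range b)
    have hfin : Module.Finite A B₀ := Module.Finite.of_fg
      (fg_adjoin_of_finite (Set.finite_range b) fun z _ => Algebra.IsIntegral.isIntegral z)
    let F₀ := γ.precomp B₀.val
    refine IsIntegral.of_mem_of_fg (coeffAlg F₀.mult) ?_ _ ?_
    · have h : Subalgebra.toSubmodule (coeffAlg F₀.mult) = coeffSpan F₀.law :=
        SetLike.ext fun z => Iff.rfl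
      rw [h]
      exact coeffSpan_fg F₀.law F₀.homog
    · rw [mem_coeffAlg]
      refine Submodule.subset_span ⟨n, fun i => ⟨b i, Algebra.subset_adjoin ⟨i, rfl⟩⟩, ν, ?_⟩
      rw [← app_lmon, ← app_lmon]
      exact app_precomp _ γ.law B₀.val.toLinearMap _

theorem surjective_of_isGammaD {B' C' : Type u} [CommRing B'] [Algebra A B'] [CommRing C'] [Algebra A C']
    {γ : PolLaw.MulLaw A B C d} {γ' : PolLaw.MulLaw A B' C' d} (hγ' : PolLaw.IsGammaD γ') (π : B →ₐ[A] B')
    (hπ : Function.Surjective π) (φ : C →ₐ[A] C')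
    (hφ : PolLaw.postcomp φ.toLinearMap γ.law = (γ'.precomp π).law) : Function.Surjective φ := fun x => by
  have h : coeffSpan (γ'.precomp π).law = ⊤ :=
    (coeffSpan_precomp_of_surjective γ'.law π.toLinearMap hπ).trans (coeffSpan_eq_top hγ')
  rw [← hφ, coeffSpan_postcomp] at h
  obtain ⟨c, -, hc⟩ := (h ▸ Submodule.mem_top : x ∈ (coeffSpan γ.law).map φ.toLinearMap)
  exact ⟨c, hc⟩

/-- Symmetric tensors of a flat algebra are flat. -/
theorem flat_TS [Module.Flat A B] : Module.Flat A (SymTen.TS A B d) := by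
  classical
  refine Module.Flat.iff_forall_isTrivialRelation.2 fun {l f x} hfx => ?_
  obtain ⟨n, b, a, hb⟩ : ∃ (n : ℕ) (b : Fin n → B) (a : Fin l → (Fin d → Fin n) → A),
      ∀ i, ((x i : SymTen.TS A B d) : ⨂[A] _ : Fin d, B) = tsum (a i) b := by
    choose n b a h using fun i => exists_tsum (x i : ⨂[A] _ : Fin d, B)
    let e := Fintype.equivFin (Σ i, Fin (n i))
    let b' : Fin (Fintype.card (Σ i, Fin (n i))) → B := fun k => b (e.symm k).1 (e.symm k).2
    refine ⟨_, b', fun i => asub (a i) (fun j k => Pi.single (M := fun _ => A) (e ⟨i, j⟩) 1 k), fun i => ?_⟩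
    rw [h i, ← tsum_subst]
    congr 1
    funext j
    simp only [Pi.single_apply, ite_smul, one_smul, zero_smul, Finset.sum_ite_eq', Finset.mem_univ, if_true, b']
    exact (congrArg (fun s : Σ i, Fin (n i) => b s.1 s.2) (e.symm_apply_apply ⟨i, j⟩)).symm
  obtain ⟨k, m, b', hb', hm⟩ := exists_lift_of_flat b
    (fun z : (Fin l × Equiv.Perm (Fin d)) ⊕ Unit => z.elim
      (fun p => fun c => a p.1 (fun j => c (p.2 j)) - a p.1 c) (fun _ => fun c => ∑ i, f i * a i c))
    (fun z => by
      rcases z with ⟨i, σ⟩ | _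
      · show tsum (fun c => a i (fun j => c (σ j)) - a i c) b = 0
        rw [tsum_sub, ← reindex_tsum, ← hb, (x i).2 σ, sub_self]
      · show tsum (fun c => ∑ i, f i * a i c) b = 0
        have h0 := congrArg (fun t : SymTen.TS A B d => (t : ⨂[A] _ : Fin d, B)) hfx
        simp only [AddSubmonoidClass.coe_finsetSum, SetLike.val_smul, hb] at h0
        rw [← Subalgebra.coe_zero (S := SymTen.TS A B d)]
        refine Eq.trans ?_ h0
        simp only [tsum, Finset.sum_smul, Finset.smul_sum, smul_smul]
        exact Finset.sum_comm)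
  obtain ⟨τ, hτ⟩ := exists_tsLaw A B d
  have hex : ∀ i, ∃ L : MvPolynomial (Fin k) A →ₗ[A] A, ∀ c : Fin d → Fin k,
      L (∏ j, MvPolynomial.X (c j)) = asub (a i) m c := fun i => exists_functional _ fun c σ => by
    have := hm (Sum.inl (i, σ)) c
    simp only [Sum.elim_inl, asub_sub, asub_reindex, sub_eq_zero] at this
    exact this
  choose L hL using hex
  let S : Finset (Fin k →₀ ℕ) := (Finset.univ : Finset (Fin d → Fin k)).image mult
  let e := S.equivFin
  refine ⟨S.card, fun i j => L i (MvPolynomial.monomial (e.symm j).1 1),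
    fun j => coeff τ.law b' (e.symm j).1, fun i => ?_, fun j => ?_⟩
  · apply Subtype.ext
    rw [hb i, show b = fun i => ∑ l, m i l • b' l from funext hb', tsum_subst,
      show asub (a i) m = fun c => L i (∏ j, MvPolynomial.X (c j)) from funext fun c => (hL i c).symm,
      ← app_tpow_eq_tsum]
    have hsub : app (L i) τ.law b' = ∑ ν ∈ S, L i (MvPolynomial.monomial ν 1) • coeff τ.law b' ν := by
      rw [app_eq_sum]
      refine Finset.sum_subset (fun ν hν => ?_) fun ν _ hν => ?_
      · obtain ⟨c, rfl⟩ := exists_mult ν (by_contra fun h =>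
          Finsupp.mem_support_iff.1 hν (coeff_eq_zero_of_degree τ.homog b' h))
        exact Finset.mem_image_of_mem _ (Finset.mem_univ _)
      · beta_reduce; rw [Finsupp.notMem_support_iff.1 hν, smul_zero]
    rw [← hτ]
    refine (app_postcomp (L i) (SymTen.TS A B d).val.toLinearMap τ.law b').trans (congrArg Subtype.val ?_)
    rw [hsub, ← S.sum_coe_sort]
    exact (Equiv.sum_comp e.symm fun ν : S => L i (MvPolynomial.monomial ν.1 1) • coeff τ.law b' ν.1).symm
  · obtain ⟨c, -, hc⟩ := Finset.mem_image.1 (e.symm j).2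
    have h := hm (Sum.inr ()) c
    simp only [Sum.elim_inr] at h
    have hlin : asub (fun c' => ∑ i, f i * a i c') m c = ∑ i, f i * asub (a i) m c := by
      simp only [asub, Finset.sum_mul, Finset.mul_sum, mul_assoc]
      exact Finset.sum_comm
    rw [← h, hlin]
    refine Finset.sum_congr rfl fun i _ => ?_
    beta_reduce
    rw [← hc, ← prod_X_eq_monomial, hL]

theorem flat_of_isGammaD {γ : PolLaw.MulLaw A B C d} (hγ : PolLaw.IsGammaD γ) [Module.Flat A B] :
    Module.Flat A C := by
  obtain ⟨τ, hτ⟩ := exists_tsLaw A B d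
  have hτ' := isGammaD_tsLaw (Or.inl inferInstance) hτ
  obtain ⟨f, hf, -⟩ := hτ' _ γ
  obtain ⟨g, hg, -⟩ := hγ _ τ
  have h1 : f.comp g = AlgHom.id A C := algHom_ext hγ (ext_coeff fun n b ν => by
    simp only [coeff_postcomp, AlgHom.toLinearMap_apply, AlgHom.comp_apply, AlgHom.id_apply]
    rw [← AlgHom.toLinearMap_apply g, ← coeff_postcomp, hg, ← AlgHom.toLinearMap_apply f, ← coeff_postcomp, hf])
  have := flat_TS (A := A) (B := B) (d := d)
  exact Module.Flat.of_retract g.toLinearMap f.toLinearMap (by rw [← AlgHom.comp_toLinearMap, h1]; rfl)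

end Groth.Agent.ZC
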