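import Mathlib
import Groth.Agent.ZC.Gens

/-!
# Tensor powers of flat algebras and base change of symmetric tensors
-/

open scoped TensorProduct

namespace Groth.Agent.ZC

universe u

variable {A : Type u} [CommRing A] {B : Type u} [CommRing B] [Algebra A B] {d : ℕ}

/-- The linear identification of `T^{n+1}` with `T^n ⊗ B`. -/
noncomputable def succLinEquiv (A B : Type u) [CommRing A] [CommRing B] [Algebra A B] (n : ℕ) :
    (⨂[A] _ : Fin (n + 1), B) ≃ₗ[A] (⨂[A] _ : Fin n, B) ⊗[A] B :=
  (PiTensorProduct.reindex A (fun _ : Fin (n + 1) => B) finSumFinEquiv.symm).trans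
    ((PiTensorProduct.tmulEquiv (ι := Fin n) (ι₂ := Fin 1) A B).symm.trans
      (TensorProduct.congr (LinearEquiv.refl A _) (PiTensorProduct.subsingletonEquiv (0 : Fin 1))))

theorem succLinEquiv_tprod (n : ℕ) (f : Fin (n + 1) → B) :
    succLinEquiv A B n (PiTensorProduct.tprod A f) =
      PiTensorProduct.tprod A (fun i => f (Fin.castSucc i)) ⊗ₜ[A] f (Fin.last n) := by
  simp [succLinEquiv, PiTensorProduct.reindex_tprod]
  congr 1

theorem succLinEquiv_mul (n : ℕ) (x y : ⨂[A] _ : Fin (n + 1), B) :
    succLinEquiv A B n (x * y) = succLinEquiv A B n x * succLinEquiv A B n y := by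
  induction x using PiTensorProduct.induction_on with
  | smul_tprod r f =>
    induction y using PiTensorProduct.induction_on with
    | smul_tprod s g =>
      simp only [map_smul, smul_mul_assoc, mul_smul_comm, PiTensorProduct.tprod_mul_tprod, succLinEquiv_tprod, Algebra.TensorProduct.tmul_mul_tmul, Pi.mul_apply]
      rfl
    | add a b ha hb => rw [mul_add, map_add, ha, hb, map_add, mul_add]
  | add a b ha hb => rw [add_mul, map_add, ha, hb, map_add, add_mul]

/-- `T^{n+1} B = T^n B ⊗ B` as algebras. -/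
noncomputable def succAlgEquiv (A B : Type u) [CommRing A] [CommRing B] [Algebra A B] (n : ℕ) :
    (⨂[A] _ : Fin (n + 1), B) ≃ₐ[A] (⨂[A] _ : Fin n, B) ⊗[A] B :=
  AlgEquiv.ofLinearEquiv (succLinEquiv A B n)
    (by rw [PiTensorProduct.one_def, Pi.one_def, succLinEquiv_tprod, Algebra.TensorProduct.one_def,
      PiTensorProduct.one_def, Pi.one_def])
    (succLinEquiv_mul n)

theorem flat_tensorPower [Module.Flat A B] (n : ℕ) : Module.Flat A (⨂[A] _ : Fin n, B) := by
  induction n with
  | zero => exact Module.Flat.of_linearEquiv (PiTensorProduct.isEmptyEquiv (Fin 0))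
  | succ n ih => exact Module.Flat.of_linearEquiv (succLinEquiv A B n)

theorem exists_tsum_family {M : Type u} [AddCommGroup M] [Module A M] {α : Type} [Fintype α]
    (t : α → ⨂[A] _ : Fin d, M) :
    ∃ (n : ℕ) (b : Fin n → M) (a : α → (Fin d → Fin n) → A), ∀ i, t i = tsum (a i) b := by
  classical
  choose n b a h using fun i => exists_tsum (t i)
  let e := Fintype.equivFin (Σ i, Fin (n i))
  refine ⟨_, fun k => b (e.symm k).1 (e.symm k).2,
    fun i => asub (a i) (fun j k => Pi.single (M := fun _ => A) (e ⟨i, j⟩) 1 k), fun i => ?_⟩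
  rw [h i, ← tsum_subst]
  congr 1
  funext j
  simp only [Pi.single_apply, ite_smul, one_smul, zero_smul, Finset.sum_ite_eq', Finset.mem_univ, if_true]
  exact (congrArg (fun p : Σ i, Fin (n i) => b p.1 p.2) (e.symm_apply_apply ⟨i, j⟩)).symm

/-- The symmetric tensors of a flat algebra are a universally injective submodule. -/
theorem lTensor_TS_injective [Module.Flat A B] (N : Type u) [AddCommGroup N] [Module A N] :
    Function.Injective ((SymTen.TS A B d).val.toLinearMap.lTensor N) := by
  classical
  rw [← LinearMap.ker_eq_bot, eq_bot_iff]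
  intro x hx
  rw [LinearMap.mem_ker] at hx
  obtain ⟨l, k, t, rfl⟩ := TensorProduct.exists_sum_tmul_eq x
  rw [map_sum] at hx
  simp only [LinearMap.lTensor_tmul] at hx
  have := flat_tensorPower (A := A) (B := B) d
  obtain ⟨κ, m, y, hy, hm⟩ := TensorProduct.vanishesTrivially_of_sum_tmul_eq_zero_of_rTensor_injective A
    (Module.Flat.rTensor_preserves_injective_linearMap (M := ⨂[A] _ : Fin d, B) _ Subtype.val_injective) hx
  let e := Equiv.refl (Fin κ)
  obtain ⟨n, b, a, ha⟩ := exists_tsum_family
    (Sum.elim (fun i => ((t i : SymTen.TS A B d) : ⨂[A] _ : Fin d, B)) (fun j => y (e.symm j)))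
  have hrel : ∀ i, tsum (fun c => a (Sum.inl i) c - ∑ j, m i (e.symm j) * a (Sum.inr j) c) b = 0 := fun i => by
    have h2 : tsum (fun c => ∑ j, m i (e.symm j) * a (Sum.inr j) c) b = ∑ j, m i (e.symm j) • tsum (a (Sum.inr j)) b := by
      simp only [tsum, Finset.sum_smul, Finset.smul_sum, smul_smul]
      exact Finset.sum_comm
    have hyi := hy i
    simp only [AlgHom.toLinearMap_apply, Subalgebra.coe_val] at hyi
    have hl := ha (Sum.inl i)
    simp only [Sum.elim_inl] at hl
    rw [tsum_sub, h2, ← hl, hyi, ← Equiv.sum_comp e.symm]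
    refine sub_eq_zero.2 (Finset.sum_congr rfl fun j _ => ?_)
    rw [← ha (Sum.inr j)]
    rfl
  obtain ⟨r, M, b', hb, hM⟩ := exists_lift_of_flat (d := d) b
    (Sum.elim (fun p : Equiv.Perm (Fin d) × Fin l => fun c => a (Sum.inl p.2) (fun j => c (p.1 j)) - a (Sum.inl p.2) c)
      (fun i => fun c => a (Sum.inl i) c - ∑ j, m i (e.symm j) * a (Sum.inr j) c)) fun p => by
      rcases p with ⟨σ, i⟩ | i
      · show tsum (fun c => a (Sum.inl i) (fun j => c (σ j)) - a (Sum.inl i) c) b = 0
        have hl := ha (Sum.inl i)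
        simp only [Sum.elim_inl] at hl
        rw [tsum_sub, ← reindex_tsum, ← hl, (t i).2 σ, sub_self]
      · exact hrel i
  have hsym : ∀ i c (σ : Equiv.Perm (Fin d)),
      asub (a (Sum.inl i)) M (fun j => c (σ j)) = asub (a (Sum.inl i)) M c := fun i c σ => by
    have := hM (Sum.inl (σ, i)) c
    simp only [Sum.elim_inl] at this
    rw [asub_sub, asub_reindex, sub_eq_zero] at this
    exact this
  choose L hL using fun i => exists_functional _ (hsym i)
  have hdec : ∀ i c, asub (a (Sum.inl i)) M c = ∑ j, m i (e.symm j) * asub (a (Sum.inr j)) M c := fun i c => by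
    have := hM (Sum.inr i) c
    simp only [Sum.elim_inr] at this
    rw [asub_sub, sub_eq_zero] at this
    rw [this]
    simp only [asub, Finset.sum_mul, Finset.mul_sum, mul_assoc]
    exact Finset.sum_comm
  have hzero : ∀ c, ∑ i, asub (a (Sum.inl i)) M c • k i = 0 := fun c => by
    simp only [hdec, Finset.sum_smul]
    rw [Finset.sum_comm]
    refine Finset.sum_eq_zero fun j _ => ?_
    simp only [mul_comm (m _ _), mul_smul, ← Finset.smul_sum, hm, smul_zero]
  obtain ⟨τ, hτ⟩ := exists_tsLaw A B d
  have ht : ∀ i, t i = app (L i) τ.law b' := fun i => by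
    refine Subtype.ext ?_
    have h2 : ((app (L i) τ.law b' : SymTen.TS A B d) : ⨂[A] _ : Fin d, B) =
        app (L i) (SymTen.tpowLaw A B d).law b' := by
      rw [← hτ]
      exact (app_postcomp (L i) (SymTen.TS A B d).val.toLinearMap τ.law b').symm
    have hl := ha (Sum.inl i)
    simp only [Sum.elim_inl] at hl
    rw [hl, h2, app_tpow_eq_tsum, show b = fun i => ∑ l, M i l • b' l from funext hb, tsum_subst]
    congr 1
    funext c
    exact (hL i c).symm
  simp only [Submodule.mem_bot, ht, app_eq_sum, Finsupp.sum, TensorProduct.tmul_sum]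
  rw [Finset.sum_comm]
  refine Finset.sum_eq_zero fun ν _ => ?_
  by_cases hν : ∑ i, ν i = d
  · obtain ⟨c, rfl⟩ := exists_mult ν hν
    simp only [← prod_X_eq_monomial, hL, TensorProduct.tmul_smul, TensorProduct.smul_tmul', ← TensorProduct.sum_tmul,
      hzero, TensorProduct.zero_tmul]
  · simp [coeff_eq_zero_of_degree τ.homog b' hν]

end Groth.Agent.ZC
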