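import Mathlib
import Groth.Agent.ZC.UnivInj

/-!
# Reduced fibres of divided powers
-/

open scoped TensorProduct

namespace Groth.Agent.ZC

universe u

variable {A : Type u} [CommRing A]

theorem isReduced_tensor_of_geom {D T : Type u} [CommRing D] [IsReduced D] [CommRing T] [Algebra A T]
    {K : Type u} [Field K] [Algebra A K] [Algebra A D] [Algebra K D] [IsScalarTower A K D]
    (hT : ∀ (L : Type u) [Field L] [Algebra A L], IsReduced (L ⊗[A] T)) : IsReduced (D ⊗[A] T) := by
  suffices IsReduced (D ⊗[K] (K ⊗[A] T)) from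
    isReduced_of_injective (Algebra.TensorProduct.cancelBaseChange A K D D T).symm
      (Algebra.TensorProduct.cancelBaseChange A K D D T).symm.injective
  let e := Module.Free.chooseBasis K (K ⊗[A] T)
  let E := Algebra.TensorProduct.basis D e
  refine ⟨fun x hx => E.ext_elem fun i => ?_⟩
  rw [map_zero, Finsupp.zero_apply]
  refine IsNilpotent.eq_zero ((nilpotent_iff_mem_prime).2 fun p hp => ?_)
  let L := FractionRing (D ⧸ p)
  let π : D →ₐ[K] L := (IsScalarTower.toAlgHom K (D ⧸ p) L).comp (Ideal.Quotient.mkₐ K p)
  have : IsReduced (L ⊗[A] T) := hT L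
  have hred : IsReduced (L ⊗[K] (K ⊗[A] T)) :=
    isReduced_of_injective (Algebra.TensorProduct.cancelBaseChange A K L L T)
      (Algebra.TensorProduct.cancelBaseChange A K L L T).injective
  have h0 : Algebra.TensorProduct.map π (AlgHom.id K (K ⊗[A] T)) x = 0 := (hx.map _).eq_zero
  have key : ∀ y : D ⊗[K] (K ⊗[A] T), (Algebra.TensorProduct.basis L e).repr
      (Algebra.TensorProduct.map π (AlgHom.id K (K ⊗[A] T)) y) i = π (E.repr y i) := fun y => by
    induction y using TensorProduct.induction_on with
    | zero => simp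
    | tmul a b =>
      simp [E, Algebra.TensorProduct.basis_repr_tmul, Finsupp.mapRange_apply, Finsupp.smul_apply]
    | add y z hy hz => simp only [map_add, Finsupp.add_apply, hy, hz]
  have h1 := key x
  rw [h0, map_zero, Finsupp.zero_apply] at h1
  refine Ideal.Quotient.eq_zero_iff_mem.1 ((IsFractionRing.injective (D ⧸ p) L) ?_)
  rw [map_zero]
  exact h1.symm

theorem isReduced_tensorPower {B : Type u} [CommRing B] [Algebra A B]
    (hred : ∀ (K : Type u) [Field K] [Algebra A K], IsReduced (K ⊗[A] B)) (n : ℕ) (K : Type u) [Field K]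
    [Algebra A K] : IsReduced (K ⊗[A] (⨂[A] _ : Fin n, B)) := by
  induction n generalizing K with
  | zero =>
    have : IsReduced (K ⊗[A] A) :=
      isReduced_of_injective (Algebra.TensorProduct.rid A K K) (Algebra.TensorProduct.rid A K K).injective
    let z : (⨂[A] _ : Fin 0, B) ≃ₐ[A] A := AlgEquiv.ofLinearEquiv (PiTensorProduct.isEmptyEquiv (Fin 0))
      (by rw [PiTensorProduct.one_def, Pi.one_def]; simp)
      (fun x y => by
        induction x using PiTensorProduct.induction_on with
        | smul_tprod r f =>
          induction y using PiTensorProduct.induction_on with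
          | smul_tprod s g => simp [PiTensorProduct.tprod_mul_tprod]; ring
          | add a b ha hb => rw [mul_add, map_add, ha, hb, map_add, mul_add]
        | add a b ha hb => rw [add_mul, map_add, ha, hb, map_add, add_mul])
    exact isReduced_of_injective (Algebra.TensorProduct.congr (AlgEquiv.refl : K ≃ₐ[A] K) z)
      (Algebra.TensorProduct.congr (AlgEquiv.refl : K ≃ₐ[A] K) z).injective
  | succ n ih =>
    have := ih K
    have h2 : IsReduced ((K ⊗[A] (⨂[A] _ : Fin n, B)) ⊗[A] B) := isReduced_tensor_of_geom (K := K) hred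
    let z := (Algebra.TensorProduct.congr (AlgEquiv.refl : K ≃ₐ[A] K) (succAlgEquiv A B n)).trans
      (Algebra.TensorProduct.assoc A A A K (⨂[A] _ : Fin n, B) B).symm
    exact isReduced_of_injective z z.injective

theorem isReduced_fibre {B C : Type u} [CommRing B] [Algebra A B] [CommRing C] [Algebra A C] {d : ℕ}
    {γ : PolLaw.MulLaw A B C d} (hγ : PolLaw.IsGammaD γ) [Module.Flat A B]
    (hred : ∀ (K : Type u) [Field K] [Algebra A K], IsReduced (K ⊗[A] B)) (K : Type u) [Field K] [Algebra A K] :
    IsReduced (K ⊗[A] C) := by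
  obtain ⟨τ, hτ⟩ := exists_tsLaw A B d
  have hτ' := isGammaD_tsLaw (Or.inl inferInstance) hτ
  obtain ⟨f, hf, -⟩ := hτ' _ γ
  obtain ⟨g, hg, -⟩ := hγ _ τ
  have h1 : f.comp g = AlgHom.id A C := algHom_ext hγ (ext_coeff fun n b ν => by
    simp only [coeff_postcomp, AlgHom.toLinearMap_apply, AlgHom.comp_apply, AlgHom.id_apply]
    rw [← AlgHom.toLinearMap_apply g, ← coeff_postcomp, hg, ← AlgHom.toLinearMap_apply f, ← coeff_postcomp, hf])
  have hT := isReduced_tensorPower hred d K
  let j : K ⊗[A] C →ₐ[A] K ⊗[A] (⨂[A] _ : Fin d, B) :=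
    (Algebra.TensorProduct.map (AlgHom.id A K) (SymTen.TS A B d).val).comp
      (Algebra.TensorProduct.map (AlgHom.id A K) g)
  refine isReduced_of_injective j ?_
  refine Function.Injective.comp (g := Algebra.TensorProduct.map (AlgHom.id A K) (SymTen.TS A B d).val)
    (f := Algebra.TensorProduct.map (AlgHom.id A K) g) ?_ ?_
  · intro x y h
    exact lTensor_TS_injective (B := B) (d := d) K h
  · refine Function.LeftInverse.injective (g := Algebra.TensorProduct.map (AlgHom.id A K) f) fun x => ?_
    induction x using TensorProduct.induction_on with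
    | zero => simp
    | tmul k c => simp [show f (g c) = c from DFunLike.congr_fun h1 c]
    | add x y hx hy => simp only [map_add, hx, hy]

end Groth.Agent.ZC
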