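import Mathlib
import Groth.Agent.ZC.Flat
import Groth.Agent.ZC.Norm
import Groth.Agent.ZC.Gens

/-!
# The symmetrisation law from the tensor power to divided powers
-/

open scoped TensorProduct

namespace Groth.Agent.ZC

universe u

variable {A : Type u} [CommRing A] {d : ℕ}

section

variable {B : Type u} [CommRing B] [Algebra A B]

theorem perm_comp (τ σ : Equiv.Perm (Fin d)) :
    (SymTen.perm A B d τ).comp (SymTen.perm A B d σ) = SymTen.perm A B d (τ * σ) := by
  refine AlgHom.toLinearMap_injective (PiTensorProduct.ext (MultilinearMap.ext fun f => ?_))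
  simp only [LinearMap.compMultilinearMap_apply, AlgHom.toLinearMap_apply, AlgHom.comp_apply, SymTen.perm_tprod]
  congr 1

theorem symmLaw_toFun (S : Type u) [CommSemiring S] [Algebra A S] (x : S ⊗[A] (⨂[A] _ : Fin d, B)) :
    (SymTen.symmLaw A B d).law.toFun' S x =
      ∏ σ : Equiv.Perm (Fin d), Algebra.TensorProduct.map (AlgHom.id S S) (SymTen.perm A B d σ) x := rfl

theorem map_perm_perm {S : Type u} [CommSemiring S] [Algebra A S] (τ σ : Equiv.Perm (Fin d))
    (x : S ⊗[A] (⨂[A] _ : Fin d, B)) :
    Algebra.TensorProduct.map (AlgHom.id S S) (SymTen.perm A B d τ)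
        (Algebra.TensorProduct.map (AlgHom.id S S) (SymTen.perm A B d σ) x) =
      Algebra.TensorProduct.map (AlgHom.id S S) (SymTen.perm A B d (τ * σ)) x := by
  induction x using TensorProduct.induction_on with
  | zero => simp
  | tmul s t => simp [← perm_comp]
  | add x y hx hy => simp only [map_add, hx, hy]

theorem perm_postcomp_symmLaw (τ : Equiv.Perm (Fin d)) :
    PolLaw.postcomp (SymTen.perm A B d τ).toLinearMap (SymTen.symmLaw A B d).law = (SymTen.symmLaw A B d).law := by
  refine PolynomialLaw.ext (funext fun S => funext fun _ => funext fun _ => funext fun x => ?_)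
  show (SymTen.perm A B d τ).toLinearMap.lTensor S ((SymTen.symmLaw A B d).law.toFun' S x) = _
  rw [PolLaw.lTensor_algHom_apply, symmLaw_toFun, map_prod]
  simp only [map_perm_perm]
  exact Fintype.prod_equiv (Equiv.mulLeft τ) _ _ fun σ => rfl

variable (A B d) in
/-- The symmetrisation law into the symmetric tensors. -/
theorem exists_symm₀ : ∃ Y : PolLaw.MulLaw A (⨂[A] _ : Fin d, B) (SymTen.TS A B d) d.factorial,
    Y.postcomp (SymTen.TS A B d).val = SymTen.symmLaw A B d := by
  refine exists_mulLaw_factor _ _ Subtype.val_injective fun c hc => ⟨⟨c, ?_⟩, rfl⟩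
  induction hc using Submodule.span_induction with
  | zero => exact zero_mem _
  | add p q _ _ hp hq => exact add_mem hp hq
  | smul a p _ hp => exact (SymTen.TS A B d).smul_mem hp a
  | mem p hp =>
    obtain ⟨n, b, ν, rfl⟩ := hp
    intro τ
    rw [← SymTen.perm_apply, ← AlgHom.toLinearMap_apply, ← coeff_postcomp, perm_postcomp_symmLaw]

theorem pow_eq_of_fixed {S : Type u} [CommSemiring S] [Algebra A S] (x : S ⊗[A] SymTen.TS A B d) :
    (SymTen.symmLaw A B d).law.toFun' S ((SymTen.TS A B d).val.toLinearMap.lTensor S x) =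
      (SymTen.TS A B d).val.toLinearMap.lTensor S (x ^ d.factorial) := by
  rw [symmLaw_toFun, PolLaw.lTensor_algHom_apply, PolLaw.lTensor_algHom_apply, map_pow]
  have h : ∀ σ : Equiv.Perm (Fin d), (SymTen.perm A B d σ).comp (SymTen.TS A B d).val = (SymTen.TS A B d).val :=
    fun σ => AlgHom.ext fun t => by
      show SymTen.perm A B d σ t.1 = t.1
      rw [SymTen.perm_apply]; exact t.2 σ
  rw [Finset.prod_congr rfl fun σ _ => show Algebra.TensorProduct.map (AlgHom.id S S) (SymTen.perm A B d σ)
      (Algebra.TensorProduct.map (AlgHom.id S S) (SymTen.TS A B d).val x) =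
      Algebra.TensorProduct.map (AlgHom.id S S) (SymTen.TS A B d).val x by
    induction x using TensorProduct.induction_on with
    | zero => simp
    | tmul s t => simp only [Algebra.TensorProduct.map_tmul, ← AlgHom.comp_apply, h]; rfl
    | add x y hx hy => simp only [map_add, hx, hy]]
  rw [Finset.prod_const, Finset.card_univ, Fintype.card_perm, Fintype.card_fin]

theorem single_eq (i : Fin d) (q : B) :
    PiTensorProduct.singleAlgHom (R := A) (A := fun _ : Fin d => B) i q =
      PiTensorProduct.tprod A (Function.update (fun _ : Fin d => (1 : B)) i q) := by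
  rw [PiTensorProduct.singleAlgHom_apply]
  congr 1

theorem perm_single (τ : Equiv.Perm (Fin d)) (i : Fin d) (q : B) :
    SymTen.perm A B d τ (PiTensorProduct.singleAlgHom (R := A) (A := fun _ : Fin d => B) i q) =
      PiTensorProduct.singleAlgHom (R := A) (A := fun _ : Fin d => B) (τ i) q := by
  rw [single_eq, single_eq, SymTen.perm_tprod]
  congr 1
  funext j
  simp only [Function.update_apply]
  exact if_congr (Equiv.symm_apply_eq τ) rfl rfl

/-- Multiplication of the factors indexed by `O` by `q`. -/
theorem prod_single_mul_tsum {ι : Type} [Fintype ι] (O : Finset (Fin d)) (q : B) (a : (Fin d → ι) → A) (b : ι → B) :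
    (∏ i ∈ O, PiTensorProduct.singleAlgHom (R := A) (A := fun _ : Fin d => B) i q) * tsum a b =
      ∑ c, a c • PiTensorProduct.tprod A (fun j => if j ∈ O then q * b (c j) else b (c j)) := by
  classical
  have hprod : (∏ i ∈ O, PiTensorProduct.singleAlgHom (R := A) (A := fun _ : Fin d => B) i q) =
      PiTensorProduct.tprod A (fun j => if j ∈ O then q else 1) := by
    induction O using Finset.induction_on with
    | empty =>
      rw [Finset.prod_empty, PiTensorProduct.one_def]
      rfl
    | insert i O hi ih =>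
      rw [Finset.prod_insert hi, ih, single_eq, PiTensorProduct.tprod_mul_tprod]
      congr 1
      funext j
      by_cases hj : j = i
      · subst hj; simp [hi]
      · simp [hj]
  rw [hprod, tsum, Finset.mul_sum]
  refine Finset.sum_congr rfl fun c _ => ?_
  rw [mul_smul_comm, PiTensorProduct.tprod_mul_tprod]
  congr 2
  funext j
  simp only [Pi.mul_apply]
  split_ifs <;> simp

theorem repr_perm {J : Type u} (e : Module.Basis J A B) (τ : Equiv.Perm (Fin d)) (y : ⨂[A] _ : Fin d, B)
    (p : Fin d → J) :
    (Basis.piTensorProduct fun _ : Fin d => e).repr (SymTen.perm A B d τ y) p =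
      (Basis.piTensorProduct fun _ : Fin d => e).repr y (fun j => p (τ j)) := by
  classical
  induction y using PiTensorProduct.induction_on with
  | smul_tprod r f =>
    simp only [map_smul, SymTen.perm_tprod, Finsupp.smul_apply, Basis.piTensorProduct_repr_tprod_apply]
    congr 1
    exact Fintype.prod_equiv τ.symm _ _ fun j => by simp
  | add x y hx hy => simp only [map_add, Finsupp.add_apply, hx, hy]

/-- An equivariant family becomes an invariant array. -/
theorem exists_functional_of_equivariant {J : Type u} (e : Module.Basis J A B) (q : B)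
    (Y : Finset (Fin d) → ⨂[A] _ : Fin d, B)
    (hY : ∀ (τ : Equiv.Perm (Fin d)) O, SymTen.perm A B d τ (Y O) = Y (O.image τ))
    (s : Finset (Finset (Fin d))) (hs : ∀ (τ : Equiv.Perm (Fin d)) O, O ∈ s ↔ O.image τ ∈ s) (hne : ∅ ∉ s) :
    ∃ (n : ℕ) (b : Fin n ⊕ Fin n → B) (L : MvPolynomial (Fin n ⊕ Fin n) A →ₗ[A] A) (g : Fin n → B),
      b = Sum.elim (fun i => q * g i) g ∧
      (∀ c : Fin d → Fin n, L (∏ j, MvPolynomial.X (Sum.inr (c j))) = 0) ∧
      app L (SymTen.tpowLaw A B d).law b =
        ∑ O ∈ s, (∏ i ∈ O, PiTensorProduct.singleAlgHom (R := A) (A := fun _ : Fin d => B) i q) * Y O := by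
  classical
  let E := Basis.piTensorProduct fun _ : Fin d => e
  let T : Finset J := (Finset.univ : Finset (Finset (Fin d))).biUnion fun O =>
    (E.repr (Y O)).support.biUnion fun p => Finset.univ.image p
  let v : Fin T.card → J := fun i => (T.equivFin.symm i).1
  let a : Finset (Fin d) → (Fin d → Fin T.card) → A := fun O c => E.repr (Y O) (fun j => v (c j))
  have hexp : ∀ O, Y O = tsum (a O) (fun i => e (v i)) := fun O => by
    conv_lhs => rw [← E.linearCombination_repr (Y O), Finsupp.linearCombination_apply, Finsupp.sum]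
    rw [tsum]
    symm
    refine Finset.sum_bij_ne_zero (fun c _ _ j => v (c j)) (fun c _ hc => ?_) (fun c _ _ c' _ _ h => ?_)
      (fun p hp hp' => ?_) fun c _ _ => ?_
    · rw [Finsupp.mem_support_iff]
      intro h
      exact hc (by rw [show a O c = 0 from h, zero_smul])
    · exact funext fun j => T.equivFin.symm.injective (Subtype.ext (congrFun h j))
    · have hmem : ∀ j, p j ∈ T := fun j => Finset.mem_biUnion.2 ⟨O, Finset.mem_univ _, Finset.mem_biUnion.2
        ⟨p, hp, Finset.mem_image_of_mem _ (Finset.mem_univ j)⟩⟩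
      have hv : (fun j => v (T.equivFin ⟨p j, hmem j⟩)) = p := funext fun j => by simp [v]
      refine ⟨fun j => T.equivFin ⟨p j, hmem j⟩, Finset.mem_univ _, ?_, hv⟩
      have heq : PiTensorProduct.tprod A (fun j => e (v (T.equivFin ⟨p j, hmem j⟩))) = E p := by
        rw [Basis.piTensorProduct_apply]; simp [v]
      show a O (fun j => T.equivFin ⟨p j, hmem j⟩) • _ ≠ 0
      rw [heq, show a O (fun j => T.equivFin ⟨p j, hmem j⟩) = E.repr (Y O) p by simp only [a, hv]]
      exact hp'
    · rw [Basis.piTensorProduct_apply]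
  have ha : ∀ (τ : Equiv.Perm (Fin d)) O c, a (O.image τ) c = a O (fun j => c (τ j)) := fun τ O c => by
    show E.repr (Y (O.image τ)) _ = _
    rw [← hY, repr_perm]
  let lft : (Fin d → Fin T.card ⊕ Fin T.card) → Finset (Fin d) := fun c =>
    Finset.univ.filter fun j => (c j).isLeft
  let a' : (Fin d → Fin T.card ⊕ Fin T.card) → A := fun c =>
    if lft c ∈ s then a (lft c) (fun j => Sum.elim id id (c j)) else 0
  obtain ⟨L, hL⟩ := exists_functional a' fun c σ => by
    have himg : (lft fun j => c (σ j)).image σ = lft c := by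
      ext j
      simp only [lft, Finset.mem_image, Finset.mem_filter, Finset.mem_univ, true_and]
      exact ⟨fun ⟨i, hi, e⟩ => e ▸ hi, fun h => ⟨σ.symm j, by simpa using h, by simp⟩⟩
    simp only [a']
    rw [← himg, ha]
    simp only [← hs]
  refine ⟨T.card, _, L, fun i => e (v i), rfl, fun c => ?_, ?_⟩
  · rw [hL]
    exact if_neg (by simpa [lft] using hne)
  · rw [app_tpow_eq_tsum, show (fun c => L (∏ j, MvPolynomial.X (c j))) = a' from funext hL, tsum]
    simp only [hexp, prod_single_mul_tsum]
    rw [← Finset.sum_product']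
    let mk : Finset (Fin d) × (Fin d → Fin T.card) → (Fin d → Fin T.card ⊕ Fin T.card) := fun x j =>
      if j ∈ x.1 then Sum.inl (x.2 j) else Sum.inr (x.2 j)
    have hmk : ∀ x, lft (mk x) = x.1 ∧ (fun j => Sum.elim id id (mk x j)) = x.2 := fun x => by
      refine ⟨?_, funext fun j => ?_⟩
      · ext j; by_cases h : j ∈ x.1 <;> simp [lft, mk, h]
      · by_cases h : j ∈ x.1 <;> simp [mk, h]
    symm
    refine Finset.sum_bij_ne_zero (fun x _ _ => mk x) (fun _ _ _ => Finset.mem_univ _) (fun x _ _ y _ _ h => ?_)
      (fun c _ hc => ?_) fun x hx _ => ?_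
    · exact Prod.ext (by rw [← (hmk x).1, h, (hmk y).1]) (by rw [← (hmk x).2, h, (hmk y).2])
    · have hmem : lft c ∈ s := by
        by_contra h
        exact hc (by simp [a', h])
      have hc' : mk (lft c, fun j => Sum.elim id id (c j)) = c := funext fun j => by
        rcases hcj : c j with i | i <;> simp [mk, lft, hcj]
      refine ⟨(lft c, fun j => Sum.elim id id (c j)), by simp [hmem], ?_, hc'⟩
      convert hc using 2
      · simp [a', hmem]
      · congr 1
        funext j
        rcases hcj : c j with i | i <;> simp [lft, hcj]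
    · have hxs : x.1 ∈ s := (Finset.mem_product.1 hx).1
      simp only [a', (hmk x).1, (hmk x).2, hxs, if_true]
      congr 1
      congr 1
      funext j
      by_cases h : j ∈ x.1 <;> simp [mk, h]

end

/-- The product over a finite set of a function of images, split along the image. -/
theorem prod_comp_split {α β M : Type*} [CommMonoid M] [DecidableEq β] (t : Finset α) (g : α → β) (f : β → M) :
    ∏ σ ∈ t, f (g σ) = (∏ i ∈ t.image g, f i) * ∏ i ∈ t.image g, f i ^ ((t.filter fun σ => g σ = i).card - 1) := by
  rw [Finset.prod_comp, ← Finset.prod_mul_distrib]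
  refine Finset.prod_congr rfl fun i hi => ?_
  rw [← pow_succ', Nat.sub_add_cancel]
  obtain ⟨σ, hσ, hσi⟩ := Finset.mem_image.1 hi
  exact Finset.card_pos.2 ⟨σ, Finset.mem_filter.2 ⟨hσ, hσi⟩⟩

section

variable {B C : Type u} [CommRing B] [Algebra A B] [CommRing C] [Algebra A C]
  {P : Type u} [CommRing P] [Algebra A P]

/-- The coefficient of a monomial, as a map on base changes. -/
noncomputable def coeffAt {m : ℕ} {V : Type u} [AddCommGroup V] [Module A V] (ν : Fin m →₀ ℕ) :
    MvPolynomial (Fin m) A ⊗[A] V →ₗ[A] V :=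
  (TensorProduct.lid A V).toLinearMap ∘ₗ (lmon ν).rTensor V

theorem ext_coeffAt {m : ℕ} {V : Type u} [AddCommGroup V] [Module A V] {x y : MvPolynomial (Fin m) A ⊗[A] V}
    (h : ∀ ν, coeffAt ν x = coeffAt ν y) : x = y := by
  apply (TensorProduct.equivFinsuppOfBasisLeft (MvPolynomial.basisMonomials (Fin m) A)).injective
  refine Finsupp.ext fun ν => ?_
  have key : ∀ z : MvPolynomial (Fin m) A ⊗[A] V,
      TensorProduct.equivFinsuppOfBasisLeft (MvPolynomial.basisMonomials (Fin m) A) z ν = coeffAt ν z := fun z => by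
    induction z using TensorProduct.induction_on with
    | zero => simp
    | tmul p v => simp [coeffAt, lmon, TensorProduct.equivFinsuppOfBasisLeft_apply_tmul_apply]
    | add a b ha hb => simp only [map_add, Finsupp.add_apply, ha, hb]
  rw [key, key, h]

theorem coeffAt_mul {m : ℕ} {V : Type u} [CommRing V] [Algebra A V] (ν : Fin m →₀ ℕ) (t : V)
    (z : MvPolynomial (Fin m) A ⊗[A] V) : coeffAt ν (((1 : MvPolynomial (Fin m) A) ⊗ₜ[A] t) * z) = t * coeffAt ν z := by
  induction z using TensorProduct.induction_on with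
  | zero => simp
  | tmul p v => simp [coeffAt, mul_smul_comm]
  | add a b ha hb => rw [mul_add, map_add, map_add, ha, hb, mul_add]

theorem coeffAt_map {m : ℕ} {V W : Type u} [CommRing V] [Algebra A V] [CommRing W] [Algebra A W] (ν : Fin m →₀ ℕ)
    (g : V →ₐ[A] W) (z : MvPolynomial (Fin m) A ⊗[A] V) :
    coeffAt ν (Algebra.TensorProduct.map (AlgHom.id (MvPolynomial (Fin m) A) (MvPolynomial (Fin m) A)) g z) =
      g (coeffAt ν z) := by
  induction z using TensorProduct.induction_on with
  | zero => simp
  | tmul p v => simp [coeffAt]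
  | add a b ha hb => simp only [map_add, ha, hb]

variable {γ : PolLaw.MulLaw A B C d} {π : P →ₐ[A] B} {τ : PolLaw.MulLaw A P (SymTen.TS A P d) d}
  {f : SymTen.TS A P d →ₐ[A] C} [Module.Free A P]

/-- The image of a slot of an element of the kernel is invisible. -/
theorem single_mem_ker (hτ : τ.postcomp (SymTen.TS A P d).val = SymTen.tpowLaw A P d)
    (hf : PolLaw.postcomp f.toLinearMap τ.law = (γ.precomp π).law)
    {Y : PolLaw.MulLaw A (⨂[A] _ : Fin d, P) (SymTen.TS A P d) d.factorial}
    (hY : Y.postcomp (SymTen.TS A P d).val = SymTen.symmLaw A P d) {q : P} (hq : π q = 0) (j : Fin d) :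
    PiTensorProduct.singleAlgHom (R := A) (A := fun _ : Fin d => P) j q ∈ PolLaw.ker (Y.postcomp f).law := by
  classical
  intro S _ _ z w
  obtain ⟨m, χ, z', w', -, rfl, rfl, -⟩ := exists_lift₂ z w 0
  rw [← map_rTensor_mul, ← PolynomialLaw.isCompat_apply', ← PolynomialLaw.isCompat_apply']
  congr 1
  let R := MvPolynomial (Fin m) A
  let ι : Fin d → (⨂[A] _ : Fin d, P) := fun i => PiTensorProduct.singleAlgHom (R := A) (A := fun _ : Fin d => P) i q
  let pm : Equiv.Perm (Fin d) → (R ⊗[A] (⨂[A] _ : Fin d, P) →ₐ[R] R ⊗[A] (⨂[A] _ : Fin d, P)) := fun σ =>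
    Algebra.TensorProduct.map (AlgHom.id R R) (SymTen.perm A P d σ)
  let Yt : Finset (Equiv.Perm (Fin d)) → R ⊗[A] (⨂[A] _ : Fin d, P) := fun t =>
    ((1 : R) ⊗ₜ[A] ∏ i ∈ t.image (fun σ => σ j), ι i ^ ((t.filter fun σ => σ j = i).card - 1)) *
      (∏ σ ∈ t, pm σ w') * ∏ σ ∈ Finset.univ \ t, pm σ z'
  let YO : Finset (Fin d) → R ⊗[A] (⨂[A] _ : Fin d, P) := fun O =>
    ∑ t ∈ (Finset.univ : Finset (Finset (Equiv.Perm (Fin d)))).filter (fun t => t.image (fun σ => σ j) = O), Yt t
  have hYt : ∀ (τ' : Equiv.Perm (Fin d)) t, pm τ' (Yt t) = Yt (t.image (τ' * ·)) := fun τ' t => by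
    have hinj : Set.InjOn (fun σ => τ' * σ) (t : Set (Equiv.Perm (Fin d))) := fun a _ b _ h => mul_left_cancel h
    simp only [Yt, map_mul, map_prod]
    congr 1
    · congr 1
      · rw [Algebra.TensorProduct.map_tmul, map_prod]
        congr 1
        rw [Finset.image_image, show ((fun σ : Equiv.Perm (Fin d) => σ j) ∘ fun σ => τ' * σ) =
          (fun i => τ' i) ∘ (fun σ => σ j) from rfl, ← Finset.image_image,
          Finset.prod_image (fun a _ b _ h => τ'.injective h)]
        refine Finset.prod_congr rfl fun i _ => ?_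
        rw [map_pow, perm_single, Finset.filter_image, Finset.card_image_of_injOn fun a _ b _ h => mul_left_cancel h]
        congr 3
        refine Finset.filter_congr fun σ _ => ?_
        simp
      · rw [Finset.prod_image hinj]
        exact Finset.prod_congr rfl fun σ _ => map_perm_perm τ' σ w'
    · refine Finset.prod_bij' (fun σ _ => τ' * σ) (fun σ _ => τ'⁻¹ * σ) ?_ ?_ ?_ ?_ ?_
      · intro σ hσ; simpa using (Finset.mem_sdiff.1 hσ).2
      · intro σ hσ
        refine Finset.mem_sdiff.2 ⟨Finset.mem_univ _, fun h => (Finset.mem_sdiff.1 hσ).2 ?_⟩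
        exact Finset.mem_image.2 ⟨_, h, mul_inv_cancel_left τ' σ⟩
      · intro σ _; exact inv_mul_cancel_left τ' σ
      · intro σ _; exact mul_inv_cancel_left τ' σ
      · intro σ _; exact map_perm_perm τ' σ z'
  have hYO : ∀ (τ' : Equiv.Perm (Fin d)) O, pm τ' (YO O) = YO (O.image τ') := fun τ' O => by
    simp only [YO, map_sum, hYt]
    refine Finset.sum_bij' (fun t _ => t.image (τ' * ·)) (fun t _ => t.image (τ'⁻¹ * ·)) ?_ ?_ ?_ ?_ ?_
    · intro t ht
      simp only [Finset.mem_filter, Finset.mem_univ, true_and] at ht ⊢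
      rw [← ht, Finset.image_image, Finset.image_image]
      rfl
    · intro t ht
      simp only [Finset.mem_filter, Finset.mem_univ, true_and] at ht ⊢
      have hO : (O.image τ').image (τ'⁻¹ : Equiv.Perm (Fin d)) = O := by
        rw [Finset.image_image]; simp [Function.comp_def]
      rw [Finset.image_image, ← hO, ← ht, Finset.image_image]
      rfl
    · intro t _; rw [Finset.image_image]; simp [Function.comp_def]
    · intro t _; rw [Finset.image_image]; simp [Function.comp_def]
    · intro t _; rfl
  have hexp : (∏ σ, pm σ (z' + w' * ((1 : R) ⊗ₜ[A] ι j))) =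
      ∑ O : Finset (Fin d), ((1 : R) ⊗ₜ[A] ∏ i ∈ O, ι i) * YO O := by
    simp only [map_add, map_mul, add_comm (pm _ z')]
    rw [Finset.prod_add, Finset.powerset_univ, ← Finset.sum_fiberwise Finset.univ
      (fun t : Finset (Equiv.Perm (Fin d)) => t.image fun σ => σ j)]
    refine Finset.sum_congr rfl fun O _ => ?_
    rw [Finset.mul_sum]
    refine Finset.sum_congr rfl fun t ht => ?_
    rw [← (Finset.mem_filter.1 ht).2]
    simp only [Yt, Finset.prod_mul_distrib]
    have hp : (∏ σ ∈ t, pm σ ((1 : R) ⊗ₜ[A] ι j)) = ((1 : R) ⊗ₜ[A] ∏ i ∈ t.image (fun σ => σ j), ι i) *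
        ((1 : R) ⊗ₜ[A] ∏ i ∈ t.image (fun σ => σ j), ι i ^ ((t.filter fun σ => σ j = i).card - 1)) := by
      rw [Algebra.TensorProduct.tmul_mul_tmul, one_mul, ← prod_comp_split t (fun σ => σ j) ι]
      simp only [pm, Algebra.TensorProduct.map_tmul, AlgHom.id_apply, ι, perm_single]
      rw [prod_tmul, Finset.prod_const_one]
    rw [hp]
    ring
  have hYempty : YO ∅ = ∏ σ, pm σ z' := by
    rw [show YO ∅ = Yt ∅ from Finset.sum_eq_single_of_mem ∅ (by simp) fun t ht hne =>
      absurd (Finset.image_eq_empty.1 (Finset.mem_filter.1 ht).2) hne]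
    simp [Yt, ← Algebra.TensorProduct.one_def]
  have hsymm : ∀ u : R ⊗[A] (⨂[A] _ : Fin d, P), ∀ ν, ((coeffAt ν (Y.law.toFun' R u) : SymTen.TS A P d) :
      ⨂[A] _ : Fin d, P) = coeffAt ν (∏ σ, pm σ u) := fun u ν => by
    have h : (SymTen.TS A P d).val.toLinearMap.lTensor R (Y.law.toFun' R u) = ∏ σ, pm σ u :=
      congrFun (congrArg (fun G : PolLaw.MulLaw A (⨂[A] _ : Fin d, P) (⨂[A] _ : Fin d, P) d.factorial =>
        G.law.toFun' R) hY) u
    rw [← h, PolLaw.lTensor_algHom_apply, coeffAt_map]
    rfl
  show f.toLinearMap.lTensor R (Y.law.toFun' R (z' + w' * ((1 : R) ⊗ₜ[A] ι j))) =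
    f.toLinearMap.lTensor R (Y.law.toFun' R z')
  refine ext_coeffAt fun ν => ?_
  rw [PolLaw.lTensor_algHom_apply, PolLaw.lTensor_algHom_apply, coeffAt_map, coeffAt_map, ← sub_eq_zero, ← map_sub]
  obtain ⟨n, b, L, g, hb, hL0, hL⟩ := exists_functional_of_equivariant (Module.Free.chooseBasis A P) q
    (fun O => coeffAt ν (YO O)) (fun τ' O => by rw [← coeffAt_map, hYO])
    ((Finset.univ : Finset (Finset (Fin d))).erase ∅)
    (fun τ' O => by simp [Finset.image_eq_empty]) (Finset.notMem_erase _ _)
  have hdiff : coeffAt ν (Y.law.toFun' R (z' + w' * ((1 : R) ⊗ₜ[A] ι j))) - coeffAt ν (Y.law.toFun' R z') =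
      app L τ.law b := by
    apply Subtype.ext
    rw [AddSubgroupClass.coe_sub, hsymm, hsymm, hexp, ← Finset.add_sum_erase _ _ (Finset.mem_univ (∅ : Finset (Fin d))),
      Finset.prod_empty, ← Algebra.TensorProduct.one_def, one_mul, hYempty, map_add, add_sub_cancel_left, map_sum]
    refine Eq.trans (Finset.sum_congr rfl fun O _ => coeffAt_mul ν (∏ i ∈ O, ι i) (YO O)) ?_
    rw [← hL, ← hτ]
    exact app_postcomp L (SymTen.TS A P d).val.toLinearMap τ.law b
  rw [hdiff]
  show f.toLinearMap (app L τ.law b) = 0
  rw [← app_postcomp, hf]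
  show app L (PolLaw.precomp γ.law π.toLinearMap) b = 0
  rw [app_precomp]
  have hfam : (fun i => π.toLinearMap (b i)) =
      fun i => ∑ k, (Sum.elim (fun _ _ => (0 : A)) (fun l k => if k = l then 1 else 0) i k) • π (g k) := by
    funext i
    subst hb
    rcases i with i | i
    · simp [hq]
    · simp [ite_smul]
  rw [hfam, app_subst, app_eq_sum]
  refine Finset.sum_eq_zero fun μ _ => ?_
  beta_reduce
  by_cases hμ : ∑ i, μ i = d
  · obtain ⟨c, rfl⟩ := exists_mult μ hμ
    rw [← prod_X_eq_monomial, LinearMap.comp_apply, AlgHom.toLinearMap_apply, map_prod]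
    simp only [MvPolynomial.aeval_X, Fintype.sum_sum_type, Sum.elim_inl, Sum.elim_inr, zero_smul,
      Finset.sum_const_zero, zero_add, ite_smul, one_smul, Finset.sum_ite_eq, Finset.mem_univ, if_true]
    rw [hL0, zero_smul]
  · rw [coeff_eq_zero_of_degree γ.homog _ hμ, smul_zero]

end

section Descent

variable {B C : Type u} [CommRing B] [Algebra A B] [CommRing C] [Algebra A C]

/-- A law factors along a surjection when it is constant on the fibres. -/
theorem exists_descend {M M' : Type u} [CommRing M] [Algebra A M] [CommRing M'] [Algebra A M']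
    (p : M →ₐ[A] M') (hp : Function.Surjective p) {n : ℕ} (G : PolLaw.MulLaw A M C n)
    (hG : RingHom.ker p ≤ PolLaw.ker G.law) : ∃ H : PolLaw.MulLaw A M' C n, H.precomp p = G := by
  have hsurj : ∀ (S : Type u) [CommSemiring S] [Algebra A S], Function.Surjective (p.toLinearMap.lTensor S) :=
    fun S _ _ => LinearMap.lTensor_surjective S hp
  have hinv : ∀ (S : Type u) [CommSemiring S] [Algebra A S] (u x : S ⊗[A] M),
      (∀ z, G.law.toFun' S (z + u) = G.law.toFun' S z) → (∀ z, G.law.toFun' S (z + x) = G.law.toFun' S z) →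
      ∀ z, G.law.toFun' S (z + (u + x)) = G.law.toFun' S z := fun S _ _ u x hu hx z => by
    rw [← add_assoc, hx, hu]
  have hconst : ∀ (S : Type u) [CommSemiring S] [Algebra A S] (x y : S ⊗[A] M),
      p.toLinearMap.lTensor S x = p.toLinearMap.lTensor S y → G.law.toFun' S x = G.law.toFun' S y :=
    fun S _ _ x y hxy => by
    let : CommRing S := { Algebra.semiringToRing A (A := S), ‹CommSemiring S› with }
    have hK : Function.Exact (LinearMap.lTensor S (LinearMap.ker p.toLinearMap).subtype) (p.toLinearMap.lTensor S) :=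
      lTensor_exact S (LinearMap.exact_subtype_ker_map p.toLinearMap) hp
    obtain ⟨k, hk⟩ := (hK (x - y)).1 (by rw [map_sub, hxy, sub_self])
    have hstep : ∀ k z, G.law.toFun' S (z + LinearMap.lTensor S (LinearMap.ker p.toLinearMap).subtype k) =
        G.law.toFun' S z := by
      intro k
      induction k using TensorProduct.induction_on with
      | zero => simp
      | tmul s t =>
        intro z
        have h := hG (RingHom.mem_ker.2 (LinearMap.mem_ker.1 t.2)) S z (s ⊗ₜ[A] (1 : M))
        simpa using h
      | add a b ha hb => rw [map_add]; exact hinv S _ _ ha hb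
    have h := hstep k y
    rw [hk, add_sub_cancel] at h
    exact h
  choose s hs using hsurj
  let law : M' →ₚₗ[A] C :=
    { toFun' := fun S _ _ x => G.law.toFun' S (s S x)
      isCompat' := fun {S} _ _ {S'} _ _ φ => by
        funext x
        simp only [Function.comp_apply]
        rw [PolynomialLaw.isCompat_apply']
        refine hconst S' _ _ ?_
        rw [hs, ← LinearMap.comp_apply, LinearMap.lTensor_comp_rTensor, ← LinearMap.rTensor_comp_lTensor,
          LinearMap.comp_apply, hs] }
  have hlaw : ∀ (S : Type u) [CommSemiring S] [Algebra A S] (x : S ⊗[A] M),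
      law.toFun' S (p.toLinearMap.lTensor S x) = G.law.toFun' S x := fun S _ _ x => hconst S _ _ (hs S _)
  have hh : PolLaw.IsHomog law n := fun S _ _ c x => by
    obtain ⟨x, rfl⟩ := (fun y => ⟨s S y, hs S y⟩ : Function.Surjective (p.toLinearMap.lTensor S)) x
    rw [show c • p.toLinearMap.lTensor S x = p.toLinearMap.lTensor S (c • x) by
      rw [PolLaw.lTensor_algHom_apply, PolLaw.lTensor_algHom_apply, map_smul], hlaw, hlaw, G.homog]
  have hm : PolLaw.IsMult law := fun S _ _ => by
    refine ⟨?_, fun x y => ?_⟩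
    · rw [show (1 : S ⊗[A] M') = p.toLinearMap.lTensor S 1 by rw [PolLaw.lTensor_algHom_apply, map_one], hlaw,
        (G.mult S).1]
    · obtain ⟨x, rfl⟩ := (fun y => ⟨s S y, hs S y⟩ : Function.Surjective (p.toLinearMap.lTensor S)) x
      obtain ⟨y, rfl⟩ := (fun y => ⟨s S y, hs S y⟩ : Function.Surjective (p.toLinearMap.lTensor S)) y
      rw [show p.toLinearMap.lTensor S x * p.toLinearMap.lTensor S y = p.toLinearMap.lTensor S (x * y) by
        rw [PolLaw.lTensor_algHom_apply, PolLaw.lTensor_algHom_apply, PolLaw.lTensor_algHom_apply, map_mul],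
        hlaw, hlaw, hlaw, (G.mult S).2]
  exact ⟨⟨law, hh, hm⟩, PolLaw.MulLaw.ext (PolynomialLaw.ext (funext fun S => funext fun _ => funext fun _ =>
    funext fun x => hlaw S x))⟩

theorem postcomp_injective {N N' : Type u} [AddCommGroup N] [Module A N] [AddCommGroup N'] [Module A N']
    {g : N →ₗ[A] N'} (hg : Function.Injective g) {F F' : B →ₚₗ[A] N}
    (h : PolLaw.postcomp g F = PolLaw.postcomp g F') : F = F' :=
  ext_coeff fun n b ν => hg (by rw [← coeff_postcomp, ← coeff_postcomp, h])

theorem tmap_comp_perm {P : Type u} [CommRing P] [Algebra A P] (π : P →ₐ[A] B) (σ : Equiv.Perm (Fin d)) :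
    (SymTen.tmap A d π).comp (SymTen.perm A P d σ) = (SymTen.perm A B d σ).comp (SymTen.tmap A d π) := by
  refine AlgHom.toLinearMap_injective (PiTensorProduct.ext (MultilinearMap.ext fun f => ?_))
  simp only [LinearMap.compMultilinearMap_apply, AlgHom.toLinearMap_apply, AlgHom.comp_apply, SymTen.perm_tprod,
    SymTen.tmap_tprod]

theorem lTensor_comp_apply {V₁ V₂ V₃ : Type u} [CommRing V₁] [Algebra A V₁] [CommRing V₂] [Algebra A V₂]
    [CommRing V₃] [Algebra A V₃] (g : V₂ →ₐ[A] V₃) (f : V₁ →ₐ[A] V₂) (S : Type u) [CommSemiring S] [Algebra A S]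
    (x : S ⊗[A] V₁) :
    (g.comp f).toLinearMap.lTensor S x = g.toLinearMap.lTensor S (f.toLinearMap.lTensor S x) := by
  rw [AlgHom.comp_toLinearMap, LinearMap.lTensor_comp, LinearMap.comp_apply]

/-- The symmetrisation law with values in divided powers. -/
theorem exists_symmGamma (γ : PolLaw.MulLaw A B C d) (hγ : PolLaw.IsGammaD γ) (φ : C →ₐ[A] SymTen.TS A B d)
    (hφ : PolLaw.postcomp ((SymTen.TS A B d).val.comp φ).toLinearMap γ.law = (SymTen.tpowLaw A B d).law) :
    ∃ F : PolLaw.MulLaw A (⨂[A] _ : Fin d, B) C d.factorial,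
      PolLaw.MulLaw.postcomp ((SymTen.TS A B d).val.comp φ) F = SymTen.symmLaw A B d ∧
      PolLaw.MulLaw.precomp (F.precomp (SymTen.TS A B d).val) φ = PolLaw.MulLaw.pow A C d.factorial := by
  classical
  let P := MvPolynomial B A
  let π : P →ₐ[A] B := MvPolynomial.aeval id
  have hπ : Function.Surjective π := fun b => ⟨MvPolynomial.X b, by simp [π, P]⟩
  obtain ⟨τ, hτ⟩ := exists_tsLaw A P d
  obtain ⟨f, hf, -⟩ := isGammaD_tsLaw (Or.inl inferInstance) hτ C (γ.precomp π)
  obtain ⟨Y, hY⟩ := exists_symm₀ A d P
  have hfs : Function.Surjective f := surjective_of_isGammaD (γ := τ) (γ' := γ) hγ π hπ f hf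
  have htm : Function.Surjective (SymTen.tmap A d π) := fun z => by
    induction z using PiTensorProduct.induction_on with
    | smul_tprod r g =>
      choose g' hg' using fun i => hπ (g i)
      exact ⟨r • PiTensorProduct.tprod A g', by simp [hg']⟩
    | add x y hx hy =>
      obtain ⟨x, rfl⟩ := hx
      obtain ⟨y, rfl⟩ := hy
      exact ⟨x + y, map_add _ x y⟩
  have hker : RingHom.ker (SymTen.tmap A d π) ≤ PolLaw.ker (Y.postcomp f).law := fun z hz => by
    obtain ⟨R, hR, hu⟩ := exists_finset_of_map_eq_zero π.toLinearMap hπ (z := z) (by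
      rw [← RingHom.mem_ker.1 hz]
      exact congrFun (congrArg DFunLike.coe (PiTensorProduct.ext (MultilinearMap.ext fun g => by simp) :
        PiTensorProduct.map (fun _ : Fin d => π.toLinearMap) = (SymTen.tmap A d π).toLinearMap)) z)
    let K : Submodule A P := Submodule.span A (R : Set P)
    let I := PolLaw.ker (Y.postcomp f).law
    have hmul : ∀ (g : Fin d → P) (i : Fin d), g i ∈ K → PiTensorProduct.tprod A g ∈ I := fun g i hi => by
      have hgi : π (g i) = 0 := (Submodule.span_le.2 hR : K ≤ LinearMap.ker π.toLinearMap) hi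
      rw [show PiTensorProduct.tprod A g = PiTensorProduct.tprod A (Function.update g i 1) *
          PiTensorProduct.singleAlgHom (R := A) (A := fun _ : Fin d => P) i (g i) by
        rw [single_eq, PiTensorProduct.tprod_mul_tprod]
        congr 1
        funext l
        by_cases h : l = i
        · subst h; simp
        · simp [h]]
      exact Ideal.mul_mem_left _ _ (single_mem_ker hτ hf hY hgi i)
    let L : Submodule A (⨂[A] _ : Fin d, P) := I.restrictScalars A
    have hz0 := hu (P ⧸ K) K.mkQ fun g hg => (Submodule.Quotient.mk_eq_zero K).2 (Submodule.subset_span hg)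
    have hdiff : ∀ (g g' : Fin d → P), (∀ i, g i - g' i ∈ K) →
        PiTensorProduct.tprod A g - PiTensorProduct.tprod A g' ∈ L := fun g g' h => by
      have key : ∀ s : Finset (Fin d),
          PiTensorProduct.tprod A (s.piecewise g' g) - PiTensorProduct.tprod A g ∈ L := fun s => by
        induction s using Finset.induction_on with
        | empty => simp
        | insert i s hi ih =>
          rw [Finset.piecewise_insert]
          have e : PiTensorProduct.tprod A (s.piecewise g' g) =
              PiTensorProduct.tprod A (Function.update (s.piecewise g' g) i (g i)) := by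
            conv_rhs => rw [← Finset.piecewise_eq_of_notMem s g' g hi, Function.update_eq_self]
          have h1 : PiTensorProduct.tprod A (Function.update (s.piecewise g' g) i (g' i)) -
              PiTensorProduct.tprod A (s.piecewise g' g) ∈ L := by
            rw [e, ← MultilinearMap.map_update_sub]
            exact hmul _ i (by rw [Function.update_self]; simpa using neg_mem (h i))
          simpa using add_mem h1 ih
      have := key Finset.univ
      rw [Finset.piecewise_univ] at this
      simpa using neg_mem this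
    obtain ⟨sec, hsec⟩ := (Submodule.mkQ_surjective K).hasRightInverse
    let ψ : MultilinearMap A (fun _ : Fin d => P ⧸ K) ((⨂[A] _ : Fin d, P) ⧸ L) :=
      { toFun := fun g => L.mkQ (PiTensorProduct.tprod A fun i => sec (g i))
        map_update_add' := fun {inst} g i x y => by
          obtain rfl : inst = instDecidableEqFin d := Subsingleton.elim _ _
          have e : ∀ w, (fun l => sec (Function.update g i w l)) = Function.update (fun l => sec (g l)) i (sec w) :=
            fun w => funext fun l => Function.apply_update (fun _ => sec) g i w l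
          simp only [e, ← map_add]
          rw [← MultilinearMap.map_update_add]
          refine (Submodule.Quotient.eq L).2 (hdiff _ _ fun l => ?_)
          by_cases hl : l = i
          · subst hl
            simp only [Function.update_self]
            exact (Submodule.Quotient.eq K).1 (show K.mkQ _ = K.mkQ _ by rw [map_add, hsec, hsec, hsec])
          · simp [hl]
        map_update_smul' := fun {inst} g i r x => by
          obtain rfl : inst = instDecidableEqFin d := Subsingleton.elim _ _
          have e : ∀ w, (fun l => sec (Function.update g i w l)) = Function.update (fun l => sec (g l)) i (sec w) :=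
            fun w => funext fun l => Function.apply_update (fun _ => sec) g i w l
          simp only [e, ← map_smul]
          rw [← MultilinearMap.map_update_smul]
          refine (Submodule.Quotient.eq L).2 (hdiff _ _ fun l => ?_)
          by_cases hl : l = i
          · subst hl
            simp only [Function.update_self]
            exact (Submodule.Quotient.eq K).1 (show K.mkQ _ = K.mkQ _ by rw [map_smul, hsec, hsec])
          · simp [hl] }
    have hψ : ∀ w, PiTensorProduct.lift ψ (PiTensorProduct.map (fun _ : Fin d => K.mkQ) w) = L.mkQ w := fun w => by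
      induction w using PiTensorProduct.induction_on with
      | smul_tprod r g =>
        simp only [map_smul, PiTensorProduct.map_tprod, PiTensorProduct.lift.tprod]
        refine congrArg (r • ·) ((Submodule.Quotient.eq L).2 (hdiff _ _ fun l => ?_))
        exact (Submodule.Quotient.eq K).1 (hsec _)
      | add x y hx hy => simp only [map_add, hx, hy]
    have h3 := hψ z
    rw [hz0, map_zero] at h3
    exact (Submodule.Quotient.mk_eq_zero L).1 h3.symm
  obtain ⟨F, hF⟩ := exists_descend (SymTen.tmap A d π) htm (Y.postcomp f) hker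
  have hFS : ∀ (S : Type u) [CommSemiring S] [Algebra A S] (x : S ⊗[A] (⨂[A] _ : Fin d, P)),
      F.law.toFun' S ((SymTen.tmap A d π).toLinearMap.lTensor S x) = f.toLinearMap.lTensor S (Y.law.toFun' S x) :=
    fun S _ _ x => congrFun (congrArg (fun G : PolLaw.MulLaw A (⨂[A] _ : Fin d, P) C d.factorial => G.law.toFun' S) hF) x
  have hcomm : ((SymTen.TS A B d).val.comp φ).comp f = (SymTen.tmap A d π).comp (SymTen.TS A P d).val := by
    have h1 : ∀ t ∈ coeffSpan τ.law, ((SymTen.TS A B d).val.comp φ).comp f t =
        (SymTen.tmap A d π).comp (SymTen.TS A P d).val t := fun t ht => by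
      refine postcomp_ext (f := (((SymTen.TS A B d).val.comp φ).comp f).toLinearMap)
        (g := ((SymTen.tmap A d π).comp (SymTen.TS A P d).val).toLinearMap) (ext_coeff fun n b ν => ?_) ht
      rw [coeff_postcomp, coeff_postcomp]
      show ((SymTen.TS A B d).val.comp φ) (f.toLinearMap (coeff τ.law b ν)) = _
      rw [← coeff_postcomp f.toLinearMap, hf]
      show ((SymTen.TS A B d).val.comp φ) (coeff (PolLaw.precomp γ.law π.toLinearMap) b ν) =
        SymTen.tmap A d π ((SymTen.TS A P d).val.toLinearMap (coeff τ.law b ν))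
      rw [← app_lmon, app_precomp]
      refine ((app_postcomp (lmon ν) ((SymTen.TS A B d).val.comp φ).toLinearMap γ.law _).symm.trans ?_)
      rw [hφ, ← coeff_postcomp, show PolLaw.postcomp (SymTen.TS A P d).val.toLinearMap τ.law =
        (SymTen.tpowLaw A P d).law from congrArg PolLaw.MulLaw.law hτ, app_lmon, coeff_tpow, coeff_tpow, map_sum]
      refine Finset.sum_congr rfl fun c _ => ?_
      split_ifs <;> simp
    exact AlgHom.ext fun t => h1 t (coeffSpan_eq_top (isGammaD_tsLaw (Or.inl inferInstance) hτ) ▸ Submodule.mem_top)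
  have hYval : ∀ (S : Type u) [CommSemiring S] [Algebra A S] (x : S ⊗[A] (⨂[A] _ : Fin d, P)),
      (SymTen.TS A P d).val.toLinearMap.lTensor S (Y.law.toFun' S x) = (SymTen.symmLaw A P d).law.toFun' S x :=
    fun S _ _ x => congrFun (congrArg (fun G : PolLaw.MulLaw A (⨂[A] _ : Fin d, P) (⨂[A] _ : Fin d, P) d.factorial =>
      G.law.toFun' S) hY) x
  have hYpow : PolLaw.precomp Y.law (SymTen.TS A P d).val.toLinearMap =
      (PolLaw.MulLaw.pow A (SymTen.TS A P d) d.factorial).law := by
    refine postcomp_injective (g := (SymTen.TS A P d).val.toLinearMap) Subtype.val_injective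
      (PolynomialLaw.ext (funext fun S => funext fun _ => funext fun _ => funext fun x => ?_))
    show (SymTen.TS A P d).val.toLinearMap.lTensor S (Y.law.toFun' S _) =
      (SymTen.TS A P d).val.toLinearMap.lTensor S (x ^ d.factorial)
    rw [hYval]
    exact pow_eq_of_fixed x
  refine ⟨F, PolLaw.MulLaw.ext (PolynomialLaw.ext (funext fun S => funext fun _ => funext fun _ => funext fun x => ?_)),
    PolLaw.MulLaw.ext (PolynomialLaw.ext (funext fun S => funext fun _ => funext fun _ => funext fun x => ?_))⟩
  · show ((SymTen.TS A B d).val.comp φ).toLinearMap.lTensor S (F.law.toFun' S x) = _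
    obtain ⟨x, rfl⟩ := LinearMap.lTensor_surjective S (g := (SymTen.tmap A d π).toLinearMap) htm x
    rw [hFS, ← lTensor_comp_apply, hcomm, lTensor_comp_apply, hYval, symmLaw_toFun, symmLaw_toFun,
      PolLaw.lTensor_algHom_apply, map_prod]
    refine Finset.prod_congr rfl fun σ _ => ?_
    rw [← PolLaw.lTensor_algHom_apply, ← PolLaw.lTensor_algHom_apply, ← PolLaw.lTensor_algHom_apply,
      ← lTensor_comp_apply, ← lTensor_comp_apply, tmap_comp_perm]
  · show F.law.toFun' S ((SymTen.TS A B d).val.toLinearMap.lTensor S (φ.toLinearMap.lTensor S x)) = x ^ d.factorial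
    obtain ⟨x, rfl⟩ := LinearMap.lTensor_surjective S (g := f.toLinearMap) hfs x
    rw [← lTensor_comp_apply, ← lTensor_comp_apply, hcomm, lTensor_comp_apply, hFS,
      show Y.law.toFun' S ((SymTen.TS A P d).val.toLinearMap.lTensor S x) = x ^ d.factorial from
        congrFun (congrArg (fun G : SymTen.TS A P d →ₚₗ[A] SymTen.TS A P d => G.toFun' S) hYpow) x,
      PolLaw.lTensor_algHom_apply, PolLaw.lTensor_algHom_apply, map_pow]

end Descent

end Groth.Agent.ZC
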