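import Mathlib
import Groth.Agent.ZC.Symm

/-!
# Surjectivity of Iversen's map
-/

open scoped TensorProduct

namespace Groth.Agent.ZC

universe u

variable {A B Cd Ce : Type u} [CommRing A] [CommRing B] [Algebra A B]
  [CommRing Cd] [Algebra A Cd] [CommRing Ce] [Algebra A Ce] {e : ℕ}
  (γd : PolLaw.MulLaw A B Cd (e + 1)) (γe : PolLaw.MulLaw A B Ce e)
  (ω : Cd ⊗[A] B →ₐ[A] Ce ⊗[A] B)
  (hω : ∀ (S : Type u) [CommSemiring S] [Algebra A S] (x y : S ⊗[A] B),
      ω.toLinearMap.lTensor S
        ((Algebra.TensorProduct.includeLeft : Cd →ₐ[A] Cd ⊗[A] B).toLinearMap.lTensor S (γd.law.toFun' S x) *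
          (Algebra.TensorProduct.includeRight : B →ₐ[A] Cd ⊗[A] B).toLinearMap.lTensor S y) =
      (Algebra.TensorProduct.includeLeft : Ce →ₐ[A] Ce ⊗[A] B).toLinearMap.lTensor S (γe.law.toFun' S x) *
        (Algebra.TensorProduct.includeRight : B →ₐ[A] Ce ⊗[A] B).toLinearMap.lTensor S (x * y))

include hω in
theorem omega_coeff {m : ℕ} (b : Fin m → B) (μ : Fin m →₀ ℕ) :
    ω (coeff γd.law b μ ⊗ₜ[A] (1 : B)) =
      ∑ o, if 1 ≤ μ o then coeff γe.law b (μ - Finsupp.single o 1) ⊗ₜ[A] b o else 0 := by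
  classical
  let R := MvPolynomial (Fin m) A
  let x : R ⊗[A] B := ∑ i, MvPolynomial.X i ⊗ₜ[A] b i
  have hfun : ∀ {T : Type u} [CommRing T] [Algebra A T] (F : B →ₚₗ[A] T),
      F.toFun' R x = (coeff F b).sum fun ν c => MvPolynomial.monomial ν (1 : A) ⊗ₜ[A] c := fun F => gen_eq_sum F b
  have h := congrArg (coeffAt (A := A) μ) (hω R x 1)
  have hone : ((Algebra.TensorProduct.includeRight : B →ₐ[A] Cd ⊗[A] B).toLinearMap.lTensor R 1 :
      R ⊗[A] (Cd ⊗[A] B)) = 1 := by
    rw [Algebra.TensorProduct.one_def, LinearMap.lTensor_tmul, AlgHom.toLinearMap_apply, map_one,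
      Algebra.TensorProduct.one_def (A := R) (B := Cd ⊗[A] B)]
  rw [hone, mul_one, mul_one, hfun, hfun, map_finsuppSum, map_finsuppSum, map_finsuppSum] at h
  simp only [LinearMap.lTensor_tmul, AlgHom.toLinearMap_apply, Algebra.TensorProduct.includeLeft_apply] at h
  have hE : ∀ {V : Type u} [AddCommGroup V] [Module A V] (ν : Fin m →₀ ℕ) (v : V),
      coeffAt μ (MvPolynomial.monomial ν (1 : A) ⊗ₜ[A] v) = if ν = μ then v else 0 := fun ν v => by
    simp [coeffAt, lmon_monomial, ite_smul]
  rw [show x = ∑ i, MvPolynomial.X i ⊗ₜ[A] b i from rfl, map_sum, map_finsuppSum, Finset.mul_sum, map_sum] at h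
  refine Eq.trans ?_ (h.trans (Finset.sum_congr rfl fun o _ => ?_))
  · simp only [hE]
    rw [Finsupp.sum]
    by_cases hμ : μ ∈ (coeff γd.law b).support
    · rw [Finset.sum_eq_single μ (fun ν _ hne => if_neg hne) (fun hc => absurd hμ hc), if_pos rfl]
    · rw [Finset.sum_eq_zero fun ν hν => if_neg fun h : ν = μ => hμ (h ▸ hν), Finsupp.notMem_support_iff.1 hμ,
        TensorProduct.zero_tmul, map_zero]
  · rw [LinearMap.lTensor_tmul, AlgHom.toLinearMap_apply, Algebra.TensorProduct.includeRight_apply, Finsupp.sum,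
      Finset.sum_mul, map_sum]
    simp only [LinearMap.lTensor_tmul, AlgHom.toLinearMap_apply, Algebra.TensorProduct.includeLeft_apply, Algebra.TensorProduct.tmul_mul_tmul, MvPolynomial.X, mul_one, one_mul]
    have hmul : ∀ ν, (MvPolynomial.monomial ν (1 : A) : R) * MvPolynomial.monomial (Finsupp.single o 1) (1 : A) =
        MvPolynomial.monomial (ν + Finsupp.single o 1) (1 : A) := fun ν => by
      show (MvPolynomial.monomial ν (1 : A)) * _ = _
      erw [MvPolynomial.monomial_mul, one_mul]
    simp only [hmul, hE]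
    by_cases ho : 1 ≤ μ o
    · rw [if_pos ho]
      have hadd : μ - Finsupp.single o 1 + Finsupp.single o 1 = μ :=
        tsub_add_cancel_of_le (Finsupp.single_le_iff.2 ho)
      by_cases hμ : μ - Finsupp.single o 1 ∈ (coeff γe.law b).support
      · rw [Finset.sum_eq_single (μ - Finsupp.single o 1), if_pos hadd]
        · intro ν _ hne
          exact if_neg fun h => hne (add_right_cancel (h.trans hadd.symm))
        · exact fun hc => absurd hμ hc
      · rw [Finsupp.notMem_support_iff.1 hμ, TensorProduct.zero_tmul]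
        exact Finset.sum_eq_zero fun ν hν => if_neg fun h' : ν + Finsupp.single o 1 = μ => hμ (by
          rwa [← add_right_cancel (h'.trans hadd.symm)])
    · rw [if_neg ho]
      refine Finset.sum_eq_zero fun ν _ => if_neg fun h => ho ?_
      rw [← h]
      simp

include hω in
theorem iversen_surjective (hγe : PolLaw.IsGammaD γe) : Function.Surjective ω := by
  classical
  have hR : ∀ y : B, (1 : Ce) ⊗ₜ[A] y ∈ ω.range := fun y => by
    refine ⟨(1 : Cd) ⊗ₜ[A] y, ?_⟩
    have h := congrArg (TensorProduct.lid A (Ce ⊗[A] B)) (hω A 1 ((1 : A) ⊗ₜ[A] y))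
    rw [(γd.mult A).1, (γe.mult A).1, one_mul, Algebra.TensorProduct.one_def, Algebra.TensorProduct.one_def] at h
    simpa [Algebra.TensorProduct.tmul_mul_tmul] using h
  have key : ∀ (n : ℕ) (b : Fin n → B) (k : ℕ) (ν : Fin (n + 1) →₀ ℕ), e - ν 0 = k →
      coeff γe.law (Fin.cons 1 b) ν ⊗ₜ[A] (1 : B) ∈ ω.range := by
    intro n b k
    induction k using Nat.strong_induction_on with
    | _ k ih =>
      intro ν hk
      by_cases hν : ∑ i, ν i = e
      · have h := omega_coeff γd γe ω hω (Fin.cons 1 b) (ν + Finsupp.single 0 1)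
        rw [Fin.sum_univ_succ, if_pos (by simp), add_tsub_cancel_right, Fin.cons_zero] at h
        rw [eq_sub_of_add_eq h.symm]
        refine Subalgebra.sub_mem _ ⟨_, rfl⟩ (Subalgebra.sum_mem _ fun o _ => ?_)
        by_cases ho : 1 ≤ (ν + Finsupp.single (0 : Fin (n + 1)) 1 : Fin (n + 1) →₀ ℕ) o.succ
        · rw [if_pos ho, Fin.cons_succ]
          have hlt : ν 0 < e := by
            have : ν o.succ + ν 0 ≤ e := by
              rw [← hν, ← Finset.sum_pair (Fin.succ_ne_zero o)]
              exact Finset.sum_le_sum_of_subset (Finset.subset_univ _)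
            have : 1 ≤ ν o.succ := by simpa using ho
            omega
          have h2 := ih (e - (ν 0 + 1)) (by omega)
            (ν + Finsupp.single 0 1 - Finsupp.single o.succ 1) (by simp [Finsupp.single_apply, Fin.succ_ne_zero])
          have h3 := Subalgebra.mul_mem _ h2 (hR (b o))
          rwa [Algebra.TensorProduct.tmul_mul_tmul, mul_one, one_mul] at h3
        · rw [if_neg ho]
          exact Subalgebra.zero_mem _
      · rw [coeff_eq_zero_of_degree γe.homog _ hν, TensorProduct.zero_tmul]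
        exact Subalgebra.zero_mem _
  have hC : ∀ c : Ce, c ⊗ₜ[A] (1 : B) ∈ ω.range := fun c => by
    have hc : c ∈ coeffSpan γe.law := coeffSpan_eq_top hγe ▸ Submodule.mem_top
    induction hc using Submodule.span_induction with
    | zero => rw [TensorProduct.zero_tmul]; exact Subalgebra.zero_mem _
    | add p q _ _ hp hq => rw [TensorProduct.add_tmul]; exact Subalgebra.add_mem _ hp hq
    | smul a p _ hp => rw [← TensorProduct.smul_tmul']; exact Subalgebra.smul_mem _ hp a
    | mem p hp =>
      obtain ⟨n, b, ν, rfl⟩ := hp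
      let L : MvPolynomial (Fin n) A →ₗ[A] A := lmon ν
      rw [← app_lmon, show b = (Fin.cons 1 b : Fin (n + 1) → B) ∘ Fin.succ from funext fun i => by simp]
      rw [show app (lmon ν) γe.law ((Fin.cons 1 b : Fin (n + 1) → B) ∘ Fin.succ) = _ from
        app_comp L γe.law (Fin.cons 1 b : Fin (n + 1) → B) Fin.succ, app_eq_sum, Finsupp.sum, TensorProduct.sum_tmul]
      exact Subalgebra.sum_mem _ fun μ _ => by
        rw [← TensorProduct.smul_tmul']; exact Subalgebra.smul_mem _ (key n b _ μ rfl) _
  intro z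
  show z ∈ ω.range
  induction z using TensorProduct.induction_on with
  | zero => exact Subalgebra.zero_mem _
  | add p q hp hq => exact Subalgebra.add_mem _ hp hq
  | tmul c y =>
    have h := Subalgebra.mul_mem _ (hC c) (hR y)
    rwa [Algebra.TensorProduct.tmul_mul_tmul, mul_one, one_mul] at h

end Groth.Agent.ZC
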