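import Mathlib
import Groth.Prelude.Def_PolLaw2

/-!
# The determinant law of a finitely generated projective module
-/

open scoped TensorProduct

namespace Groth.Agent.ZC

universe u

variable {A : Type u} [CommRing A] {B : Type u} [CommRing B] [Algebra A B]
  {M Q : Type u} [AddCommGroup M] [Module A M] [Module B M] [IsScalarTower A B M] [AddCommGroup Q] [Module A Q]

/-- `B × A` acting componentwise. -/
@[reducible] noncomputable def pairModule (A B M Q : Type u) [CommRing A] [CommRing B] [AddCommGroup M] [Module B M]
    [AddCommGroup Q] [Module A Q] : Module (B × A) (M × Q) where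
  smul x v := (x.1 • v.1, x.2 • v.2)
  one_smul v := Prod.ext (one_smul B v.1) (one_smul A v.2)
  mul_smul x y v := Prod.ext (mul_smul x.1 y.1 v.1) (mul_smul x.2 y.2 v.2)
  smul_zero x := Prod.ext (smul_zero x.1) (smul_zero x.2)
  smul_add x v w := Prod.ext (smul_add x.1 v.1 w.1) (smul_add x.2 v.2 w.2)
  add_smul x y v := Prod.ext (add_smul x.1 y.1 v.1) (add_smul x.2 y.2 v.2)
  zero_smul v := Prod.ext (zero_smul B v.1) (zero_smul A v.2)

attribute [local instance] pairModule

instance pairTower : IsScalarTower A (B × A) (M × Q) :=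
  ⟨fun a x v => Prod.ext (smul_assoc a x.1 v.1) (smul_assoc a x.2 v.2)⟩

/-- `x ↦ (x, 1)`. -/
noncomputable def up (A B S : Type u) [CommRing A] [CommRing B] [Algebra A B] [CommSemiring S] [Algebra A S]
    (x : S ⊗[A] B) : S ⊗[A] (B × A) :=
  (LinearMap.inl A B A).lTensor S x + (1 : S) ⊗ₜ[A] ((0 : B), (1 : A))

theorem up_one (S : Type u) [CommSemiring S] [Algebra A S] : up A B S 1 = 1 := by
  rw [up, Algebra.TensorProduct.one_def, LinearMap.lTensor_tmul, ← TensorProduct.tmul_add,
    Algebra.TensorProduct.one_def]
  simp [Prod.one_eq_mk]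

theorem up_mul (S : Type u) [CommSemiring S] [Algebra A S] (x y : S ⊗[A] B) :
    up A B S (x * y) = up A B S x * up A B S y := by
  have h0 : ∀ x : S ⊗[A] B, (LinearMap.inl A B A).lTensor S x * ((1 : S) ⊗ₜ[A] ((0 : B), (1 : A))) = 0 := fun x => by
    induction x using TensorProduct.induction_on with
    | zero => simp
    | tmul s b => simp [Algebra.TensorProduct.tmul_mul_tmul, ← Prod.zero_eq_mk]
    | add x y hx hy => rw [map_add, add_mul, hx, hy, add_zero]
  have h1 : ∀ x y : S ⊗[A] B, (LinearMap.inl A B A).lTensor S (x * y) =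
      (LinearMap.inl A B A).lTensor S x * (LinearMap.inl A B A).lTensor S y := fun x y => by
    induction x using TensorProduct.induction_on with
    | zero => simp
    | tmul s b =>
      induction y using TensorProduct.induction_on with
      | zero => simp
      | tmul t c => simp [Algebra.TensorProduct.tmul_mul_tmul]
      | add y z hy hz => simp only [mul_add, map_add, hy, hz]
    | add x z hx hz => simp only [add_mul, map_add, hx, hz]
  have h2 : ((1 : S) ⊗ₜ[A] ((0 : B), (1 : A))) * ((1 : S) ⊗ₜ[A] ((0 : B), (1 : A))) = (1 : S) ⊗ₜ[A] ((0 : B), (1 : A)) := by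
    simp [Algebra.TensorProduct.tmul_mul_tmul]
  rw [up, up, up, add_mul, mul_add, mul_add, h0, mul_comm ((1 : S) ⊗ₜ[A] ((0 : B), (1 : A))) ((LinearMap.inl A B A).lTensor S y),
    h0, h2, h1, add_zero, zero_add]

theorem rTensor_up {S S' : Type u} [CommSemiring S] [Algebra A S] [CommSemiring S'] [Algebra A S'] (φ : S →ₐ[A] S')
    (x : S ⊗[A] B) :
    φ.toLinearMap.rTensor (B × A) (up A B S x) = up A B S' (φ.toLinearMap.rTensor B x) := by
  rw [up, up, map_add, ← LinearMap.comp_apply, LinearMap.rTensor_comp_lTensor, ← LinearMap.lTensor_comp_rTensor,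
    LinearMap.comp_apply]
  simp [LinearMap.rTensor_tmul]

variable [Module.Free A (M × Q)] [Module.Finite A (M × Q)]

variable (A B M Q) in
/-- The determinant law of a direct summand of a free module. -/
noncomputable def projLaw : B →ₚₗ[A] A where
  toFun' S _ _ := fun x => PolLaw.detFun A (B × A) (M × Q) S (up A B S x)
  isCompat' φ := funext fun x => by
    simp only [Function.comp_apply]
    rw [PolLaw.detFun_compat (M := M × Q) φ, rTensor_up]

theorem projLaw_mult : PolLaw.IsMult (projLaw A B M Q) := fun S _ _ => by
  refine ⟨?_, fun x y => ?_⟩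
  · show PolLaw.detFun A (B × A) (M × Q) S (up A B S 1) = 1
    rw [up_one, PolLaw.detFun_one]
  · show PolLaw.detFun A (B × A) (M × Q) S (up A B S (x * y)) = _
    rw [up_mul, PolLaw.detFun_mul]
    rfl

theorem projLaw_local (S : Type u) [CommRing S] [IsLocalRing S] [Algebra A S] [Module.Finite A M] [Module.Projective A M]
    [Module.Finite A Q] [Module.Projective A Q] (x : S ⊗[A] B) :
    (projLaw A B M Q).toFun' S x = PolLaw.detAct M S x ⊗ₜ[A] (1 : A) := by
  show PolLaw.detFun A (B × A) (M × Q) S (up A B S x) = _
  rw [PolLaw.detFun_eq_detAct]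
  congr 1
  have := Module.free_of_flat_of_isLocalRing (R := S) (P := S ⊗[A] M)
  have := Module.free_of_flat_of_isLocalRing (R := S) (P := S ⊗[A] Q)
  let e := TensorProduct.prodRight A S S M Q
  have hconj : (e.toLinearMap ∘ₗ PolLaw.actEnd (M × Q) S (up A B S x)) ∘ₗ e.symm.toLinearMap =
      LinearMap.prodMap (PolLaw.actEnd M S x) LinearMap.id := by
    have key : ∀ z : S ⊗[A] (M × Q), e (PolLaw.actEnd (M × Q) S (up A B S x) z) =
        (PolLaw.actEnd M S x (e z).1, (e z).2) := fun z => by
      induction z using TensorProduct.induction_on with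
      | zero => simp; rfl
      | add z w hz hw => simp only [map_add, hz, hw, Prod.fst_add, Prod.snd_add, Prod.mk_add_mk]
      | tmul t v =>
        obtain ⟨m, q⟩ := v
        rw [up, map_add, LinearMap.add_apply, PolLaw.actEnd_tmul_tmul, map_add]
        have h1 : e (PolLaw.actEnd (M × Q) S ((LinearMap.inl A B A).lTensor S x) (t ⊗ₜ[A] (m, q))) =
            (PolLaw.actEnd M S x (t ⊗ₜ[A] m), 0) := by
          induction x using TensorProduct.induction_on with
          | zero => simp; rfl
          | add x y hx hy =>
            simp only [map_add, LinearMap.add_apply, hx, hy, Prod.mk_add_mk, add_zero]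
          | tmul s b =>
            rw [LinearMap.lTensor_tmul, PolLaw.actEnd_tmul_tmul, PolLaw.actEnd_tmul_tmul]
            show e ((s * t) ⊗ₜ[A] (b • m, (0 : A) • q)) = _
            simp [e]
        rw [h1]
        show _ + e ((1 * t) ⊗ₜ[A] ((0 : B) • m, (1 : A) • q)) = _
        simp [e]
    refine LinearMap.ext fun w => ?_
    simp only [LinearMap.comp_apply, LinearEquiv.coe_coe, key, LinearEquiv.apply_symm_apply]
    rfl
  rw [PolLaw.detAct, PolLaw.detAct, ← LinearMap.det_conj (PolLaw.actEnd (M × Q) S (up A B S x)) e,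
    ← LinearMap.comp_assoc] at *
  rw [hconj, LinearMap.det_prodMap, LinearMap.det_id, mul_one]

omit [Algebra A B] in
/-- Values in the base agreeing on all local algebras are equal. -/
theorem eq_of_local {S : Type u} [CommSemiring S] [Algebra A S] {y z : S ⊗[A] A}
    (h : ∀ (L : Type u) [CommRing L] [IsLocalRing L] [Algebra A L] (φ : S →ₐ[A] L),
      φ.toLinearMap.rTensor A y = φ.toLinearMap.rTensor A z) : y = z := by
  let : CommRing S :=
    { (Algebra.semiringToRing A : Ring S), (inferInstance : CommSemiring S) with }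
  refine (TensorProduct.rid A S).injective (sub_eq_zero.1 (eq_zero_of_localization _ fun J _ => ?_))
  let φ : S →ₐ[A] Localization.AtPrime J := IsScalarTower.toAlgHom A S (Localization.AtPrime J)
  have key : ∀ y : S ⊗[A] A, φ (TensorProduct.rid A S y) = TensorProduct.rid A _ (φ.toLinearMap.rTensor A y) := fun y => by
    induction y using TensorProduct.induction_on with
    | zero => simp
    | tmul s a => simp [LinearMap.rTensor_tmul]
    | add y z hy hz => simp only [map_add, hy, hz]
  show φ _ = 0
  rw [map_sub, key, key, h, sub_self]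

/-- Laws into the base agreeing on local algebras are equal. -/
theorem ext_local {N N' : B →ₚₗ[A] A}
    (h : ∀ (S : Type u) [CommRing S] [IsLocalRing S] [Algebra A S] (x : S ⊗[A] B), N.toFun' S x = N'.toFun' S x) :
    N = N' := by
  refine PolynomialLaw.ext ?_
  funext S _ _ x
  refine eq_of_local fun L _ _ _ φ => ?_
  rw [PolynomialLaw.isCompat_apply', PolynomialLaw.isCompat_apply', h]

/-- The determinant law is homogeneous of the rank. -/
theorem projLaw_homog [Module.Finite A M] [Module.Projective A M] [Module.Finite A Q] [Module.Projective A Q]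
    (d : ℕ) (hd : ∀ p : PrimeSpectrum A, Module.rankAtStalk M p = d) : PolLaw.IsHomog (projLaw A B M Q) d := by
  intro S _ _ s x
  refine eq_of_local fun L _ _ _ φ => ?_
  have := Module.free_of_flat_of_isLocalRing (R := L) (P := L ⊗[A] M)
  have hrank : Module.finrank L (L ⊗[A] M) = d := by
    have h1 := congrFun (Module.rankAtStalk_eq_finrank_of_free (R := L) (M := L ⊗[A] M)) (IsLocalRing.closedPoint L)
    rw [Module.rankAtStalk_baseChange, hd] at h1
    exact h1.symm
  have hsm : ∀ (y : S ⊗[A] B), φ.toLinearMap.rTensor B (s • y) = φ s • φ.toLinearMap.rTensor B y := fun y => by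
    induction y using TensorProduct.induction_on with
    | zero => simp
    | tmul t b => simp [TensorProduct.smul_tmul', LinearMap.rTensor_tmul]
    | add y z hy hz => simp only [smul_add, map_add, hy, hz]
  have hsm' : ∀ (y : S ⊗[A] A) (r : S), φ.toLinearMap.rTensor A (r • y) = φ r • φ.toLinearMap.rTensor A y := fun y r => by
    induction y using TensorProduct.induction_on with
    | zero => simp
    | tmul t b => simp [TensorProduct.smul_tmul', LinearMap.rTensor_tmul]
    | add y z hy hz => simp only [smul_add, map_add, hy, hz]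
  rw [hsm', PolynomialLaw.isCompat_apply', PolynomialLaw.isCompat_apply', projLaw_local, projLaw_local, hsm,
    map_pow, TensorProduct.smul_tmul', smul_eq_mul, PolLaw.detAct, PolLaw.detAct, map_smul, LinearMap.det_smul, hrank]

theorem exists_complement [Module.Finite A M] [Module.Projective A M] :
    ∃ (Q : Type u) (_ : AddCommGroup Q) (_ : Module A Q) (_ : Module.Finite A Q) (_ : Module.Projective A Q),
      Module.Free A (M × Q) ∧ Module.Finite A (M × Q) := by
  obtain ⟨n, f, g, -, -, hfg⟩ := Module.Finite.exists_comp_eq_id_of_projective A M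
  let p : (Fin n → A) →ₗ[A] (Fin n → A) := LinearMap.id - g ∘ₗ f
  have hfg' : ∀ m, f (g m) = m := fun m => LinearMap.congr_fun hfg m
  have hp : ∀ v, p v ∈ LinearMap.ker f := fun v => by simp [p, hfg']
  let e : (Fin n → A) ≃ₗ[A] M × LinearMap.ker f :=
    LinearEquiv.ofLinearMap (f.prod (p.codRestrict _ hp)) (g.coprod (LinearMap.ker f).subtype)
      (LinearMap.ext fun v => Prod.ext (by simp [hfg', LinearMap.mem_ker.1 v.2.2])
        (Subtype.ext (by simp [p, hfg', LinearMap.mem_ker.1 v.2.2])))
      (LinearMap.ext fun v => by simp [p])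
  have hproj : Module.Projective A (LinearMap.ker f) :=
    Module.Projective.of_split (LinearMap.ker f).subtype (p.codRestrict _ hp)
      (LinearMap.ext fun v => Subtype.ext (by simp [p, LinearMap.mem_ker.1 v.2]))
  have hfin : Module.Finite A (LinearMap.ker f) :=
    Module.Finite.of_surjective (p.codRestrict _ hp) fun v =>
      ⟨v, Subtype.ext (by simp [p, LinearMap.mem_ker.1 v.2])⟩
  exact ⟨_, inferInstance, inferInstance, hfin, hproj, Module.Free.of_equiv e, Module.Finite.equiv e⟩

end Groth.Agent.ZC
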