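import Mathlib
import Groth.Agent.ZC.Kernel

/-!
# Membership in the kernel of a base change
-/

open scoped TensorProduct

namespace Groth.Agent.ZC

universe u

variable {A : Type u} [CommRing A] {B : Type u} [CommRing B] [Algebra A B] {d : ℕ}

theorem productMap_ofId_injective {R : Type u} [CommRing R] [Algebra A R] (ψ : A →ₐ[A] R) :
    Function.Injective (Algebra.TensorProduct.productMap (AlgHom.id A R) ψ) := by
  have h : ∀ x, Algebra.TensorProduct.productMap (AlgHom.id A R) ψ x = TensorProduct.rid A R x := fun x => by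
    induction x using TensorProduct.induction_on with
    | zero => simp
    | tmul r a => simp [toAlgHom_eq ψ, Algebra.ofId_apply, Algebra.smul_def, mul_comm]
    | add x y hx hy => simp only [map_add, hx, hy]
  intro x y hxy
  rw [h, h] at hxy
  exact (TensorProduct.rid A R).injective hxy

/-- Membership in the kernel of a base change is tested on rings. -/
theorem mem_kerBC_of_norm (F : PolLaw.MulLaw A B A d) {A' : Type u} [CommRing A'] [Algebra A A'] {z : A' ⊗[A] B}
    (h : ∀ (R : Type u) [CommRing R] [Algebra A R] (Φ : A' →ₐ[A] R) (x w : R ⊗[A] B),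
      norm F (Algebra.ofId A R) (x + w * Algebra.TensorProduct.map Φ (AlgHom.id A B) z) =
        norm F (Algebra.ofId A R) x) : z ∈ PolLaw.kerBC F.law A' := by
  intro R _ _ _ _ x w
  let : CommRing R :=
    { (Algebra.semiringToRing A : Ring R), (inferInstance : CommSemiring R) with }
  exact productMap_ofId_injective (Algebra.ofId A R) (h R (IsScalarTower.toAlgHom A A' R) x w)

theorem map_map {P Q R : Type u} [CommRing P] [Algebra A P] [CommRing Q] [Algebra A Q] [CommRing R] [Algebra A R]
    (g : Q →ₐ[A] R) (f : P →ₐ[A] Q) (z : P ⊗[A] B) :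
    Algebra.TensorProduct.map g (AlgHom.id A B) (Algebra.TensorProduct.map f (AlgHom.id A B) z) =
      Algebra.TensorProduct.map (g.comp f) (AlgHom.id A B) z := by
  induction z using TensorProduct.induction_on with
  | zero => simp
  | tmul p b => simp
  | add x y hx hy => simp only [map_add, hx, hy]

/-- The kernels of base changes are functorial. -/
theorem map_mem_kerBC (F : PolLaw.MulLaw A B A d) {A' A'' : Type u} [CommRing A'] [Algebra A A'] [CommRing A'']
    [Algebra A A''] (f : A' →ₐ[A] A'') {z : A' ⊗[A] B} (hz : z ∈ PolLaw.kerBC F.law A') :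
    Algebra.TensorProduct.map f (AlgHom.id A B) z ∈ PolLaw.kerBC F.law A'' :=
  mem_kerBC_of_norm F fun R _ _ Φ x w => by
    rw [map_map]; exact norm_eq_of_mem_kerBC F hz _ _ x w

theorem exists_coords {r : ℕ} {g : Fin r → B} (hg : Submodule.span A (Set.range g) = ⊤) {R : Type u} [CommRing R]
    [Algebra A R] (x : R ⊗[A] B) : ∃ s : Fin r → R, x = ∑ i, s i ⊗ₜ[A] g i := by
  induction x using TensorProduct.induction_on with
  | zero => exact ⟨0, by simp⟩
  | tmul a b =>
    obtain ⟨c, hc⟩ := (Submodule.mem_span_range_iff_exists_fun A).1 (hg ▸ Submodule.mem_top : b ∈ Submodule.span A (Set.range g))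
    refine ⟨fun i => c i • a, ?_⟩
    simp [← hc, TensorProduct.tmul_sum, TensorProduct.smul_tmul]
  | add x y hx hy =>
    obtain ⟨s, rfl⟩ := hx
    obtain ⟨t, rfl⟩ := hy
    exact ⟨s + t, by simp [TensorProduct.add_tmul, Finset.sum_add_distrib]⟩

/-- The variation `N(x₀ + w₀ z) - N(x₀)` in universal coordinates. -/
noncomputable def variation (F : PolLaw.MulLaw A B A d) {r : ℕ} (g : Fin r → B) {A' : Type u} [CommRing A']
    [Algebra A A'] (z : A' ⊗[A] B) : MvPolynomial (Fin r ⊕ Fin r) A' :=
  norm F (Algebra.ofId A _) ((∑ i, MvPolynomial.X (Sum.inl i) ⊗ₜ[A] g i) +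
    (∑ i, MvPolynomial.X (Sum.inr i) ⊗ₜ[A] g i) *
      Algebra.TensorProduct.map (IsScalarTower.toAlgHom A A' (MvPolynomial (Fin r ⊕ Fin r) A')) (AlgHom.id A B) z) -
  norm F (Algebra.ofId A _) (∑ i, MvPolynomial.X (Sum.inl i) ⊗ₜ[A] g i)

theorem map_variation (F : PolLaw.MulLaw A B A d) {r : ℕ} (g : Fin r → B) {A' A'' : Type u} [CommRing A']
    [Algebra A A'] [CommRing A''] [Algebra A A''] (f : A' →ₐ[A] A'') (z : A' ⊗[A] B) :
    MvPolynomial.map f.toRingHom (variation F g z) = variation F g (Algebra.TensorProduct.map f (AlgHom.id A B) z) := by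
  show MvPolynomial.mapAlgHom f (variation F g z) = _
  simp only [variation, map_sub, norm_map', toAlgHom_eq (AlgHom.comp (MvPolynomial.mapAlgHom f) _), map_add, map_mul,
    map_sum, Algebra.TensorProduct.map_tmul, AlgHom.id_apply, map_map]
  have hX : ∀ i, MvPolynomial.mapAlgHom f (MvPolynomial.X i : MvPolynomial (Fin r ⊕ Fin r) A') = MvPolynomial.X i :=
    fun i => MvPolynomial.map_X _ i
  simp only [hX]
  congr 5
  all_goals first
    | exact Subsingleton.elim _ _
    | (congr 1
       refine AlgHom.ext fun a => ?_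
       show MvPolynomial.map _ (MvPolynomial.C a) = MvPolynomial.C (f a)
       exact MvPolynomial.map_C _ a)

theorem variation_eq_zero_iff (F : PolLaw.MulLaw A B A d) {r : ℕ} {g : Fin r → B}
    (hg : Submodule.span A (Set.range g) = ⊤) {A' : Type u} [CommRing A'] [Algebra A A'] (z : A' ⊗[A] B) :
    variation F g z = 0 ↔ z ∈ PolLaw.kerBC F.law A' := by
  refine ⟨fun h => mem_kerBC_of_norm F fun R _ _ Φ x w => ?_, fun h => ?_⟩
  · obtain ⟨s, rfl⟩ := exists_coords hg x
    obtain ⟨t, rfl⟩ := exists_coords hg w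
    let : Algebra A' R := Φ.toRingHom.toAlgebra
    have : IsScalarTower A A' R := IsScalarTower.of_algebraMap_eq fun a => (Φ.commutes a).symm
    let e : MvPolynomial (Fin r ⊕ Fin r) A' →ₐ[A] R := (MvPolynomial.aeval (Sum.elim s t)).restrictScalars A
    have h' := congrArg e h
    rw [variation, map_zero, map_sub, norm_map', norm_map', sub_eq_zero, toAlgHom_eq (e.comp _), map_add, map_mul,
      map_map] at h'
    have he : e.comp (IsScalarTower.toAlgHom A A' (MvPolynomial (Fin r ⊕ Fin r) A')) = Φ :=
      AlgHom.ext fun a => by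
        show MvPolynomial.aeval (Sum.elim s t) (MvPolynomial.C a) = Φ a
        exact MvPolynomial.aeval_C _ a
    have hX : ∀ i, e (MvPolynomial.X i) = Sum.elim s t i := fun i => MvPolynomial.aeval_X _ i
    simpa only [map_sum, Algebra.TensorProduct.map_tmul, AlgHom.id_apply, hX, Sum.elim_inl, Sum.elim_inr, he] using h'
  · rw [variation, norm_eq_of_mem_kerBC F h, sub_self]

end Groth.Agent.ZC
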