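import Mathlib
import Groth.Agent.ZC.Kernel

/-!
# Multiplicative laws on a product
-/

open scoped TensorProduct

namespace Groth.Agent.ZC

universe u

variable {A : Type u} [CommRing A] {B₁ B₂ : Type u} [CommRing B₁] [Algebra A B₁] [CommRing B₂] [Algebra A B₂]
  {d : ℕ}

theorem eq_norm_tmul_one {B : Type u} [CommRing B] [Algebra A B] (F : PolLaw.MulLaw A B A d) {R : Type u}
    [CommRing R] [Algebra A R] (z : R ⊗[A] B) : F.law.toFun' R z = norm F (Algebra.ofId A R) z ⊗ₜ[A] (1 : A) := by
  rw [norm]
  induction F.law.toFun' R z using TensorProduct.induction_on with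
  | zero => simp
  | tmul r a =>
    rw [Algebra.TensorProduct.productMap_apply_tmul, AlgHom.id_apply, Algebra.ofId_apply, mul_comm, ← Algebra.smul_def,
      TensorProduct.smul_tmul, smul_eq_mul, mul_one]
  | add x y hx hy => rw [map_add, TensorProduct.add_tmul, ← hx, ← hy]

/-- The monomial shape of a multiplicative one-parameter polynomial on a connected base. -/
theorem eq_X_pow_of_mult [ConnectedSpace (PrimeSpectrum A)] {q : Polynomial A} (h1 : q.eval 1 = 1)
    (hq : q.map Polynomial.C * Polynomial.C q = q.eval₂ (Polynomial.C.comp Polynomial.C)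
      (Polynomial.X * Polynomial.C Polynomial.X)) : ∃ k, q = Polynomial.X ^ k := by
  classical
  have : Nontrivial A := by
    by_contra h
    rw [not_nontrivial_iff_subsingleton] at h
    exact (inferInstance : IsEmpty (PrimeSpectrum A)).false (Classical.arbitrary _)
  have hc : ∀ k l, q.coeff k * q.coeff l = if k = l then q.coeff k else 0 := fun k l => by
    have h := congrArg (fun p : Polynomial (Polynomial A) => (p.coeff k).coeff l) hq
    simp only [Polynomial.coeff_mul_C, Polynomial.coeff_map, Polynomial.coeff_C_mul] at h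
    rw [h, Polynomial.eval₂_eq_sum, Polynomial.sum, Polynomial.finsetSum_coeff, Polynomial.finsetSum_coeff,
      Finset.sum_eq_single k]
    · simp [mul_pow, ← map_pow, Polynomial.coeff_X_pow, eq_comm]
    · intro j _ hjk
      simp [mul_pow, ← map_pow, Polynomial.coeff_X_pow, Ne.symm hjk]
    · intro hk
      simp [Polynomial.notMem_support_iff.1 hk]
  have h01 : ∀ k, q.coeff k = 0 ∨ q.coeff k = 1 := fun k => by
    have hid : IsIdempotentElem (q.coeff k) := by simpa [IsIdempotentElem] using hc k k
    have hclopen := PrimeSpectrum.isClopen_iff.2 ⟨q.coeff k, hid, rfl⟩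
    rcases isClopen_iff.1 hclopen with h | h
    · left
      have := PrimeSpectrum.basicOpen_eq_bot_iff (q.coeff k) |>.1 (TopologicalSpace.Opens.ext h)
      obtain ⟨n, hn⟩ := this
      rcases n with _ | n
      · exact (one_ne_zero (α := A) (by simpa using hn)).elim
      · rwa [hid.pow_succ_eq n] at hn
    · right
      have hu : IsUnit (q.coeff k) := by
        by_contra hnu
        obtain ⟨m, hm, ha⟩ := exists_max_ideal_of_mem_nonunits hnu
        exact (h.symm ▸ Set.mem_univ (⟨m, hm.isPrime⟩ : PrimeSpectrum A) :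
          (⟨m, hm.isPrime⟩ : PrimeSpectrum A) ∈ (PrimeSpectrum.basicOpen (q.coeff k) : Set (PrimeSpectrum A))) ha
      exact hu.mul_left_cancel (by rw [mul_one]; exact hid)
  have hsum : ∑ k ∈ q.support, q.coeff k = 1 := by
    rw [← h1, Polynomial.eval_eq_sum, Polynomial.sum]
    simp
  obtain ⟨k, hk⟩ : ∃ k, q.coeff k = 1 := by
    by_contra hall
    push Not at hall
    rw [Finset.sum_eq_zero fun k _ => (h01 k).resolve_right (hall k)] at hsum
    exact zero_ne_one hsum
  refine ⟨k, Polynomial.ext fun l => ?_⟩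
  rw [Polynomial.coeff_X_pow]
  split_ifs with hl
  · rw [hl, hk]
  · have := hc k l
    rwa [hk, one_mul, if_neg (Ne.symm hl)] at this

section

variable (S : Type u) [CommSemiring S] [Algebra A S]

/-- The inclusion of the first factor, base changed. -/
noncomputable def inlS : S ⊗[A] B₁ →ₗ[A] S ⊗[A] (B₁ × B₂) := (LinearMap.inl A B₁ B₂).lTensor S

/-- The inclusion of the second factor, base changed. -/
noncomputable def inrS : S ⊗[A] B₂ →ₗ[A] S ⊗[A] (B₁ × B₂) := (LinearMap.inr A B₁ B₂).lTensor S

theorem inlS_mul (x y : S ⊗[A] B₁) : inlS (B₂ := B₂) S (x * y) = inlS S x * inlS S y := by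
  induction x using TensorProduct.induction_on with
  | zero => simp
  | add a b ha hb => rw [add_mul, map_add, map_add, ha, hb, add_mul]
  | tmul s b =>
    induction y using TensorProduct.induction_on with
    | zero => simp
    | add a b ha hb => rw [mul_add, map_add, map_add, ha, hb, mul_add]
    | tmul t c => simp [inlS, Algebra.TensorProduct.tmul_mul_tmul]

theorem inrS_mul (x y : S ⊗[A] B₂) : inrS (B₁ := B₁) S (x * y) = inrS S x * inrS S y := by
  induction x using TensorProduct.induction_on with
  | zero => simp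
  | add a b ha hb => rw [add_mul, map_add, map_add, ha, hb, add_mul]
  | tmul s b =>
    induction y using TensorProduct.induction_on with
    | zero => simp
    | add a b ha hb => rw [mul_add, map_add, map_add, ha, hb, mul_add]
    | tmul t c => simp [inrS, Algebra.TensorProduct.tmul_mul_tmul]

theorem inlS_mul_inrS (x : S ⊗[A] B₁) (y : S ⊗[A] B₂) : inlS (B₂ := B₂) S x * inrS S y = 0 := by
  induction x using TensorProduct.induction_on with
  | zero => simp
  | add a b ha hb => rw [map_add, add_mul, ha, hb, add_zero]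
  | tmul s b =>
    induction y using TensorProduct.induction_on with
    | zero => simp
    | add a b ha hb => rw [map_add, mul_add, ha, hb, add_zero]
    | tmul t c => simp [inlS, inrS, Algebra.TensorProduct.tmul_mul_tmul, Prod.mk_zero_zero]

theorem inlS_one_add_inrS_one : inlS (B₂ := B₂) S (1 : S ⊗[A] B₁) + inrS S 1 = 1 := by
  simp [inlS, inrS, Algebra.TensorProduct.one_def, ← TensorProduct.tmul_add, Prod.mk_one_one]

theorem decomp (x : S ⊗[A] (B₁ × B₂)) :
    inlS S (LinearMap.lTensor S (LinearMap.fst A B₁ B₂) x) + inrS S (LinearMap.lTensor S (LinearMap.snd A B₁ B₂) x) = x := by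
  induction x using TensorProduct.induction_on with
  | zero => simp
  | add a b ha hb => simp only [map_add]; rw [add_add_add_comm, ha, hb]
  | tmul s b => simp [inlS, inrS, ← TensorProduct.tmul_add]

theorem add_mul_add (x x' : S ⊗[A] B₁) (y y' : S ⊗[A] B₂) :
    (inlS (B₂ := B₂) S x + inrS S y) * (inlS S x' + inrS S y') = inlS S (x * x') + inrS S (y * y') := by
  rw [add_mul, mul_add, mul_add, inlS_mul, inrS_mul, inlS_mul_inrS, mul_comm (inrS S y) (inlS S x'), inlS_mul_inrS,
    add_zero, zero_add]

end

variable (F : PolLaw.MulLaw A (B₁ × B₂) A d)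

/-- The restriction to the first piece. -/
noncomputable def part₁ : B₁ →ₚₗ[A] A where
  toFun' S _ _ := fun x => F.law.toFun' S (inlS S x + inrS S 1)
  isCompat' {S} _ _ {S'} _ _ φ := by
    funext x
    simp only [Function.comp_apply]
    rw [PolynomialLaw.isCompat_apply']
    congr 1
    rw [map_add]
    simp [inlS, inrS, Algebra.TensorProduct.one_def, ← LinearMap.comp_apply, LinearMap.rTensor_comp_lTensor,
      LinearMap.lTensor_comp_rTensor]

/-- The restriction to the second piece. -/
noncomputable def part₂ : B₂ →ₚₗ[A] A where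
  toFun' S _ _ := fun y => F.law.toFun' S (inlS S 1 + inrS S y)
  isCompat' {S} _ _ {S'} _ _ φ := by
    funext x
    simp only [Function.comp_apply]
    rw [PolynomialLaw.isCompat_apply']
    congr 1
    rw [map_add]
    simp [inlS, inrS, Algebra.TensorProduct.one_def, ← LinearMap.comp_apply, LinearMap.rTensor_comp_lTensor,
      LinearMap.lTensor_comp_rTensor]

theorem inlS_smul {S : Type u} [CommSemiring S] [Algebra A S] (s : S) (x : S ⊗[A] B₁) :
    inlS (B₂ := B₂) S (s • x) = s • inlS S x := by
  induction x using TensorProduct.induction_on with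
  | zero => simp
  | add a b ha hb => rw [smul_add, map_add, map_add, ha, hb, smul_add]
  | tmul t c => simp [inlS, TensorProduct.smul_tmul']

theorem inrS_smul {S : Type u} [CommSemiring S] [Algebra A S] (s : S) (x : S ⊗[A] B₂) :
    inrS (B₁ := B₁) S (s • x) = s • inrS S x := by
  induction x using TensorProduct.induction_on with
  | zero => simp
  | add a b ha hb => rw [smul_add, map_add, map_add, ha, hb, smul_add]
  | tmul t c => simp [inrS, TensorProduct.smul_tmul']

theorem part₁_mult : PolLaw.IsMult (part₁ F) := fun S _ _ =>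
  ⟨by show F.law.toFun' S _ = 1; rw [inlS_one_add_inrS_one, (F.mult S).1],
    fun x y => by
      show F.law.toFun' S _ = F.law.toFun' S _ * F.law.toFun' S _
      rw [← (F.mult S).2, add_mul_add, one_mul]⟩

theorem part₂_mult : PolLaw.IsMult (part₂ F) := fun S _ _ =>
  ⟨by show F.law.toFun' S _ = 1; rw [inlS_one_add_inrS_one, (F.mult S).1],
    fun x y => by
      show F.law.toFun' S _ = F.law.toFun' S _ * F.law.toFun' S _
      rw [← (F.mult S).2, add_mul_add, one_mul]⟩

/-- The law evaluated at a weighting of the two pieces. -/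
noncomputable def weightPoly (R : Type u) [CommRing R] [Algebra A R] (s t : R) : R :=
  norm F (Algebra.ofId A R) (s • inlS R 1 + t • inrS R 1)

theorem map_weightPoly {R R' : Type u} [CommRing R] [Algebra A R] [CommRing R'] [Algebra A R'] (Φ : R →ₐ[A] R')
    (s t : R) : Φ (weightPoly F R s t) = weightPoly F R' (Φ s) (Φ t) := by
  rw [weightPoly, weightPoly, norm_map', toAlgHom_eq (Φ.comp _)]
  congr 1
  simp [inlS, inrS, Algebra.TensorProduct.one_def, TensorProduct.smul_tmul']

theorem weightPoly_mul {R : Type u} [CommRing R] [Algebra A R] (s t s' t' : R) :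
    weightPoly F R s t * weightPoly F R s' t' = weightPoly F R (s * s') (t * t') := by
  rw [weightPoly, weightPoly, weightPoly, ← norm_mul, ← inlS_smul, ← inrS_smul, ← inlS_smul, ← inrS_smul,
    add_mul_add, ← inlS_smul, ← inrS_smul]
  simp [Algebra.smul_def]

theorem weightPoly_self {R : Type u} [CommRing R] [Algebra A R] (s : R) : weightPoly F R s s = s ^ d := by
  rw [weightPoly, ← smul_add, inlS_one_add_inrS_one, norm_smul, norm_one, mul_one]

variable [ConnectedSpace (PrimeSpectrum A)]

theorem weightPoly_eq_pow (g : ∀ (R : Type u) [CommRing R] [Algebra A R], R → R)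
    (hmap : ∀ (R R' : Type u) [CommRing R] [Algebra A R] [CommRing R'] [Algebra A R'] (Φ : R →ₐ[A] R') (s : R),
      Φ (g R s) = g R' (Φ s))
    (hmul : ∀ (R : Type u) [CommRing R] [Algebra A R] (s t : R), g R s * g R t = g R (s * t))
    (hone : g A 1 = 1) : ∃ k, ∀ (R : Type u) [CommRing R] [Algebra A R] (s : R), g R s = s ^ k := by
  obtain ⟨k, hk⟩ := eq_X_pow_of_mult (q := g (Polynomial A) Polynomial.X) (by
      have h := hmap (Polynomial A) A (Polynomial.aeval (1 : A)) Polynomial.X
      rw [Polynomial.coe_aeval_eq_eval] at h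
      simp only [Polynomial.eval_X] at h
      rw [h, hone]) (by
      have e1 : (g (Polynomial A) Polynomial.X).map Polynomial.C =
          g (Polynomial (Polynomial A)) Polynomial.X := by
        have h := hmap (Polynomial A) (Polynomial (Polynomial A))
          (Polynomial.mapAlgHom (Polynomial.CAlgHom : A →ₐ[A] Polynomial A)) Polynomial.X
        rw [show Polynomial.mapAlgHom (Polynomial.CAlgHom : A →ₐ[A] Polynomial A) Polynomial.X = Polynomial.X from
          Polynomial.map_X _] at h
        exact h
      have e2 : Polynomial.C (g (Polynomial A) Polynomial.X) =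
          g (Polynomial (Polynomial A)) (Polynomial.C Polynomial.X) :=
        hmap (Polynomial A) (Polynomial (Polynomial A)) Polynomial.CAlgHom Polynomial.X
      have e3 := hmap (Polynomial A) (Polynomial (Polynomial A))
        (Polynomial.aeval (Polynomial.X * Polynomial.C Polynomial.X)) Polynomial.X
      rw [Polynomial.aeval_X, Polynomial.aeval_def,
        show algebraMap A (Polynomial (Polynomial A)) = Polynomial.C.comp Polynomial.C from rfl] at e3
      rw [e1, e2, hmul, ← e3])
  refine ⟨k, fun R _ _ s => ?_⟩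
  have h := hmap (Polynomial A) R (Polynomial.aeval s) Polynomial.X
  rw [hk, map_pow, Polynomial.aeval_X] at h
  exact h.symm

theorem toFun_weight {k : ℕ} (w : ∀ (R : Type u) [CommRing R] [Algebra A R] (s : R), R ⊗[A] (B₁ × B₂))
    (hw : ∀ (R : Type u) [CommRing R] [Algebra A R] (s : R), norm F (Algebra.ofId A R) (w R s) = s ^ k)
    {S : Type u} [CommSemiring S] [Algebra A S] (s : S) {z : S ⊗[A] (B₁ × B₂)}
    (hz : z = (Polynomial.aeval s : Polynomial A →ₐ[A] S).toLinearMap.rTensor _ (w (Polynomial A) Polynomial.X)) :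
    F.law.toFun' S z = (s ^ k) ⊗ₜ[A] (1 : A) := by
  rw [hz, ← PolynomialLaw.isCompat_apply', eq_norm_tmul_one, hw, LinearMap.rTensor_tmul]
  simp

theorem exists_split :
    ∃ d₁ d₂ : ℕ, d₁ + d₂ = d ∧
      (∃ (F₁ : PolLaw.MulLaw A B₁ A d₁) (F₂ : PolLaw.MulLaw A B₂ A d₂),
        ∀ (S : Type u) [CommSemiring S] [Algebra A S] (x : S ⊗[A] (B₁ × B₂)),
          F.law.toFun' S x = F₁.law.toFun' S (LinearMap.lTensor S (LinearMap.fst A B₁ B₂) x) *
            F₂.law.toFun' S (LinearMap.lTensor S (LinearMap.snd A B₁ B₂) x)) ∧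
      ∀ (e₁ e₂ : ℕ) (G₁ : PolLaw.MulLaw A B₁ A e₁) (G₂ : PolLaw.MulLaw A B₂ A e₂),
        (∀ (S : Type u) [CommSemiring S] [Algebra A S] (x : S ⊗[A] (B₁ × B₂)),
          F.law.toFun' S x = G₁.law.toFun' S (LinearMap.lTensor S (LinearMap.fst A B₁ B₂) x) *
            G₂.law.toFun' S (LinearMap.lTensor S (LinearMap.snd A B₁ B₂) x)) → e₁ = d₁ ∧ e₂ = d₂ := by
  have : Nontrivial A := by
    by_contra h
    rw [not_nontrivial_iff_subsingleton] at h
    exact (inferInstance : IsEmpty (PrimeSpectrum A)).false (Classical.arbitrary _)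
  obtain ⟨d₁, h₁⟩ := weightPoly_eq_pow (fun R _ _ s => weightPoly F R s 1)
    (fun R R' _ _ _ _ Φ s => by rw [map_weightPoly, map_one]) (fun R _ _ s t => by rw [weightPoly_mul, one_mul])
    (by rw [weightPoly_self, one_pow])
  obtain ⟨d₂, h₂⟩ := weightPoly_eq_pow (fun R _ _ s => weightPoly F R 1 s)
    (fun R R' _ _ _ _ Φ s => by rw [map_weightPoly, map_one]) (fun R _ _ s t => by rw [weightPoly_mul, one_mul])
    (by rw [weightPoly_self, one_pow])
  have hd : d₁ + d₂ = d := by
    have h := weightPoly_mul F (R := Polynomial A) Polynomial.X 1 1 Polynomial.X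
    rw [h₁, h₂, mul_one, one_mul, weightPoly_self, ← pow_add] at h
    exact Polynomial.natDegree_X_pow (R := A) (d₁ + d₂) ▸ (congrArg Polynomial.natDegree h).trans (Polynomial.natDegree_X_pow d)
  have hrt : ∀ {S : Type u} [CommSemiring S] [Algebra A S] (a b : Polynomial A) (φ : Polynomial A →ₐ[A] S),
      φ.toLinearMap.rTensor (B₁ × B₂) (a • inlS (Polynomial A) 1 + b • inrS (Polynomial A) 1) =
        φ a • inlS S 1 + φ b • inrS S 1 := fun a b φ => by
    simp [inlS, inrS, Algebra.TensorProduct.one_def, TensorProduct.smul_tmul']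
  have hF₁ : PolLaw.IsHomog (part₁ F) d₁ := by
    intro S _ _ s x
    show F.law.toFun' S _ = s ^ d₁ • F.law.toFun' S _
    have e : inlS (B₂ := B₂) S (s • x) + inrS S 1 = (inlS S x + inrS S 1) * (s • inlS S 1 + (1 : S) • inrS S 1) := by
      rw [one_smul, ← inlS_smul, add_mul_add, mul_one, mul_smul_comm, mul_one]
    rw [e, (F.mult S).2, toFun_weight F (fun R _ _ s => s • inlS R 1 + (1 : R) • inrS R 1) (fun R _ _ s => h₁ R s) s
      (z := s • inlS S 1 + (1 : S) • inrS S 1) (by rw [hrt, Polynomial.aeval_X, map_one (Polynomial.aeval s : Polynomial A →ₐ[A] S)])]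
    rw [show (s ^ d₁) ⊗ₜ[A] (1 : A) = s ^ d₁ • (1 : S ⊗[A] A) by
      simp [Algebra.TensorProduct.one_def, TensorProduct.smul_tmul'], mul_smul_comm, mul_one]
  have hF₂ : PolLaw.IsHomog (part₂ F) d₂ := by
    intro S _ _ s x
    show F.law.toFun' S _ = s ^ d₂ • F.law.toFun' S _
    have e : inlS (B₁ := B₁) (B₂ := B₂) S 1 + inrS S (s • x) = (inlS S 1 + inrS S x) * ((1 : S) • inlS S 1 + s • inrS S 1) := by
      rw [one_smul, ← inrS_smul, add_mul_add, mul_one, mul_smul_comm, mul_one]
    rw [e, (F.mult S).2, toFun_weight F (fun R _ _ s => (1 : R) • inlS R 1 + s • inrS R 1) (fun R _ _ s => h₂ R s) s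
      (z := (1 : S) • inlS S 1 + s • inrS S 1) (by rw [hrt, Polynomial.aeval_X, map_one (Polynomial.aeval s : Polynomial A →ₐ[A] S)])]
    rw [show (s ^ d₂) ⊗ₜ[A] (1 : A) = s ^ d₂ • (1 : S ⊗[A] A) by
      simp [Algebra.TensorProduct.one_def, TensorProduct.smul_tmul'], mul_smul_comm, mul_one]
  refine ⟨d₁, d₂, hd, ⟨⟨part₁ F, hF₁, part₁_mult F⟩, ⟨part₂ F, hF₂, part₂_mult F⟩, fun S _ _ x => ?_⟩, ?_⟩
  · show _ = F.law.toFun' S _ * F.law.toFun' S _
    rw [← (F.mult S).2, add_mul_add, mul_one, one_mul, decomp]
  intro e₁ e₂ G₁ G₂ hG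
  have key : ∀ a b : Polynomial A, weightPoly F (Polynomial A) a b = a ^ e₁ * b ^ e₂ := fun a b => by
    have hf : LinearMap.lTensor (Polynomial A) (LinearMap.fst A B₁ B₂)
        (a • inlS (Polynomial A) 1 + b • inrS (Polynomial A) 1) = a • 1 := by
      simp [inlS, inrS, Algebra.TensorProduct.one_def, TensorProduct.smul_tmul']
    have hs : LinearMap.lTensor (Polynomial A) (LinearMap.snd A B₁ B₂)
        (a • inlS (Polynomial A) 1 + b • inrS (Polynomial A) 1) = b • 1 := by
      simp [inlS, inrS, Algebra.TensorProduct.one_def, TensorProduct.smul_tmul']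
    have h := hG (Polynomial A) (a • inlS (Polynomial A) 1 + b • inrS (Polynomial A) 1)
    rw [hf, hs, eq_norm_tmul_one F, eq_norm_tmul_one G₁, eq_norm_tmul_one G₂, Algebra.TensorProduct.tmul_mul_tmul,
      one_mul, norm_smul, norm_smul, norm_one, norm_one, mul_one, mul_one] at h
    have h' := congrArg (TensorProduct.rid A (Polynomial A)) h
    simp only [TensorProduct.rid_tmul, one_smul] at h'
    exact h'
  constructor
  · have h := key Polynomial.X 1
    rw [h₁, one_pow, mul_one] at h
    exact (Polynomial.natDegree_X_pow (R := A) e₁).symm.trans ((congrArg Polynomial.natDegree h).symm.trans (Polynomial.natDegree_X_pow d₁))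
  · have h := key 1 Polynomial.X
    rw [h₂, one_pow, one_mul] at h
    exact (Polynomial.natDegree_X_pow (R := A) e₂).symm.trans ((congrArg Polynomial.natDegree h).symm.trans (Polynomial.natDegree_X_pow d₂))

end Groth.Agent.ZC
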