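import Mathlib
import Groth.Prelude.Def_PolLaw2
import Groth.Agent.ZC.Split
import Groth.Agent.ZC.UnivInj
import Groth.Agent.ZC.DetProj
import Groth.Agent.ZC.KerBCMem

/-!
# Laws of full support on finite étale algebras
-/

open scoped TensorProduct

namespace Groth.Agent.ZC

universe u

variable {A : Type u} [CommRing A] {B : Type u} [CommRing B] [Algebra A B]

theorem bijective_traceForm [Algebra.Etale A B] [Module.Free A B] [Module.Finite A B] :
    Function.Bijective (Algebra.traceForm A B) := by
  classical
  let e := Algebra.FormallyUnramified.elem A B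
  let μ : B ⊗[A] B →ₐ[A] B := Algebra.TensorProduct.lmul' A
  have hswap : ∀ z : B ⊗[A] B, z * e = (μ z ⊗ₜ[A] (1 : B)) * e := fun z => by
    induction z using TensorProduct.induction_on with
    | zero => simp
    | tmul x y =>
      rw [show x ⊗ₜ[A] y = (x ⊗ₜ[A] (1 : B)) * (1 ⊗ₜ[A] y) by simp, mul_assoc,
        Algebra.FormallyUnramified.one_tmul_mul_elem, ← mul_assoc]
      simp [μ, e]
    | add a b ha hb => rw [add_mul, ha, hb, map_add, TensorProduct.add_tmul, add_mul]
  let Ψ : Module.Dual A B →ₗ[A] B :=
    { toFun := fun φ => TensorProduct.rid A B (φ.lTensor B e)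
      map_add' := fun φ ψ => by simp [LinearMap.lTensor_add]
      map_smul' := fun a φ => by simp [LinearMap.lTensor_smul] }
  have htr : ∀ z : B ⊗[A] B, Algebra.trace B (B ⊗[A] B) z =
      TensorProduct.rid A B ((Algebra.trace A B).lTensor B z) := fun z => by
    induction z using TensorProduct.induction_on with
    | zero => simp
    | tmul y x =>
      have h1 : Algebra.lmul B (B ⊗[A] B) ((1 : B) ⊗ₜ[A] x) = (Algebra.lmul A B x).baseChange B :=
        TensorProduct.AlgebraTensorModule.ext fun a b => by simp
      rw [show y ⊗ₜ[A] x = y • ((1 : B) ⊗ₜ[A] x) by rw [TensorProduct.smul_tmul', smul_eq_mul, mul_one], map_smul,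
        Algebra.trace_apply, h1, LinearMap.trace_baseChange]
      simp [TensorProduct.smul_tmul', Algebra.trace_apply, Algebra.smul_def, mul_comm]
    | add a b ha hb => simp only [map_add, ha, hb]
  have hone : Algebra.trace B (B ⊗[A] B) e = 1 := by
    rcases subsingleton_or_nontrivial B with hB | hB
    · exact Subsingleton.elim _ _
    let j : B →ₗ[B] B ⊗[A] B := (LinearMap.id : B →ₗ[B] B).smulRight e
    let m : B ⊗[A] B →ₗ[B] B :=
      { toFun := μ
        map_add' := map_add μ
        map_smul' := fun b z => by
          rw [Algebra.smul_def, map_mul, RingHom.id_apply, smul_eq_mul]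
          simp [μ, Algebra.TensorProduct.algebraMap_apply] }
    have hlm : Algebra.lmul B (B ⊗[A] B) e = j ∘ₗ m := LinearMap.ext fun z => by
      rw [Algebra.coe_lmul_eq_mul, LinearMap.mul_apply', mul_comm, hswap]
      show _ = μ z • e
      rw [Algebra.smul_def, Algebra.TensorProduct.algebraMap_apply]
      rfl
    rw [Algebra.trace_apply, hlm, LinearMap.trace_comp_comm']
    have hmj : m ∘ₗ j = LinearMap.id := LinearMap.ext fun b => by
      show μ (b • e) = b
      rw [Algebra.smul_def, map_mul, Algebra.FormallyUnramified.lmul_elem, mul_one]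
      simp [μ, Algebra.TensorProduct.algebraMap_apply]
    rw [hmj, LinearMap.trace_id, Module.finrank_self, Nat.cast_one]
  have hleft : ∀ b, Ψ (Algebra.traceForm A B b) = b := fun b => by
    have h2 : TensorProduct.rid A B ((Algebra.traceForm A B b).lTensor B e) =
        TensorProduct.rid A B ((Algebra.trace A B).lTensor B ((1 ⊗ₜ[A] b) * e)) := by
      induction e using TensorProduct.induction_on with
      | zero => simp
      | tmul y x => simp [Algebra.traceForm_apply]
      | add a c ha hc => simp only [mul_add, map_add, ha, hc]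
    show TensorProduct.rid A B ((Algebra.traceForm A B b).lTensor B e) = b
    rw [h2, Algebra.FormallyUnramified.one_tmul_mul_elem, ← htr,
      show (b ⊗ₜ[A] (1 : B)) * e = b • e by rw [Algebra.smul_def]; rfl, map_smul, hone, smul_eq_mul, mul_one]
  have hinj : Function.Injective (Algebra.traceForm A B) := Function.LeftInverse.injective hleft
  let eq := (Module.Free.chooseBasis A B).toDualEquiv
  have hsurjΨ : Function.Injective Ψ := by
    have h : Function.Surjective (eq.toLinearMap ∘ₗ Ψ) := eq.surjective.comp fun b => ⟨_, hleft b⟩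
    exact fun x y hxy => OrzechProperty.injective_of_surjective_endomorphism _ h (congrArg eq hxy)
  exact ⟨hinj, fun φ => ⟨Ψ φ, hsurjΨ (hleft _)⟩⟩

theorem ker_eq_bot_of_norm [Algebra.Etale A B] [Module.Free A B] [Module.Finite A B] {d : ℕ}
    (N : PolLaw.MulLaw A B A d)
    (hN : ∀ (S : Type u) [CommRing S] [Algebra A S] (x : S ⊗[A] B),
      N.law.toFun' S x = Algebra.norm S x ⊗ₜ[A] (1 : A)) : PolLaw.ker N.law = ⊥ := by
  classical
  refine eq_bot_iff.2 fun b hb => Submodule.mem_bot (R := B) |>.2 (bijective_traceForm (A := A).1 ?_)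
  rw [map_zero]
  refine LinearMap.ext fun w => ?_
  rw [Algebra.traceForm_apply, LinearMap.zero_apply]
  let bs := Module.Free.chooseBasis A B
  let bs' := Algebra.TensorProduct.basis (Polynomial A) bs
  have h := hb (Polynomial A) 1 (Polynomial.X ⊗ₜ[A] w)
  rw [hN, hN, map_one, Algebra.TensorProduct.tmul_mul_tmul, mul_one, mul_comm w] at h
  have h' := (TensorProduct.rid A (Polynomial A)).congr_arg h
  simp only [TensorProduct.rid_tmul, one_smul] at h'
  have hmat : Algebra.leftMulMatrix bs' (1 + Polynomial.X ⊗ₜ[A] (b * w)) =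
      1 + (Polynomial.X : Polynomial A) • (Algebra.leftMulMatrix bs (b * w)).map Polynomial.C := by
    rw [map_add, map_one, show (Polynomial.X : Polynomial A) ⊗ₜ[A] (b * w) = (Polynomial.X : Polynomial A) •
      ((1 : Polynomial A) ⊗ₜ[A] (b * w)) by rw [TensorProduct.smul_tmul', smul_eq_mul, mul_one], map_smul]
    congr 2
    refine Matrix.ext fun i j => ?_
    rw [Algebra.leftMulMatrix_eq_repr_mul, Matrix.map_apply, Algebra.leftMulMatrix_eq_repr_mul]
    simp [bs', Algebra.TensorProduct.tmul_mul_tmul, Algebra.TensorProduct.basis_repr_tmul]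
  rw [Algebra.norm_eq_matrix_det bs', hmat] at h'
  have h2 := Matrix.derivative_det_one_add_X_smul (Algebra.leftMulMatrix bs (b * w))
  rw [h', Polynomial.derivative_one, Polynomial.eval_zero] at h2
  rw [Algebra.trace_eq_matrix_trace bs]
  exact h2.symm

section Split

variable {d : ℕ} [Algebra.Etale A B] {R : Type u} [CommRing R] [Algebra A R]

/-- Points of `B` which separate pairwise. -/
def Orth (σ : Fin d → B →ₐ[A] R) : Prop :=
  ∀ i j, Algebra.TensorProduct.productMap (σ i) (σ j) (Algebra.FormallyUnramified.elem A B) = if i = j then 1 else 0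

theorem Orth.comp {σ : Fin d → B →ₐ[A] R} (hσ : Orth σ) {R' : Type u} [CommRing R'] [Algebra A R'] (f : R →ₐ[A] R') :
    Orth fun i => f.comp (σ i) := fun i j => by
  have h : Algebra.TensorProduct.productMap (f.comp (σ i)) (f.comp (σ j)) =
      f.comp (Algebra.TensorProduct.productMap (σ i) (σ j)) := Algebra.TensorProduct.ext' fun a b => by simp
  rw [h, AlgHom.comp_apply, hσ]
  split_ifs <;> simp

/-- The evaluation map of a family of points. -/
noncomputable def evalPts (σ : Fin d → B →ₐ[A] R) : R ⊗[A] B →ₐ[R] (Fin d → R) :=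
  Pi.algHom R (fun _ => R) fun i => Algebra.TensorProduct.lift (Algebra.ofId R R) (σ i) fun _ _ => Commute.all _ _

/-- The idempotent of a point. -/
noncomputable def eps (σ : Fin d → B →ₐ[A] R) (j : Fin d) : R ⊗[A] B :=
  Algebra.TensorProduct.map (σ j) (AlgHom.id A B) (Algebra.FormallyUnramified.elem A B)

theorem evalPts_eps {σ : Fin d → B →ₐ[A] R} (hσ : Orth σ) (i j : Fin d) :
    evalPts σ (eps σ j) i = if j = i then 1 else 0 := by
  rw [← hσ j i, eps, evalPts]
  induction Algebra.FormallyUnramified.elem A B using TensorProduct.induction_on with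
  | zero => simp
  | tmul a b => simp [Algebra.ofId_apply]
  | add a b ha hb => simp only [map_add, Pi.add_apply, ha, hb]

theorem evalPts_bijective [Module.Free A B] [Module.Finite A B] (hd : Module.finrank A B = d)
    {σ : Fin d → B →ₐ[A] R} (hσ : Orth σ) : Function.Bijective (evalPts σ) := by
  classical
  have hs : Function.Surjective (evalPts σ) := fun c => ⟨∑ j, c j • eps σ j, funext fun i => by
    simp [Finset.sum_apply, evalPts_eps hσ]⟩
  refine ⟨?_, hs⟩
  rcases subsingleton_or_nontrivial R with h | h
  · have : Subsingleton (R ⊗[A] B) := Module.subsingleton R _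
    exact fun x y _ => Subsingleton.elim x y
  have : Nontrivial A := (algebraMap A R).domain_nontrivial
  let e : (Fin d → R) ≃ₗ[R] R ⊗[A] B :=
    (Algebra.TensorProduct.basis R (Module.finBasisOfFinrankEq A B hd)).equivFun.symm
  have h' : Function.Surjective (e.toLinearMap ∘ₗ (evalPts σ).toLinearMap) := e.surjective.comp hs
  exact fun x y hxy => OrzechProperty.injective_of_surjective_endomorphism _ h' (congrArg e hxy)

variable [Module.Free A B] [Module.Finite A B]

theorem connectedSpace_of_local [IsLocalRing R] : ConnectedSpace (PrimeSpectrum R) := by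
  have : Nonempty (PrimeSpectrum R) := ⟨IsLocalRing.closedPoint R⟩
  have key : ∀ s : Set (PrimeSpectrum R), IsOpen s → IsLocalRing.closedPoint R ∈ s → s = Set.univ := fun s ho hs => by
    exact Set.eq_univ_of_forall fun y => IsLocalRing.specializes_closedPoint y |>.mem_open ho hs
  have : PreconnectedSpace (PrimeSpectrum R) := preconnectedSpace_iff_clopen.2 fun s hs => by
    by_cases h : IsLocalRing.closedPoint R ∈ s
    · exact Or.inr (key s hs.2 h)
    · exact Or.inl (Set.compl_univ_iff.1 (key sᶜ hs.1.isOpen_compl h))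
  exact { toNonempty := inferInstance }

/-- A law of full support is the product of the points. -/
theorem norm_eq_prod_evalPts [IsLocalRing R] (hd : Module.finrank A B = d) {σ : Fin d → B →ₐ[A] R} (hσ : Orth σ)
    (F : PolLaw.MulLaw A B A d) (hF : PolLaw.ker F.law ≤ nilradical B) (x : R ⊗[A] B) :
    norm F (Algebra.ofId A R) x = ∏ i, evalPts σ x i := by
  classical
  let g : ∀ (R' : Type u) [CommRing R'] [Algebra A R'] (_ : R →ₐ[A] R') (_ : Fin d) (_ : R'), R' :=
    fun R' _ _ f i r => norm F (Algebra.ofId A R') (1 + (r - 1) • Algebra.TensorProduct.map f (AlgHom.id A B) (eps σ i))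
  have hnat : ∀ (R' : Type u) [CommRing R'] [Algebra A R'] (R'' : Type u) [CommRing R''] [Algebra A R'']
      (f : R →ₐ[A] R') (φ : R' →ₐ[A] R'') (i : Fin d) (r : R'), φ (g R' f i r) = g R'' (φ.comp f) i (φ r) :=
    fun R' _ _ R'' _ _ f φ i r => by
      simp only [g]
      rw [norm_map', toAlgHom_eq (φ.comp _), map_add, map_one, Algebra.smul_def, map_mul, map_map,
        Algebra.TensorProduct.algebraMap_apply, Algebra.TensorProduct.map_tmul, AlgHom.id_apply, Algebra.smul_def,
        Algebra.TensorProduct.algebraMap_apply, Algebra.algebraMap_self, RingHom.id_apply, map_sub, map_one φ]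
      rfl
  have hidem : ∀ i, eps σ i * eps σ i = eps σ i := fun i => (evalPts_bijective hd hσ).1 (funext fun k => by
    simp [evalPts_eps hσ])
  let q : Fin d → Polynomial R := fun i => g (Polynomial R) Polynomial.CAlgHom i Polynomial.X
  have hgq : ∀ (i : Fin d) (R' : Type u) [CommRing R'] [Algebra A R'] [Algebra R R'] [IsScalarTower A R R'] (r : R'),
      g R' (IsScalarTower.toAlgHom A R R') i r = Polynomial.aeval r (q i) := fun i R' _ _ _ _ r => by
    have h := hnat (Polynomial R) R' Polynomial.CAlgHom ((Polynomial.aeval r).restrictScalars A) i Polynomial.X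
    rw [show ((Polynomial.aeval r).restrictScalars A).comp (Polynomial.CAlgHom : R →ₐ[A] Polynomial R) =
      IsScalarTower.toAlgHom A R R' from AlgHom.ext fun a => by simp [Polynomial.CAlgHom]] at h
    simpa using h.symm
  have hmul : ∀ (R' : Type u) [CommRing R'] [Algebra A R'] (f : R →ₐ[A] R') (i : Fin d) (r s : R'),
      g R' f i r * g R' f i s = g R' f i (r * s) := fun R' _ _ f i r s => by
    simp only [g]
    rw [← norm_mul]
    congr 1
    have he := congrArg (Algebra.TensorProduct.map f (AlgHom.id A B)) (hidem i)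
    rw [map_mul] at he
    simp only [Algebra.smul_def, map_sub, map_one, map_mul]
    linear_combination ((algebraMap R' (R' ⊗[A] B) r - 1) * (algebraMap R' (R' ⊗[A] B) s - 1)) * he
  have := connectedSpace_of_local (R := R)
  have hk : ∀ i, ∃ k, q i = Polynomial.X ^ k := fun i => by
    refine eq_X_pow_of_mult ?_ ?_
    · have h := hgq i R 1
      rw [Polynomial.coe_aeval_eq_eval] at h
      rw [← h]
      simp [g, norm_one]
    · have h1 := hgq i (Polynomial (Polynomial R)) Polynomial.X
      have h2 := hgq i (Polynomial (Polynomial R)) (Polynomial.C Polynomial.X)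
      have h3 := hgq i (Polynomial (Polynomial R)) (Polynomial.X * Polynomial.C Polynomial.X)
      rw [← hmul] at h3
      rw [h1, h2] at h3
      rw [Polynomial.aeval_def, Polynomial.aeval_def, Polynomial.aeval_def] at h3
      refine Eq.trans ?_ (h3.trans rfl)
      congr 1
      have hc := Polynomial.hom_eval₂ (q i) (Polynomial.C : R →+* Polynomial R) (Polynomial.C : Polynomial R →+* Polynomial (Polynomial R)) Polynomial.X
      rw [Polynomial.eval₂_C_X] at hc
      exact hc
  choose k hk using hk
  have hprod : ∀ (R' : Type u) [CommRing R'] [Algebra A R'] [Algebra R R'] [IsScalarTower A R R'] (y : R' ⊗[A] B),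
      norm F (Algebra.ofId A R') y =
        ∏ i, evalPts (fun j => (IsScalarTower.toAlgHom A R R').comp (σ j)) y i ^ k i := fun R' _ _ _ _ y => by
    let σ' := fun j => (IsScalarTower.toAlgHom A R R').comp (σ j)
    have hσ' : Orth σ' := hσ.comp _
    have he : ∀ i, Algebra.TensorProduct.map (IsScalarTower.toAlgHom A R R') (AlgHom.id A B) (eps σ i) = eps σ' i :=
      fun i => by rw [eps, eps, map_map]
    have hy : y = ∏ i, (1 + (evalPts σ' y i - 1) •
        Algebra.TensorProduct.map (IsScalarTower.toAlgHom A R R') (AlgHom.id A B) (eps σ i)) := by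
      refine (evalPts_bijective hd hσ').1 (funext fun j => ?_)
      rw [map_prod, Finset.prod_apply, Finset.prod_eq_single j]
      · simp [he, evalPts_eps hσ']
      · intro i _ hne
        simp [he, evalPts_eps hσ', hne]
      · simp
    conv_lhs => rw [hy]
    have hnp : ∀ (s : Finset (Fin d)) (z : Fin d → R' ⊗[A] B),
        norm F (Algebra.ofId A R') (∏ i ∈ s, z i) = ∏ i ∈ s, norm F (Algebra.ofId A R') (z i) := fun s z => by
      induction s using Finset.induction_on with
      | empty => simp [norm_one]
      | insert a s ha ih => rw [Finset.prod_insert ha, Finset.prod_insert ha, norm_mul, ih]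
    rw [hnp]
    refine Finset.prod_congr rfl fun i _ => ?_
    have h := hgq i R' (evalPts σ' y i)
    rw [hk, map_pow, Polynomial.aeval_X] at h
    exact h
  have hk1 : ∀ i, k i = 1 := by
    have hsum : ∑ i, k i = d := by
      have h := hprod (Polynomial R) (algebraMap (Polynomial R) (Polynomial R ⊗[A] B) Polynomial.X)
      rw [norm_algebraMap] at h
      simp only [AlgHom.commutes, Pi.algebraMap_apply, Algebra.algebraMap_self, RingHom.id_apply,
        Finset.prod_pow_eq_pow_sum] at h
      have hdeg := congrArg Polynomial.natDegree h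
      simp only [Polynomial.natDegree_X_pow] at hdeg
      exact hdeg.symm
    have hpos : ∀ i, 1 ≤ k i := fun i => by
      by_contra hi
      have hk0 : k i = 0 := by omega
      have hchi : chi F (Algebra.ofId A R) (eps σ i) = (-Polynomial.X) ^ d := by
        rw [chi, toAlgHom_eq ((Polynomial.CAlgHom : R →ₐ[A] Polynomial R).comp (Algebra.ofId A R)), hprod (Polynomial R)]
        have hv : ∀ j, evalPts (fun l => (IsScalarTower.toAlgHom A R (Polynomial R)).comp (σ l))
            (incC (eps σ i) - Polynomial.X ⊗ₜ[A] (1 : B)) j = (if i = j then 1 else 0) - Polynomial.X := fun j => by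
          rw [show (Polynomial.X : Polynomial R) ⊗ₜ[A] (1 : B) = algebraMap (Polynomial R) _ Polynomial.X from rfl,
            map_sub, AlgHom.commutes, Pi.sub_apply, Pi.algebraMap_apply, Algebra.algebraMap_self, RingHom.id_apply,
            ← evalPts_eps (hσ.comp (IsScalarTower.toAlgHom A R (Polynomial R))) j i, incC]
          congr 3
          rw [eps, eps, map_map]
          rfl
        conv_rhs => rw [← hsum, ← Finset.prod_pow_eq_pow_sum]
        refine Finset.prod_congr rfl fun j _ => ?_
        rw [hv]
        by_cases hij : i = j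
        · subst hij; simp [hk0]
        · simp [hij]
      have hmem := aeval_chi_mem_map_ker F (eps σ i)
      rw [hchi] at hmem
      simp only [map_pow, map_neg, Polynomial.aeval_X] at hmem
      have hnil : IsNilpotent ((-eps σ i) ^ d) := by
        refine mem_nilradical.1 ((Ideal.map_le_iff_le_comap.2 fun b hb => ?_) hmem)
        exact mem_nilradical.2 ((mem_nilradical.1 (hF hb)).map _)
      have hval := (hnil.map (evalPts σ)).map (Pi.evalAlgHom R (fun _ : Fin d => R) i)
      simp [evalPts_eps hσ] at hval
      obtain ⟨m, hm⟩ := hval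
      exact (((isUnit_one (M := R)).neg.pow d).pow m).ne_zero hm
    intro i
    by_contra hi
    have : ∑ _j : Fin d, 1 < ∑ j, k j := Finset.sum_lt_sum (fun j _ => hpos j) ⟨i, Finset.mem_univ _, by
      have := hpos i; omega⟩
    simp [hsum] at this
  refine (hprod R x).trans (Finset.prod_congr rfl fun i _ => ?_)
  rw [hk1, pow_one]
  rfl

end Split

/-- A faithfully flat cover carrying separated points. -/
theorem exists_orth [Algebra.Etale A B] [Module.Free A B] [Module.Finite A B] (d : ℕ)
    (hd : Module.finrank A B = d) :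
    ∃ (S : Type u) (_ : CommRing S) (_ : Algebra A S) (_ : Module.FaithfullyFlat A S) (σ : Fin d → B →ₐ[A] S),
      Orth σ := by
  classical
  let T := ⨂[A] _ : Fin d, B
  let σ₀ : Fin d → B →ₐ[A] T := fun i => PiTensorProduct.singleAlgHom (A := fun _ : Fin d => B) i
  let el := Algebra.FormallyUnramified.elem A B
  have helem : el * el = el := by
    have : ∀ z : B ⊗[A] B, z * el = (Algebra.TensorProduct.lmul' A z ⊗ₜ[A] (1 : B)) * el := fun z => by
      induction z using TensorProduct.induction_on with
      | zero => simp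
      | tmul x y =>
        rw [show x ⊗ₜ[A] y = (x ⊗ₜ[A] (1 : B)) * (1 ⊗ₜ[A] y) by simp, mul_assoc,
          Algebra.FormallyUnramified.one_tmul_mul_elem, ← mul_assoc]
        simp [el]
      | add a b ha hb => rw [add_mul, ha, hb, map_add, TensorProduct.add_tmul, add_mul]
    rw [this, Algebra.FormallyUnramified.lmul_elem]
    simp [← Algebra.TensorProduct.one_def]
  let c : Fin d × Fin d → T := fun p =>
    if p.1 = p.2 then 0 else Algebra.TensorProduct.productMap (σ₀ p.1) (σ₀ p.2) el
  have hc : ∀ p, c p * c p = c p := fun p => by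
    simp only [c]
    split_ifs
    · simp
    · rw [← map_mul, helem]
  let E : T := ∏ p, (1 - c p)
  have hcE : ∀ p, c p * E = 0 := fun p => by
    simp only [E, ← Finset.mul_prod_erase _ _ (Finset.mem_univ p), ← mul_assoc, mul_sub, mul_one, hc, sub_self, zero_mul]
  have hE : E * E = E := by
    simp only [E, ← Finset.prod_mul_distrib]
    exact Finset.prod_congr rfl fun p _ => by linear_combination hc p
  let I : Ideal T := Ideal.span {1 - E}
  have hflat : Module.Flat A (T ⧸ I) := by
    have := flat_tensorPower (A := A) (B := B) d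
    let l : T →ₗ[A] T := LinearMap.mulLeft A E
    have hl : ∀ t ∈ I, l t = 0 := fun t ht => by
      obtain ⟨u, rfl⟩ := Ideal.mem_span_singleton'.1 ht
      show E * (u * (1 - E)) = 0
      linear_combination (-u) * hE
    let s : (T ⧸ I) →ₗ[A] T := (I.restrictScalars A).liftQ l fun t ht => LinearMap.mem_ker.2 (hl t ht)
    refine Module.Flat.of_retract s (Ideal.Quotient.mkₐ A I).toLinearMap (LinearMap.ext fun z => ?_)
    obtain ⟨t, rfl⟩ := Ideal.Quotient.mk_surjective z
    show Ideal.Quotient.mk I (E * t) = Ideal.Quotient.mk I t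
    rw [Ideal.Quotient.mk_eq_mk_iff_sub_mem]
    exact Ideal.mem_span_singleton'.2 ⟨-t, by ring⟩
  refine ⟨T ⧸ I, inferInstance, inferInstance, ?_, fun i => (Ideal.Quotient.mkₐ A I).comp (σ₀ i), fun i j => ?_⟩
  · refine Module.FaithfullyFlat.of_comap_surjective fun p => ?_
    have : Nontrivial A := ⟨⟨0, 1, fun h => p.isPrime.ne_top ((Ideal.eq_top_iff_one _).2 (h ▸ p.asIdeal.zero_mem))⟩⟩
    let K := AlgebraicClosure p.asIdeal.ResidueField
    obtain ⟨J, hJ, Ki, hKf, hKa, ψ, hsep⟩ := (Algebra.Etale.iff_exists_algEquiv_prod K (K ⊗[A] B)).1 inferInstance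
    have hbij : ∀ j, Function.Bijective (algebraMap K (Ki j)) := fun j => by
      obtain ⟨_, _⟩ := hsep j
      exact IsAlgClosed.algebraMap_bijective_of_isIntegral
    let pr : J → K ⊗[A] B →ₐ[K] K := fun j =>
      (AlgEquiv.ofBijective (Algebra.ofId K (Ki j)) (hbij j)).symm.toAlgHom.comp ((Pi.evalAlgHom K Ki j).comp ψ.toAlgHom)
    have hcard : Nat.card J = d := by
      have : Fintype J := Fintype.ofFinite J
      have h1 := (ψ.toLinearEquiv.trans (LinearEquiv.piCongrRight fun j =>
        (AlgEquiv.ofBijective (Algebra.ofId K (Ki j)) (hbij j)).symm.toLinearEquiv)).finrank_eq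
      rw [Module.finrank_baseChange, hd, Module.finrank_pi] at h1
      rw [Nat.card_eq_fintype_card]
      exact h1.symm
    let e : Fin d ≃ J := (Finite.equivFinOfCardEq hcard).symm
    let f : Fin d → B →ₐ[A] K := fun i =>
      ((pr (e i)).restrictScalars A).comp Algebra.TensorProduct.includeRight
    have hf : ∀ i j, f i = f j → i = j := fun i j h => by
      by_contra hne
      let v : ∀ l, Ki l := Pi.single (e i) 1
      have hext : pr (e i) = pr (e j) := Algebra.TensorProduct.ext' fun k b => by
        have hb := DFunLike.congr_fun h b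
        simp only [f, AlgHom.comp_apply, AlgHom.restrictScalars_apply, Algebra.TensorProduct.includeRight_apply] at hb
        rw [show k ⊗ₜ[A] b = k • ((1 : K) ⊗ₜ[A] b) by rw [TensorProduct.smul_tmul', smul_eq_mul, mul_one], map_smul,
          map_smul, hb]
      have h2 := DFunLike.congr_fun hext (ψ.symm v)
      have hne' : e j ≠ e i := fun hh => hne (e.injective hh).symm
      simp [pr, v, hne'] at h2
    let Φ : T →ₐ[A] K := PiTensorProduct.liftAlgHom
      ((MultilinearMap.mkPiAlgebra A (Fin d) K).compLinearMap fun i => (f i).toLinearMap)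
      (by simp) (by intro x y; simp [Finset.prod_mul_distrib])
    have hΦ : ∀ i, Φ.comp (σ₀ i) = f i := fun i => AlgHom.ext fun b => by
      simp only [Φ, σ₀, AlgHom.comp_apply, PiTensorProduct.singleAlgHom_apply, MonoidHom.mulSingle_apply]
      refine (PiTensorProduct.lift.tprod _).trans ?_
      simp only [MultilinearMap.compLinearMap_apply, MultilinearMap.mkPiAlgebra_apply, AlgHom.toLinearMap_apply]
      rw [Finset.prod_eq_single i]
      · simp
      · intro j _ hne; simp [hne]
      · simp
    have hΦc : ∀ p, Φ (c p) = 0 := fun q => by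
      simp only [c]
      split_ifs with hq
      · exact map_zero _
      · have hcomp : Φ.comp (Algebra.TensorProduct.productMap (σ₀ q.1) (σ₀ q.2)) =
            Algebra.TensorProduct.productMap (f q.1) (f q.2) := by
          rw [← hΦ, ← hΦ]
          exact Algebra.TensorProduct.ext' fun a b => by simp
        rw [← AlgHom.comp_apply, hcomp]
        obtain ⟨b, hb⟩ : ∃ b, f q.1 b ≠ f q.2 b := by
          by_contra hall
          push Not at hall
          exact hq (hf _ _ (AlgHom.ext hall))
        have h := congrArg (Algebra.TensorProduct.productMap (f q.1) (f q.2))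
          (Algebra.FormallyUnramified.one_tmul_mul_elem (R := A) b)
        simp only [map_mul, Algebra.TensorProduct.productMap_apply_tmul, map_one, one_mul, mul_one] at h
        exact ((mul_eq_mul_right_iff).1 h).resolve_left fun hh => hb hh.symm
    have hΦI : ∀ t ∈ I, Φ t = 0 := fun t ht => by
      obtain ⟨u, rfl⟩ := Ideal.mem_span_singleton'.1 ht
      rw [map_mul, map_sub, map_one, map_prod, Finset.prod_eq_one fun p _ => by rw [map_sub, map_one, hΦc, sub_zero],
        sub_self, mul_zero]
    let Φ' := Ideal.Quotient.liftₐ I Φ hΦI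
    refine ⟨(⊥ : PrimeSpectrum K).comap Φ'.toRingHom, PrimeSpectrum.ext ?_⟩
    show (Ideal.comap Φ'.toRingHom ⊥).comap (algebraMap A (T ⧸ I)) = p.asIdeal
    rw [Ideal.comap_comap, show Φ'.toRingHom.comp (algebraMap A (T ⧸ I)) = algebraMap A K from AlgHom.comp_algebraMap Φ', IsScalarTower.algebraMap_eq A p.asIdeal.ResidueField K,
      ← Ideal.comap_comap, Ideal.comap_bot_of_injective _ (algebraMap p.asIdeal.ResidueField K).injective]
    exact Ideal.ker_algebraMap_residueField p.asIdeal
  · have hcomp : Algebra.TensorProduct.productMap ((Ideal.Quotient.mkₐ A I).comp (σ₀ i)) ((Ideal.Quotient.mkₐ A I).comp (σ₀ j)) =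
        (Ideal.Quotient.mkₐ A I).comp (Algebra.TensorProduct.productMap (σ₀ i) (σ₀ j)) :=
      Algebra.TensorProduct.ext' fun a b => by simp
    rw [hcomp, AlgHom.comp_apply]
    split_ifs with hij
    · subst hij
      have : Algebra.TensorProduct.productMap (σ₀ i) (σ₀ i) = (σ₀ i).comp (Algebra.TensorProduct.lmul' A) :=
        Algebra.TensorProduct.ext' fun a b => by simp
      rw [this, AlgHom.comp_apply, Algebra.FormallyUnramified.lmul_elem, map_one, map_one]
    · have h1 : c (i, j) = Algebra.TensorProduct.productMap (σ₀ i) (σ₀ j) el := if_neg hij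
      rw [← h1, Ideal.Quotient.mkₐ_eq_mk, Ideal.Quotient.eq_zero_iff_mem]
      exact Ideal.mem_span_singleton'.2 ⟨c (i, j), by linear_combination -(hcE (i, j))⟩

/-- Laws of full support on a finite étale algebra coincide. -/
theorem eq_of_ker_le_nilradical [Algebra.Etale A B] [Module.Free A B] [Module.Finite A B] {d : ℕ}
    (hd : Module.finrank A B = d) (F G : PolLaw.MulLaw A B A d) (hF : PolLaw.ker F.law ≤ nilradical B)
    (hG : PolLaw.ker G.law ≤ nilradical B) : F = G := by
  obtain ⟨S, _, _, _, σ, hσ⟩ := exists_orth (A := A) (B := B) d hd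
  refine PolLaw.MulLaw.ext (ext_local fun R _ _ _ x => ?_)
  have hinj : Function.Injective (Algebra.TensorProduct.includeRight : R →ₐ[A] S ⊗[A] R) :=
    Module.FaithfullyFlat.tensorProduct_mk_injective (A := A) (B := S) R
  let P := S ⊗[A] R
  rw [eq_norm_tmul_one, eq_norm_tmul_one]
  refine congrArg (fun r => r ⊗ₜ[A] (1 : A)) (hinj ?_)
  rw [norm_map', norm_map', toAlgHom_eq (AlgHom.comp _ _)]
  refine sub_eq_zero.1 (eq_zero_of_localization _ fun J _ => ?_)
  let φ : P →ₐ[A] Localization.AtPrime J := IsScalarTower.toAlgHom A P (Localization.AtPrime J)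
  show φ (_ - _) = 0
  have hσL := hσ.comp (φ.comp Algebra.TensorProduct.includeLeft)
  rw [map_sub, norm_map', norm_map', toAlgHom_eq (φ.comp _), norm_eq_prod_evalPts hd hσL F hF,
    norm_eq_prod_evalPts hd hσL G hG, sub_self]

end Groth.Agent.ZC
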