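import Mathlib
import Groth.Agent.ZC.Components
import Groth.Agent.ZC.Gens

/-!
# Finiteness properties
-/

open scoped TensorProduct

namespace Groth.Agent.ZC

universe u

variable {A : Type u} [CommRing A] {B C : Type u} [CommRing B] [Algebra A B] [CommRing C] [Algebra A C] {d : ℕ}

theorem norm_sum (F : PolLaw.MulLaw A B C d) {R : Type u} [CommRing R] [Algebra A R] (ψ : C →ₐ[A] R)
    {ι : Type} [Fintype ι] (s : ι → R) (b : ι → B) :
    norm F ψ (∑ i, s i ⊗ₜ[A] b i) =
      (coeff F.law b).sum fun ν c => MvPolynomial.aeval s (MvPolynomial.monomial ν (1 : A)) * ψ c := by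
  rw [norm, toFun_sum', map_finsuppSum]
  simp

/-- The translations leaving the norm unchanged. -/
def normKer (F : PolLaw.MulLaw A B C d) {R : Type u} [CommRing R] [Algebra A R] (ψ : C →ₐ[A] R) :
    Ideal (R ⊗[A] B) where
  carrier := {u | ∀ z w : R ⊗[A] B, norm F ψ (z + w * u) = norm F ψ z}
  zero_mem' z w := by simp
  add_mem' {u v} hu hv z w := by rw [mul_add, ← add_assoc, hv, hu]
  smul_mem' c {u} hu z w := by rw [smul_eq_mul, ← mul_assoc]; exact hu z _

theorem aeval_chi_mem_normKer (F : PolLaw.MulLaw A B C d) {R : Type u} [CommRing R] [Algebra A R] (ψ : C →ₐ[A] R)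
    (y : R ⊗[A] B) : Polynomial.aeval y (chi F ψ y) ∈ normKer F ψ :=
  fun z w => norm_add_mul_aeval_chi F ψ y z w

/-- A quotient by monic equations of generators is finite. -/
theorem finite_quotient {R S : Type*} [CommRing R] [CommRing S] [Algebra R S] {ι : Type*} [Finite ι] (x : ι → S)
    (hx : Algebra.adjoin R (Set.range x) = ⊤) (p : ι → Polynomial R) (hp : ∀ i, (p i).Monic) (J : Ideal S)
    (hJ : ∀ i, Polynomial.aeval (x i) (p i) ∈ J) : Module.Finite R (S ⧸ J) := by
  let q := Ideal.Quotient.mkₐ R J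
  have htop : Algebra.adjoin R (Set.range fun i => q (x i)) = ⊤ := by
    rw [Set.range_comp' q x, ← AlgHom.map_adjoin, hx, Algebra.map_top, AlgHom.range_eq_top]
    exact Ideal.Quotient.mkₐ_surjective R J
  refine ⟨?_⟩
  have h := fg_adjoin_of_finite (R := R) (Set.finite_range fun i => q (x i)) (by
    rintro _ ⟨i, rfl⟩
    refine ⟨p i, hp i, ?_⟩
    rw [← Polynomial.aeval_def, Polynomial.aeval_algHom_apply]
    exact Ideal.Quotient.eq_zero_iff_mem.2 (hJ i))
  rwa [htop, Algebra.top_toSubmodule] at h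

theorem exists_fg_ker [Algebra.FiniteType A B] (F : PolLaw.MulLaw A B A d) :
    ∃ J : Ideal B, J.FG ∧ J ≤ PolLaw.ker F.law ∧ J.radical = (PolLaw.ker F.law).radical := by
  classical
  obtain ⟨n, f, hf⟩ := Algebra.FiniteType.iff_quotient_mvPolynomial''.1 (inferInstance : Algebra.FiniteType A B)
  let x : Fin n → B := fun i => f (MvPolynomial.X i)
  have hx : Algebra.adjoin A (Set.range x) = ⊤ := by
    rw [Set.range_comp' f MvPolynomial.X, ← AlgHom.map_adjoin, MvPolynomial.adjoin_range_X, Algebra.map_top,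
      AlgHom.range_eq_top]
    exact hf
  let p : Fin n → Polynomial A := fun i => Polynomial.C ((-1) ^ d) * chi F (AlgHom.id A A) ((1 : A) ⊗ₜ[A] x i)
  let J₁ : Ideal B := Ideal.span (Set.range fun i => Polynomial.aeval (x i) (p i))
  have hJ₁ : J₁ ≤ PolLaw.ker F.law := Ideal.span_le.2 (by
    rintro _ ⟨i, rfl⟩
    show Polynomial.aeval (x i) (p i) ∈ _
    rw [map_mul]
    exact Ideal.mul_mem_left _ _ (aeval_chi_mem_ker F (x i)))
  have := finite_quotient x hx p (fun i => monic_neg_one_pow_mul_chi F _ _) J₁ fun i => Ideal.subset_span ⟨i, rfl⟩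
  obtain ⟨m, h, hh⟩ := Module.Finite.exists_fin (R := A) (M := B ⧸ J₁)
  choose g hg using fun k => Ideal.Quotient.mk_surjective (h k)
  let y : MvPolynomial (Fin m) A ⊗[A] B := ∑ k, MvPolynomial.X k ⊗ₜ[A] g k
  have hz := aeval_chi_mem_map_ker F y
  rw [Ideal.map] at hz
  obtain ⟨T, hT, hzT⟩ := Submodule.mem_span_finite_of_mem_span hz
  choose t ht htT using fun s : T => hT s.2
  let J := J₁ ⊔ Ideal.span (Set.range t)
  have hJle : J ≤ PolLaw.ker F.law := sup_le hJ₁ (Ideal.span_le.2 (by rintro _ ⟨s, rfl⟩; exact ht s))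
  refine ⟨J, (Submodule.fg_span (Set.finite_range _)).sup (Submodule.fg_span (Set.finite_range _)), hJle,
    le_antisymm (Ideal.radical_mono hJle) ?_⟩
  rw [← Ideal.radical_idem J]
  refine Ideal.radical_mono fun b hb => ?_
  obtain ⟨a, ha⟩ := (Submodule.mem_span_range_iff_exists_fun A).1
    (hh ▸ Submodule.mem_top : Ideal.Quotient.mk J₁ b ∈ Submodule.span A (Set.range h))
  let b' : B := ∑ k, a k • g k
  have hbb' : b - b' ∈ J₁ := by
    rw [← Ideal.Quotient.mk_eq_mk_iff_sub_mem, ← ha]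
    show _ = Ideal.Quotient.mkₐ A J₁ (∑ k, a k • g k)
    simp [map_sum, hg]
  have hb' : b' ∈ PolLaw.ker F.law := by
    simpa using sub_mem hb (hJ₁ hbb')
  let ev := Algebra.TensorProduct.map (MvPolynomial.aeval a : MvPolynomial (Fin m) A →ₐ[A] A) (AlgHom.id A B)
  let e := (Algebra.TensorProduct.lid A B).toAlgHom.comp ev
  have hey : ev y = (1 : A) ⊗ₜ[A] b' := by
    simp only [ev, y, b', map_sum, Algebra.TensorProduct.map_tmul, MvPolynomial.aeval_X, AlgHom.id_apply,
      TensorProduct.tmul_sum]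
    exact Finset.sum_congr rfl fun k _ => by rw [TensorProduct.tmul_smul, TensorProduct.smul_tmul', smul_eq_mul, mul_one]
  have hmem : e (Polynomial.aeval y (chi F (Algebra.ofId A (MvPolynomial (Fin m) A)) y)) ∈ J := by
    have h1 : e (Polynomial.aeval y (chi F (Algebra.ofId A _) y)) ∈ Ideal.map e (Ideal.span (T : Set _)) :=
      Ideal.mem_map_of_mem e hzT
    rw [Ideal.map_span] at h1
    refine Ideal.span_le.2 ?_ h1
    rintro _ ⟨s, hs, rfl⟩
    rw [show e s = e (Algebra.TensorProduct.includeRight (t ⟨s, hs⟩)) from congrArg e (htT ⟨s, hs⟩).symm]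
    simpa [e, ev] using (Submodule.mem_sup_right (Ideal.subset_span ⟨⟨s, hs⟩, rfl⟩) : t ⟨s, hs⟩ ∈ J)
  rw [AlgHom.comp_apply, aeval_map_chi, map_chi', hey, toAlgHom_eq ((MvPolynomial.aeval a).comp _),
    chi_of_mem_ker F _ hb'] at hmem
  simp only [map_pow, map_neg, Polynomial.aeval_X] at hmem
  have hpow : b' ^ d ∈ J := by
    refine (Ideal.unit_mul_mem_iff_mem _ ((isUnit_one.neg).pow d)).1 ?_
    rw [← neg_pow]
    simpa using hmem
  have hbJ : b' ∈ J.radical := ⟨d, hpow⟩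
  simpa using add_mem (Ideal.le_radical (Submodule.mem_sup_left hbb')) hbJ

theorem finiteType_of_isGammaD {γ : PolLaw.MulLaw A B C d} (hγ : PolLaw.IsGammaD γ) [Algebra.FiniteType A B] :
    Algebra.FiniteType A C := by
  classical
  rcases subsingleton_or_nontrivial C with hC | hC
  · exact ⟨⟨∅, eq_top_iff.2 fun z _ => by rw [Subsingleton.elim z 0]; exact zero_mem _⟩⟩
  obtain ⟨n, f, hf⟩ := Algebra.FiniteType.iff_quotient_mvPolynomial''.1 (inferInstance : Algebra.FiniteType A B)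
  let x : Fin n → B := fun i => f (MvPolynomial.X i)
  let q : Fin n → Polynomial C := fun i => Polynomial.C ((-1) ^ d) * chi γ (AlgHom.id A C) ((1 : C) ⊗ₜ[A] x i)
  let S : Finset C := Finset.univ.biUnion fun i => (q i).coeffs
  let C₀ := Algebra.adjoin A (S : Set C)
  have hq : ∀ i, ∃ q₀ : Polynomial C₀, q₀.Monic ∧ q₀.map C₀.val.toRingHom = q i := fun i => by
    have hl : q i ∈ Polynomial.lifts C₀.val.toRingHom := (Polynomial.lifts_iff_coeff_lifts _).2 fun k => by
      by_cases hk : (q i).coeff k = 0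
      · exact ⟨0, by rw [hk]; rfl⟩
      · exact ⟨⟨_, Algebra.subset_adjoin (Finset.mem_biUnion.2 ⟨i, Finset.mem_univ _,
          Polynomial.coeff_mem_coeffs hk⟩)⟩, rfl⟩
    obtain ⟨q₀, h1, -, h2⟩ := Polynomial.lifts_and_degree_eq_and_monic hl (monic_neg_one_pow_mul_chi γ _ _)
    exact ⟨q₀, h2, h1⟩
  choose q₀ hq₀m hq₀ using hq
  let x₀ : Fin n → C₀ ⊗[A] B := fun i => (1 : C₀) ⊗ₜ[A] x i
  have hx₀ : Algebra.adjoin C₀ (Set.range x₀) = ⊤ := by
    have hx : Algebra.adjoin A (Set.range x) = ⊤ := by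
      rw [Set.range_comp' f MvPolynomial.X, ← AlgHom.map_adjoin, MvPolynomial.adjoin_range_X, Algebra.map_top,
        AlgHom.range_eq_top]
      exact hf
    refine eq_top_iff.2 fun z hz => ?_
    clear hz
    induction z using TensorProduct.induction_on with
    | zero => exact zero_mem _
    | add a b ha hb => exact add_mem ha hb
    | tmul c b =>
      rw [show c ⊗ₜ[A] b = c • ((1 : C₀) ⊗ₜ[A] b) by simp [TensorProduct.smul_tmul']]
      refine Subalgebra.smul_mem _ ?_ c
      have hle : Algebra.adjoin A (Set.range x) ≤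
          ((Algebra.adjoin C₀ (Set.range x₀)).restrictScalars A).comap Algebra.TensorProduct.includeRight :=
        Algebra.adjoin_le (by rintro _ ⟨i, rfl⟩; exact Algebra.subset_adjoin ⟨i, rfl⟩)
      exact hle (hx ▸ Algebra.mem_top : b ∈ Algebra.adjoin A (Set.range x))
  let J₀ : Ideal (C₀ ⊗[A] B) := Ideal.span (Set.range fun i => Polynomial.aeval (x₀ i) (q₀ i))
  have := finite_quotient x₀ hx₀ q₀ hq₀m J₀ fun i => Ideal.subset_span ⟨i, rfl⟩
  obtain ⟨m, h, hh⟩ := Module.Finite.exists_fin (R := C₀) (M := (C₀ ⊗[A] B) ⧸ J₀)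
  choose gl hgl using fun k => Ideal.Quotient.mk_surjective (h k)
  choose ng sg bg hg using fun k => exists_sum (gl k)
  let ι := Σ k : Fin m, Fin (ng k)
  let G : ι → B := fun e => bg e.1 e.2
  let gens : Finset C := S ∪ (coeff γ.law G).support.image fun ν => coeff γ.law G ν
  refine ⟨⟨gens, eq_top_iff.2 fun z _ => ?_⟩⟩
  let D := Algebra.adjoin A (gens : Set C)
  have hC₀ : C₀ ≤ D := Algebra.adjoin_mono (by
    intro s hs; exact Finset.mem_coe.2 (Finset.mem_union_left _ (Finset.mem_coe.1 hs)))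
  suffices hle : coeffSpan γ.law ≤ Subalgebra.toSubmodule D from hle (coeffSpan_eq_top hγ ▸ Submodule.mem_top)
  refine Submodule.span_le.2 ?_
  rintro _ ⟨N, b, μ, rfl⟩
  choose c hc using fun j => (Submodule.mem_span_range_iff_exists_fun C₀).1
    (hh ▸ Submodule.mem_top : Ideal.Quotient.mk J₀ ((1 : C₀) ⊗ₜ[A] b j) ∈ Submodule.span C₀ (Set.range h))
  let R := MvPolynomial (Fin N) C
  let ψ : C →ₐ[A] R := IsScalarTower.toAlgHom A C R
  let κ : C₀ →ₐ[A] R := ψ.comp C₀.val
  let Λ := Algebra.TensorProduct.map κ (AlgHom.id A B)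
  have hker : ∀ u ∈ J₀, Λ u ∈ normKer γ ψ := fun u hu => by
    suffices h1 : J₀.map Λ ≤ normKer γ ψ from h1 (Ideal.mem_map_of_mem Λ hu)
    rw [Ideal.map_span, Ideal.span_le]
    rintro _ ⟨_, ⟨i, rfl⟩, rfl⟩
    have hmap : (q₀ i).map κ.toRingHom =
        Polynomial.C ((-1) ^ d) * chi γ ψ ((1 : R) ⊗ₜ[A] x i) := by
      rw [show κ.toRingHom = ψ.toRingHom.comp C₀.val.toRingHom from rfl, ← Polynomial.map_map, hq₀,
        Polynomial.map_mul, Polynomial.map_C, map_chi', AlgHom.comp_id, Algebra.TensorProduct.map_tmul, map_one,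
        AlgHom.id_apply]
      simp
    show Λ (Polynomial.aeval (x₀ i) (q₀ i)) ∈ normKer γ ψ
    rw [aeval_map_chi, hmap, map_mul, show Λ (x₀ i) = (1 : R) ⊗ₜ[A] x i by simp [Λ, x₀]]
    exact Ideal.mul_mem_left _ _ (aeval_chi_mem_normKer γ ψ _)
  have hdiff : ∀ j, Λ ((1 : C₀) ⊗ₜ[A] b j - ∑ k, c j k • gl k) ∈ normKer γ ψ := fun j => hker _ (by
    rw [← Ideal.Quotient.eq_zero_iff_mem, map_sub, ← hc j, sub_eq_zero]
    show _ = Ideal.Quotient.mkₐ C₀ J₀ (∑ k, c j k • gl k)
    simp [map_sum, hgl])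
  let s : ι → R := fun e => ∑ j, MvPolynomial.X j * κ (c j e.1 * sg e.1 e.2)
  have hu : (∑ j, (MvPolynomial.X j : R) ⊗ₜ[A] b j) - ∑ e, s e ⊗ₜ[A] G e ∈ normKer γ ψ := by
    have : (∑ j, (MvPolynomial.X j : R) ⊗ₜ[A] b j) - ∑ e, s e ⊗ₜ[A] G e =
        ∑ j, ((MvPolynomial.X j : R) ⊗ₜ[A] (1 : B)) * Λ ((1 : C₀) ⊗ₜ[A] b j - ∑ k, c j k • gl k) := by
      simp only [hg, Finset.smul_sum, TensorProduct.smul_tmul', smul_eq_mul, map_sub, map_sum, Λ,
        Algebra.TensorProduct.map_tmul, AlgHom.id_apply, mul_sub, Finset.mul_sum,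
        Algebra.TensorProduct.tmul_mul_tmul, one_mul, map_one, mul_one, Finset.sum_sub_distrib]
      congr 1
      simp only [s, G, TensorProduct.sum_tmul, ι, Fintype.sum_sigma]
      rw [Finset.sum_congr rfl fun k _ => Finset.sum_comm, Finset.sum_comm]
    rw [this]
    exact Ideal.sum_mem _ fun j _ => Ideal.mul_mem_left _ _ (hdiff j)
  have key : norm γ ψ (∑ j, (MvPolynomial.X j : R) ⊗ₜ[A] b j) = norm γ ψ (∑ e, s e ⊗ₜ[A] G e) := by
    have h1 := hu (∑ e, s e ⊗ₜ[A] G e) 1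
    rwa [one_mul, add_sub_cancel] at h1
  rw [norm_sum, norm_sum] at key
  have hL : (MvPolynomial.coeff μ ((coeff γ.law b).sum fun ν c =>
      MvPolynomial.aeval (fun j => (MvPolynomial.X j : R)) (MvPolynomial.monomial ν (1 : A)) * ψ c)) =
      coeff γ.law b μ := by
    have hm : ∀ ν, MvPolynomial.aeval (fun j => (MvPolynomial.X j : R)) (MvPolynomial.monomial ν (1 : A)) =
        MvPolynomial.monomial ν (1 : C) := fun ν => by
      rw [MvPolynomial.aeval_monomial, map_one, one_mul, MvPolynomial.monomial_eq, map_one, one_mul]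
    rw [Finsupp.sum, MvPolynomial.coeff_sum, Finset.sum_eq_single μ]
    · simp [hm, ψ, R, MvPolynomial.algebraMap_eq, mul_comm _ (MvPolynomial.C _), MvPolynomial.C_mul_monomial]
    · intro ν _ hne
      simp [hm, ψ, R, MvPolynomial.algebraMap_eq, mul_comm _ (MvPolynomial.C _), MvPolynomial.C_mul_monomial, hne]
    · intro hν; simp [Finsupp.notMem_support_iff.1 hν]
  rw [key] at hL
  rw [← hL, Finsupp.sum, MvPolynomial.coeff_sum]
  refine sum_mem fun ν hν => ?_
  rw [show ψ (coeff γ.law G ν) = MvPolynomial.C (coeff γ.law G ν) from rfl,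
    mul_comm, MvPolynomial.coeff_C_mul, mul_comm]
  rw [Subalgebra.mem_toSubmodule]
  refine mul_mem ?_ (Algebra.subset_adjoin (Finset.mem_coe.2
    (Finset.mem_union_right _ (Finset.mem_image_of_mem _ hν))))
  have hp : MvPolynomial.aeval s (MvPolynomial.monomial ν (1 : A)) ∈
      (MvPolynomial.mapAlgHom (σ := Fin N) C₀.val).range := by
    rw [MvPolynomial.aeval_monomial, map_one, one_mul]
    refine Subalgebra.prod_mem _ fun e _ => Subalgebra.pow_mem _ ?_ _
    refine Subalgebra.sum_mem _ fun j _ => ?_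
    exact ⟨MvPolynomial.X j * MvPolynomial.C (c j e.1 * sg e.1 e.2), by simp [κ, ψ, R, MvPolynomial.algebraMap_eq]⟩
  obtain ⟨p, hp⟩ := hp
  rw [← hp]
  refine hC₀ ?_
  show MvPolynomial.coeff μ (MvPolynomial.map C₀.val.toRingHom p) ∈ C₀
  rw [MvPolynomial.coeff_map]
  exact SetLike.coe_mem _

end Groth.Agent.ZC
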