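import Mathlib
import Groth.Agent.ZC.FiniteType

/-!
# The kernel and localisation
-/

open scoped TensorProduct

namespace Groth.Agent.ZC

universe u

variable {A : Type u} [CommRing A] {B : Type u} [CommRing B] [Algebra A B] {d : ℕ}

theorem exists_one_tmul {A' : Type u} [CommRing A'] [Algebra A A'] (M : Submonoid A) [IsLocalization M A']
    (z : A' ⊗[A] B) : ∃ (m : A) (b : B), m ∈ M ∧ algebraMap A (A' ⊗[A] B) m * z = (1 : A') ⊗ₜ[A] b := by
  induction z using TensorProduct.induction_on with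
  | zero => exact ⟨1, 0, M.one_mem, by simp⟩
  | tmul a b =>
    obtain ⟨⟨c, m⟩, h⟩ := IsLocalization.surj M a
    refine ⟨m, c • b, m.2, ?_⟩
    rw [Algebra.TensorProduct.algebraMap_apply, Algebra.TensorProduct.tmul_mul_tmul, one_mul, TensorProduct.tmul_smul,
      TensorProduct.smul_tmul', mul_comm, h, Algebra.smul_def, mul_one]
  | add x y hx hy =>
    obtain ⟨m, b, hm, h⟩ := hx
    obtain ⟨m', b', hm', h'⟩ := hy
    refine ⟨m * m', m' • b + m • b', M.mul_mem hm hm', ?_⟩
    rw [TensorProduct.tmul_add, TensorProduct.tmul_smul, TensorProduct.tmul_smul, ← h, ← h', map_mul,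
      Algebra.smul_def, Algebra.smul_def]
    ring

/-- Substituting `m Y` for `Y` annihilates a polynomial killed by `m` without terms of degree zero in `Y`. -/
theorem eq_zero_of_smul_eq_zero {σ τ : Type} {m : A} {p : MvPolynomial (σ ⊕ τ) A} (hm : m • p = 0)
    (h0 : MvPolynomial.aeval (Sum.elim (fun i => MvPolynomial.X (Sum.inl i)) (fun _ => (0 : MvPolynomial (σ ⊕ τ) A))) p = 0) :
    MvPolynomial.aeval (Sum.elim (fun i => MvPolynomial.X (Sum.inl i))
      (fun j => MvPolynomial.C m * (MvPolynomial.X (Sum.inr j) : MvPolynomial (σ ⊕ τ) A))) p = 0 := by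
  classical
  let φ₁ : MvPolynomial (σ ⊕ τ) A →ₐ[A] MvPolynomial (σ ⊕ τ) A := MvPolynomial.aeval (Sum.elim (fun i => MvPolynomial.X (Sum.inl i))
    (fun j => MvPolynomial.C m * (MvPolynomial.X (Sum.inr j) : MvPolynomial (σ ⊕ τ) A)))
  let φ₀ : MvPolynomial (σ ⊕ τ) A →ₐ[A] MvPolynomial (σ ⊕ τ) A :=
    MvPolynomial.aeval (Sum.elim (fun i => MvPolynomial.X (Sum.inl i)) (fun _ => (0 : MvPolynomial (σ ⊕ τ) A)))
  have hd : ∀ r, ∃ r', φ₁ r - φ₀ r = m • r' := fun r => by
    induction r using MvPolynomial.induction_on with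
    | C a => exact ⟨0, by simp [φ₁, φ₀]⟩
    | add p q hp hq =>
      obtain ⟨p', hp'⟩ := hp
      obtain ⟨q', hq'⟩ := hq
      exact ⟨p' + q', by rw [map_add, map_add, smul_add, ← hp', ← hq']; ring⟩
    | mul_X p i hp =>
      obtain ⟨p', hp'⟩ := hp
      rcases i with i | j
      · exact ⟨p' * MvPolynomial.X (Sum.inl i), by
          rw [map_mul, map_mul, ← smul_mul_assoc, ← hp']; simp [φ₁, φ₀]; ring⟩
      · exact ⟨φ₁ p * MvPolynomial.X (Sum.inr j), by
          rw [map_mul, map_mul, MvPolynomial.smul_eq_C_mul]; simp [φ₁, φ₀]; ring⟩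
  choose L hL using hd
  let Λ : MvPolynomial (σ ⊕ τ) A →ₗ[A] MvPolynomial (σ ⊕ τ) A :=
    (MvPolynomial.basisMonomials (σ ⊕ τ) A).constr A fun ν => L (MvPolynomial.monomial ν 1)
  have hΛ : φ₁.toLinearMap - φ₀.toLinearMap = m • Λ := by
    refine (MvPolynomial.basisMonomials (σ ⊕ τ) A).ext fun ν => ?_
    rw [LinearMap.sub_apply, LinearMap.smul_apply, Module.Basis.constr_basis, ← hL]
    simp
  have h := LinearMap.congr_fun hΛ p
  rw [LinearMap.smul_apply, ← map_smul, hm, map_zero, LinearMap.sub_apply, AlgHom.toLinearMap_apply,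
    AlgHom.toLinearMap_apply, sub_eq_zero] at h
  exact h.trans h0

/-- The kernel commutes with localisation for finite algebras. -/
theorem kerBC_localization [Module.Finite A B] (F : PolLaw.MulLaw A B A d) (M : Submonoid A) (A' : Type u)
    [CommRing A'] [Algebra A A'] [IsLocalization M A'] :
    (PolLaw.ker F.law).map (Algebra.TensorProduct.includeRight : B →ₐ[A] A' ⊗[A] B) = PolLaw.kerBC F.law A' := by
  classical
  refine le_antisymm (map_ker_le_kerBC F A') fun z hz => ?_
  obtain ⟨m₀, b, hm₀, hb⟩ := exists_one_tmul M z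
  have hzb : (1 : A') ⊗ₜ[A] b ∈ PolLaw.kerBC F.law A' := hb ▸ Ideal.mul_mem_left _ _ hz
  obtain ⟨r, g, hg⟩ := Module.Finite.exists_fin (R := A) (M := B)
  let P := MvPolynomial (Fin r ⊕ Fin r) A
  let ψ : A →ₐ[A] P := Algebra.ofId A P
  let x₀ : P ⊗[A] B := ∑ i, MvPolynomial.X (Sum.inl i) ⊗ₜ[A] g i
  let w₀ : P ⊗[A] B := ∑ i, MvPolynomial.X (Sum.inr i) ⊗ₜ[A] g i
  let p : P := norm F ψ (x₀ + w₀ * ((1 : P) ⊗ₜ[A] b)) - norm F ψ x₀
  have hp' : MvPolynomial.map (algebraMap A A') p = 0 := by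
    let j : P →ₐ[A] MvPolynomial (Fin r ⊕ Fin r) A' := MvPolynomial.mapAlgHom (Algebra.ofId A A')
    show j p = 0
    rw [map_sub, norm_map', norm_map', map_add, map_mul, sub_eq_zero]
    have h := norm_eq_of_mem_kerBC F hzb (IsScalarTower.toAlgHom A A' (MvPolynomial (Fin r ⊕ Fin r) A')) (j.comp ψ)
      (Algebra.TensorProduct.map j (AlgHom.id A B) x₀) (Algebra.TensorProduct.map j (AlgHom.id A B) w₀)
    simpa using h
  obtain ⟨m, hm⟩ : ∃ m : M, (m : A) • p = 0 := by
    have hc : ∀ ν, ∃ m : M, (m : A) * p.coeff ν = 0 := fun ν => by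
      refine (IsLocalization.map_eq_zero_iff M A' _).1 ?_
      rw [← MvPolynomial.coeff_map, hp', MvPolynomial.coeff_zero]
    choose f hf using hc
    refine ⟨∏ ν ∈ p.support, f ν, MvPolynomial.ext _ _ fun ν => ?_⟩
    rw [MvPolynomial.coeff_smul, MvPolynomial.coeff_zero, smul_eq_mul]
    by_cases hν : ν ∈ p.support
    · rw [← Finset.mul_prod_erase _ _ hν, Submonoid.coe_mul, mul_right_comm, hf, zero_mul]
    · rw [MvPolynomial.notMem_support_iff.1 hν, mul_zero]
  let S₀ : P →ₐ[A] P := MvPolynomial.aeval (Sum.elim (fun i => MvPolynomial.X (Sum.inl i)) (fun _ => (0 : P)))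
  let S₁ : P →ₐ[A] P := MvPolynomial.aeval (Sum.elim (fun i => MvPolynomial.X (Sum.inl i))
    (fun j => MvPolynomial.C (m : A) * (MvPolynomial.X (Sum.inr j) : P)))
  have hS₀ : S₀ p = 0 := by
    rw [map_sub, norm_map', norm_map', map_add, map_mul]
    have hw : Algebra.TensorProduct.map S₀ (AlgHom.id A B) w₀ = 0 := by
      rw [map_sum]
      refine Finset.sum_eq_zero fun i _ => ?_
      rw [Algebra.TensorProduct.map_tmul, MvPolynomial.aeval_X, Sum.elim_inr, TensorProduct.zero_tmul]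
    rw [hw, zero_mul, add_zero, sub_self]
  have hq : S₁ p = 0 := eq_zero_of_smul_eq_zero hm hS₀
  have hker : algebraMap A B (m : A) * b ∈ PolLaw.ker F.law := by
    refine mem_ker_of_norm F fun n x w => ?_
    let R := MvPolynomial (Fin n) A
    let ψR : A →ₐ[A] R := IsScalarTower.toAlgHom A A R
    have hgen : ∀ x : R ⊗[A] B, ∃ s : Fin r → R, x = ∑ i, s i ⊗ₜ[A] g i := fun x => by
      induction x using TensorProduct.induction_on with
      | zero => exact ⟨0, by simp⟩
      | tmul a b =>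
        obtain ⟨c, hc⟩ := (Submodule.mem_span_range_iff_exists_fun A).1 (hg ▸ Submodule.mem_top : b ∈ Submodule.span A (Set.range g))
        refine ⟨fun i => c i • a, ?_⟩
        simp [← hc, TensorProduct.tmul_sum, TensorProduct.smul_tmul]
      | add x y hx hy =>
        obtain ⟨s, rfl⟩ := hx
        obtain ⟨t, rfl⟩ := hy
        exact ⟨s + t, by simp [TensorProduct.add_tmul, Finset.sum_add_distrib]⟩
    obtain ⟨s, rfl⟩ := hgen x
    obtain ⟨t, rfl⟩ := hgen w
    let e : P →ₐ[A] R := MvPolynomial.aeval (Sum.elim s t)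
    have h := congrArg e hq
    rw [← AlgHom.comp_apply, map_zero, map_sub, norm_map', norm_map', sub_eq_zero, toAlgHom_eq ((e.comp S₁).comp ψ),
      ← toAlgHom_eq ψR, map_add, map_mul] at h
    have hX : Algebra.TensorProduct.map (e.comp S₁) (AlgHom.id A B) x₀ = ∑ i, s i ⊗ₜ[A] g i := by
      rw [map_sum]
      refine Finset.sum_congr rfl fun i _ => ?_
      rw [Algebra.TensorProduct.map_tmul, AlgHom.comp_apply, MvPolynomial.aeval_X, Sum.elim_inl, MvPolynomial.aeval_X,
        Sum.elim_inl]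
      rfl
    have hW : Algebra.TensorProduct.map (e.comp S₁) (AlgHom.id A B) w₀ =
        ∑ i, (algebraMap A R m * t i) ⊗ₜ[A] g i := by
      rw [map_sum]
      refine Finset.sum_congr rfl fun i _ => ?_
      rw [Algebra.TensorProduct.map_tmul, AlgHom.comp_apply, MvPolynomial.aeval_X, Sum.elim_inr, map_mul,
        MvPolynomial.aeval_X, Sum.elim_inr, MvPolynomial.aeval_C]
      rfl
    rw [hX, hW, Algebra.TensorProduct.map_tmul, map_one, AlgHom.id_apply] at h
    refine Eq.trans ?_ h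
    congr 2
    simp only [Finset.sum_mul, Algebra.TensorProduct.tmul_mul_tmul, mul_one, ← Algebra.smul_def, mul_smul_comm,
      TensorProduct.tmul_smul, TensorProduct.smul_tmul']
  have hu : IsUnit (algebraMap A (A' ⊗[A] B) ((m : A) * m₀)) := by
    rw [IsScalarTower.algebraMap_apply A A' (A' ⊗[A] B)]
    exact ((IsLocalization.map_units A' (⟨_, M.mul_mem m.2 hm₀⟩ : M))).map _
  refine (Ideal.unit_mul_mem_iff_mem _ hu).1 ?_
  have h2 := Ideal.mem_map_of_mem (Algebra.TensorProduct.includeRight : B →ₐ[A] A' ⊗[A] B) hker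
  rw [map_mul, AlgHom.commutes, Algebra.TensorProduct.includeRight_apply, ← hb, ← mul_assoc, ← map_mul] at h2
  exact h2

end Groth.Agent.ZC
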