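import Mathlib
import Groth.Agent.ZC.KerBCMem

/-!
# The kernel and separable base change
-/

open scoped TensorProduct

namespace Groth.Agent.ZC

universe u

variable {A : Type u} [CommRing A] {B : Type u} [CommRing B] [Algebra A B] {d : ℕ} (F : PolLaw.MulLaw A B A d)

theorem mem_ker_of_one_tmul_mem_kerBC {S : Type u} [CommRing S] [Algebra A S] [Module.FaithfullyFlat A S] {b : B}
    (h : (1 : S) ⊗ₜ[A] b ∈ PolLaw.kerBC F.law S) : b ∈ PolLaw.ker F.law := by
  refine mem_ker_of_norm F fun n x w => ?_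
  let R := MvPolynomial (Fin n) A
  let Φ : R →ₐ[A] S ⊗[A] R := Algebra.TensorProduct.includeRight
  have hΦ : Function.Injective Φ := Module.FaithfullyFlat.tensorProduct_mk_injective (A := A) (B := S) R
  apply hΦ
  rw [norm_map', norm_map', map_add, map_mul, toAlgHom_eq (AlgHom.comp _ _)]
  have h2 := norm_eq_of_mem_kerBC F h (Algebra.TensorProduct.includeLeft : S →ₐ[A] S ⊗[A] R)
    (Algebra.ofId A (S ⊗[A] R)) (Algebra.TensorProduct.map Φ (AlgHom.id A B) x)
    (Algebra.TensorProduct.map Φ (AlgHom.id A B) w)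
  simpa [← Algebra.TensorProduct.one_def] using h2

theorem exists_roots_of_separable [Nontrivial A] {g : Polynomial A} (hg : g.Monic) (hsep : g.Separable) :
    ∃ (S : Type u) (_ : CommRing S) (_ : Algebra A S) (_ : Module.FaithfullyFlat A S)
      (α : Fin g.natDegree → S), (∀ k, Polynomial.aeval (α k) g = 0) ∧ IsUnit (Matrix.vandermonde α).det := by
  obtain ⟨S, _, _, _, _, _, hS⟩ := hg.exists_splits_map
  obtain ⟨m, hm⟩ := Polynomial.splits_iff_exists_multiset'.1 hS
  have hgm := hg.map (algebraMap A S)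
  rw [hgm.leadingCoeff, map_one, one_mul] at hm
  obtain ⟨l, rfl⟩ : ∃ l : List S, (↑l : Multiset S) = m := Quot.exists_rep m
  have hprod : g.map (algebraMap A S) = ∏ i : Fin l.length, (Polynomial.X - Polynomial.C (-l.get i)) := by
    rw [hm]
    simp only [map_neg, sub_neg_eq_add]
    rw [Multiset.map_coe, Multiset.prod_coe]
    conv_lhs => rw [← List.ofFn_getElem (xs := l)]
    rw [List.map_ofFn, List.prod_ofFn]
    rfl
  have hlen : g.natDegree = l.length := by
    have := congrArg Polynomial.natDegree hprod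
    rw [hg.natDegree_map, Polynomial.natDegree_prod_of_monic _ _ fun i _ => Polynomial.monic_X_sub_C _] at this
    simpa using this
  refine ⟨S, inferInstance, inferInstance, inferInstance, fun k => -l.get (Fin.cast hlen k), fun k => ?_, ?_⟩
  · rw [Polynomial.aeval_def, ← Polynomial.eval_map, hprod, Polynomial.eval_prod]
    exact Finset.prod_eq_zero (Finset.mem_univ (Fin.cast hlen k)) (by simp)
  · rw [Matrix.det_vandermonde]
    refine IsUnit.prod_iff.2 fun i _ => IsUnit.prod_iff.2 fun j hj => ?_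
    by_contra hu
    obtain ⟨P, hP, hmem⟩ := exists_max_ideal_of_mem_nonunits hu
    let π := Ideal.Quotient.mk P
    have : Nontrivial (S ⧸ P) := Ideal.Quotient.nontrivial_iff.2 hP.ne_top
    have hs : (∏ i : Fin l.length, (Polynomial.X - Polynomial.C (π (-l.get i)))).Separable := by
      have := (hsep.map (f := algebraMap A S)).map (f := π)
      rw [hprod] at this
      simpa [Polynomial.map_prod] using this
    have := hs.injective_of_prod_X_sub_C (Ideal.Quotient.mk_eq_mk_iff_sub_mem (I := P) _ _ |>.2 hmem)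
    exact (Finset.mem_Ioi.1 hj).ne' (Fin.cast_injective hlen this)

/-- The kernel commutes with separable monogenic base change. -/
theorem map_ker_eq_kerBC_adjoinRoot (g : Polynomial A) (hg : g.Monic) (hsep : g.Separable) :
    (PolLaw.ker F.law).map (Algebra.TensorProduct.includeRight : B →ₐ[A] AdjoinRoot g ⊗[A] B) =
      PolLaw.kerBC F.law (AdjoinRoot g) := by
  refine le_antisymm (map_ker_le_kerBC F _) fun z hz => ?_
  rcases subsingleton_or_nontrivial A with hA | hA
  · have : Subsingleton (AdjoinRoot g ⊗[A] B) := Module.subsingleton A _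
    rw [Subsingleton.elim z 0]
    exact Submodule.zero_mem _
  let e : Module.Basis (Fin g.natDegree) A (AdjoinRoot g) := (AdjoinRoot.powerBasis' hg).basis
  have he : ∀ i, e i = AdjoinRoot.root g ^ (i : ℕ) := fun i => (AdjoinRoot.powerBasis' hg).basis_eq_pow i
  let c := TensorProduct.equivFinsuppOfBasisLeft e z
  have hzc : z = ∑ i : Fin g.natDegree, e i ⊗ₜ[A] c i := by
    conv_lhs => rw [← (TensorProduct.equivFinsuppOfBasisLeft e).symm_apply_apply z,
      TensorProduct.equivFinsuppOfBasisLeft_symm_apply, Finsupp.sum_fintype _ _ (by simp)]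
  obtain ⟨S, _, _, _, α, hα, hV⟩ := exists_roots_of_separable hg hsep
  have hI : ∀ k, ∑ i : Fin g.natDegree, algebraMap S (S ⊗[A] B) (α k ^ (i : ℕ)) * ((1 : S) ⊗ₜ[A] c i) ∈
      PolLaw.kerBC F.law S := fun k => by
    let σ : AdjoinRoot g →ₐ[A] S := AdjoinRoot.liftAlgHom g (Algebra.ofId A S) (α k) (by
      exact hα k)
    have h := map_mem_kerBC F σ hz
    rw [hzc, map_sum] at h
    convert h using 2
    rename_i i
    rw [Algebra.TensorProduct.map_tmul, he, AlgHom.id_apply, map_pow σ]
    simp [σ, Algebra.TensorProduct.algebraMap_apply]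
  rw [hzc]
  refine Ideal.sum_mem _ fun i _ => ?_
  have hc : c i ∈ PolLaw.ker F.law := by
    refine mem_ker_of_one_tmul_mem_kerBC F (S := S) ?_
    let V := Matrix.vandermonde α
    have hid : (1 : S) ⊗ₜ[A] c i = ∑ k, algebraMap S (S ⊗[A] B) (V⁻¹ i k) *
        ∑ j : Fin g.natDegree, algebraMap S (S ⊗[A] B) (α k ^ (j : ℕ)) * ((1 : S) ⊗ₜ[A] c j) := by
      simp_rw [Finset.mul_sum, ← mul_assoc, ← map_mul]
      rw [Finset.sum_comm]
      simp_rw [← Finset.sum_mul, ← map_sum]
      have hVi : ∀ j : Fin g.natDegree, ∑ k, V⁻¹ i k * α k ^ (j : ℕ) = (1 : Matrix _ _ S) i j := fun j => by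
        rw [← Matrix.nonsing_inv_mul V hV, Matrix.mul_apply]
        rfl
      rw [Finset.sum_eq_single i]
      · rw [hVi]; simp
      · intro j _ hne; rw [hVi, Matrix.one_apply_ne hne.symm, map_zero, zero_mul]
      · simp
    rw [hid]
    exact Ideal.sum_mem _ fun k _ => Ideal.mul_mem_left _ _ (hI k)
  rw [show e i ⊗ₜ[A] c i = (e i ⊗ₜ[A] (1 : B)) *
    (Algebra.TensorProduct.includeRight : B →ₐ[A] AdjoinRoot g ⊗[A] B) (c i) by simp]
  exact Ideal.mul_mem_left _ _ (Ideal.mem_map_of_mem _ hc)

end Groth.Agent.ZC
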