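import Mathlib
import Groth.Agent.ZC.KerBCMem

/-!
# The differential of the norm and the kernel in characteristic zero
-/

open scoped TensorProduct

namespace Groth.Agent.ZC

universe u

variable {A : Type u} [CommRing A] {B : Type u} [CommRing B] [Algebra A B] {d : ℕ}

theorem derivative_aeval {σ : Type} [Fintype σ] {R : Type u} [CommRing R] [Algebra A R]
    (v : σ → Polynomial R) (p : MvPolynomial σ A) :
    Polynomial.derivative (MvPolynomial.aeval v p) =
      ∑ i, Polynomial.derivative (v i) * MvPolynomial.aeval v (MvPolynomial.pderiv i p) := by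
  classical
  induction p using MvPolynomial.induction_on with
  | C a => simp [IsScalarTower.algebraMap_apply A R (Polynomial R)]
  | add p q hp hq => simp [hp, hq, mul_add, Finset.sum_add_distrib]
  | mul_X p j hp =>
    simp only [map_mul, Polynomial.derivative_mul, hp, MvPolynomial.pderiv_mul, map_add, MvPolynomial.aeval_X,
      mul_add, Finset.sum_add_distrib, Finset.sum_mul, MvPolynomial.pderiv_X]
    congr 1
    · exact Finset.sum_congr rfl fun i _ => by ring
    · rw [Finset.sum_eq_single j]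
      · simp [mul_comm]
      · intro i _ hne; simp [hne.symm]
      · simp

variable (F : PolLaw.MulLaw A B A d) {R : Type u} [CommRing R] [Algebra A R]

/-- The differential of the norm at `x` in direction `y`. -/
noncomputable def dnorm (x y : R ⊗[A] B) : R :=
  (Polynomial.derivative (norm F (Algebra.ofId A (Polynomial R))
    (incC x + (Polynomial.X ⊗ₜ[A] (1 : B)) * incC y))).eval 0

theorem norm_sum_eq_aeval {r : ℕ} (g : Fin r → B) (s : Fin r → R) :
    norm F (Algebra.ofId A R) (∑ i, s i ⊗ₜ[A] g i) = MvPolynomial.aeval s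
      (norm F (Algebra.ofId A (MvPolynomial (Fin r) A)) (∑ i, MvPolynomial.X i ⊗ₜ[A] g i)) := by
  rw [norm_map', toAlgHom_eq (AlgHom.comp _ _), map_sum]
  simp

theorem norm_line {r : ℕ} (g : Fin r → B) (s t : Fin r → R) :
    norm F (Algebra.ofId A (Polynomial R))
      (incC (∑ i, s i ⊗ₜ[A] g i) + (Polynomial.X ⊗ₜ[A] (1 : B)) * incC (∑ i, t i ⊗ₜ[A] g i)) =
    MvPolynomial.aeval (fun i => Polynomial.C (s i) + Polynomial.X * Polynomial.C (t i))
      (norm F (Algebra.ofId A (MvPolynomial (Fin r) A)) (∑ i, MvPolynomial.X i ⊗ₜ[A] g i)) := by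
  rw [← norm_sum_eq_aeval]
  congr 1
  simp [incC, map_sum, Finset.mul_sum, ← Finset.sum_add_distrib, TensorProduct.add_tmul, Polynomial.CAlgHom]

theorem dnorm_eq {r : ℕ} (g : Fin r → B) (s t : Fin r → R) :
    dnorm F (∑ i, s i ⊗ₜ[A] g i) (∑ i, t i ⊗ₜ[A] g i) = ∑ i, t i * MvPolynomial.aeval s
      (MvPolynomial.pderiv i (norm F (Algebra.ofId A (MvPolynomial (Fin r) A)) (∑ i, MvPolynomial.X i ⊗ₜ[A] g i))) := by
  rw [dnorm, norm_line, derivative_aeval, Polynomial.eval_finset_sum]
  refine Finset.sum_congr rfl fun i _ => ?_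
  rw [Polynomial.eval_mul]
  congr 1
  · simp
  · rw [← Polynomial.coe_evalRingHom]
    show ((Polynomial.aeval (0 : R)).restrictScalars A) (MvPolynomial.aeval _ _) = _
    rw [← AlgHom.comp_apply, MvPolynomial.comp_aeval]
    congr 2
    funext j
    simp

variable [Module.Finite A B]

theorem dnorm_add (x y y' : R ⊗[A] B) : dnorm F x (y + y') = dnorm F x y + dnorm F x y' := by
  obtain ⟨r, g, hg⟩ := Module.Finite.exists_fin (R := A) (M := B)
  obtain ⟨s, rfl⟩ := exists_coords hg x
  obtain ⟨t, rfl⟩ := exists_coords hg y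
  obtain ⟨t', rfl⟩ := exists_coords hg y'
  rw [← Finset.sum_add_distrib]
  simp only [← TensorProduct.add_tmul, dnorm_eq, add_mul, Finset.sum_add_distrib]

theorem dnorm_smul (c : R) (x y : R ⊗[A] B) : dnorm F x (c • y) = c * dnorm F x y := by
  obtain ⟨r, g, hg⟩ := Module.Finite.exists_fin (R := A) (M := B)
  obtain ⟨s, rfl⟩ := exists_coords hg x
  obtain ⟨t, rfl⟩ := exists_coords hg y
  simp only [Finset.smul_sum, TensorProduct.smul_tmul', smul_eq_mul, dnorm_eq, Finset.mul_sum, mul_assoc]

theorem map_dnorm {R' : Type u} [CommRing R'] [Algebra A R'] (Φ : R →ₐ[A] R') (x y : R ⊗[A] B) :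
    Φ (dnorm F x y) = dnorm F (Algebra.TensorProduct.map Φ (AlgHom.id A B) x)
      (Algebra.TensorProduct.map Φ (AlgHom.id A B) y) := by
  obtain ⟨r, g, hg⟩ := Module.Finite.exists_fin (R := A) (M := B)
  obtain ⟨s, rfl⟩ := exists_coords hg x
  obtain ⟨t, rfl⟩ := exists_coords hg y
  simp only [map_sum, Algebra.TensorProduct.map_tmul, AlgHom.id_apply, dnorm_eq, map_mul]
  refine Finset.sum_congr rfl fun i _ => ?_
  rw [← AlgHom.comp_apply, MvPolynomial.comp_aeval]

/-- In characteristic zero the norm is constant on lines along which its differential vanishes. -/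
theorem norm_add_eq_of_dnorm [Algebra ℚ R] (x y : R ⊗[A] B)
    (h : dnorm F (incC x + (Polynomial.X ⊗ₜ[A] (1 : B)) * incC y) (incC y) = 0) :
    norm F (Algebra.ofId A R) (x + y) = norm F (Algebra.ofId A R) x := by
  obtain ⟨r, g, hg⟩ := Module.Finite.exists_fin (R := A) (M := B)
  obtain ⟨s, hs⟩ := exists_coords hg x
  obtain ⟨t, ht⟩ := exists_coords hg y
  let v : Fin r → Polynomial R := fun i => Polynomial.C (s i) + Polynomial.X * Polynomial.C (t i)
  let q : Polynomial R := norm F (Algebra.ofId A (Polynomial R)) (incC x + (Polynomial.X ⊗ₜ[A] (1 : B)) * incC y)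
  have hq : Polynomial.derivative q = 0 := by
    have hline : incC x + (Polynomial.X ⊗ₜ[A] (1 : B)) * incC y = ∑ i, v i ⊗ₜ[A] g i := by
      simp [v, hs, ht, incC, map_sum, Finset.mul_sum, ← Finset.sum_add_distrib, TensorProduct.add_tmul,
        Polynomial.CAlgHom]
    have hdir : incC y = ∑ i, Polynomial.C (t i) ⊗ₜ[A] g i := by
      simp [ht, incC, Polynomial.CAlgHom]
    rw [hline, hdir, dnorm_eq] at h
    rw [← h]
    simp only [q, hs, ht, norm_line, derivative_aeval, v]
    exact Finset.sum_congr rfl fun i _ => by simp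
  have hconst : q = Polynomial.C (q.coeff 0) := by
    refine Polynomial.ext fun k => ?_
    rcases k with _ | k
    · simp
    · have h0 := congrArg (fun p => Polynomial.coeff p k) hq
      simp only [Polynomial.coeff_derivative, Polynomial.coeff_zero] at h0
      rw [Polynomial.coeff_C, if_neg (Nat.succ_ne_zero k)]
      have hu : IsUnit ((k : R) + 1) := by
        have := (Nat.cast_add_one_ne_zero (R := ℚ) k).isUnit.map (algebraMap ℚ R)
        simpa using this
      exact hu.mul_left_eq_zero.1 h0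
  have h01 : q.eval 1 = q.eval 0 := by rw [hconst]; simp
  have hev : ∀ a : R, q.eval a = norm F (Algebra.ofId A R) (x + (a ⊗ₜ[A] (1 : B)) * y) := fun a => by
    show Polynomial.eval a (norm F (Algebra.ofId A (Polynomial R)) _) = _
    rw [toAlgHom_eq (Algebra.ofId A (Polynomial R)), ← toAlgHom_eq (Polynomial.CAlgHom.comp (Algebra.ofId A R)),
      eval_norm, map_add, map_mul, map_eval_incC, map_eval_incC]
    simp
  rw [hev, hev] at h01
  simpa [← Algebra.TensorProduct.one_def] using h01

/-- The linear form cutting out the kernel in characteristic zero. -/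
theorem exists_linear_kerBC [Algebra ℚ A] :
    ∃ (P : Type u) (_ : AddCommGroup P) (_ : Module A P) (L : B →ₗ[A] P),
      (∀ b, L b = 0 → b ∈ PolLaw.ker F.law) ∧
      ∀ (A' : Type u) [CommRing A'] [Algebra A A'] (z : A' ⊗[A] B),
        z ∈ PolLaw.kerBC F.law A' → L.lTensor A' z = 0 := by
  classical
  obtain ⟨r, g, hg⟩ := Module.Finite.exists_fin (R := A) (M := B)
  let P := MvPolynomial (Fin r ⊕ Fin r) A
  let x₀ : P ⊗[A] B := ∑ i, MvPolynomial.X (Sum.inl i) ⊗ₜ[A] g i
  let w₀ : P ⊗[A] B := ∑ i, MvPolynomial.X (Sum.inr i) ⊗ₜ[A] g i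
  let L : B →ₗ[A] P :=
    { toFun := fun b => dnorm F x₀ (w₀ * ((1 : P) ⊗ₜ[A] b))
      map_add' := fun b b' => by rw [TensorProduct.tmul_add, mul_add, dnorm_add]
      map_smul' := fun a b => by
        rw [TensorProduct.tmul_smul, mul_smul_comm, ← algebraMap_smul P a (w₀ * _), dnorm_smul, RingHom.id_apply,
          Algebra.smul_def] }
  refine ⟨P, inferInstance, inferInstance, L, fun b hb => mem_ker_of_norm F fun n x w => ?_, fun A' _ _ z hz => ?_⟩
  · let : Algebra ℚ (MvPolynomial (Fin n) A) :=
      ((algebraMap A (MvPolynomial (Fin n) A)).comp (algebraMap ℚ A)).toAlgebra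
    rw [toAlgHom_eq (IsScalarTower.toAlgHom A A (MvPolynomial (Fin n) A))]
    refine norm_add_eq_of_dnorm F _ _ ?_
    obtain ⟨s, hs⟩ := exists_coords hg (incC x + (Polynomial.X ⊗ₜ[A] (1 : B)) * incC (w * ((1 : MvPolynomial (Fin n) A) ⊗ₜ[A] b)))
    obtain ⟨t, ht⟩ := exists_coords hg (incC w)
    have h := congrArg (MvPolynomial.aeval (Sum.elim s t) : P →ₐ[A] Polynomial (MvPolynomial (Fin n) A)) hb
    simp only [L, LinearMap.coe_mk, AddHom.coe_mk, map_dnorm, map_zero, map_mul, Algebra.TensorProduct.map_tmul,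
      map_one, AlgHom.id_apply, x₀, w₀, map_sum, MvPolynomial.aeval_X, Sum.elim_inl, Sum.elim_inr, ← hs, ← ht] at h
    rw [map_mul]
    convert h using 3
    simp [incC]
  · let P' := MvPolynomial (Fin r ⊕ Fin r) A'
    let j : P →ₐ[A] P' := MvPolynomial.mapAlgHom (Algebra.ofId A A')
    let x₁ := Algebra.TensorProduct.map j (AlgHom.id A B) x₀
    let w₁ := Algebra.TensorProduct.map j (AlgHom.id A B) w₀
    let incA : A' →ₐ[A] P' := IsScalarTower.toAlgHom A A' P'
    have hz0 : dnorm F x₁ (w₁ * Algebra.TensorProduct.map incA (AlgHom.id A B) z) = 0 := by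
      have h := norm_eq_of_mem_kerBC F hz (Polynomial.CAlgHom.comp incA) (Algebra.ofId A (Polynomial P'))
        (incC x₁) ((Polynomial.X ⊗ₜ[A] (1 : B)) * incC w₁)
      rw [← map_map, ← incC, mul_assoc, ← map_mul] at h
      rw [dnorm, h, toAlgHom_eq (Algebra.ofId A (Polynomial P')),
        ← toAlgHom_eq (Polynomial.CAlgHom.comp (Algebra.ofId A P')), norm_incC]
      simp
    let e := MvPolynomial.algebraTensorAlgEquiv A (σ := Fin r ⊕ Fin r) A'
    have hL : ∀ z : A' ⊗[A] B, e (L.lTensor A' z) =
        dnorm F x₁ (w₁ * Algebra.TensorProduct.map incA (AlgHom.id A B) z) := fun z => by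
      induction z using TensorProduct.induction_on with
      | zero =>
        rw [map_zero, map_zero, map_zero, mul_zero, ← zero_smul P' (1 : P' ⊗[A] B), dnorm_smul, zero_mul]
      | add x y hx hy => rw [map_add, map_add, map_add, mul_add, hx, hy, dnorm_add]
      | tmul a b =>
        rw [LinearMap.lTensor_tmul, MvPolynomial.algebraTensorAlgEquiv_tmul, Algebra.TensorProduct.map_tmul,
          AlgHom.id_apply, show incA a ⊗ₜ[A] b = incA a • ((1 : P') ⊗ₜ[A] b) by
            rw [TensorProduct.smul_tmul', smul_eq_mul, mul_one], mul_smul_comm, dnorm_smul, Algebra.smul_def]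
        congr 1
        show j (L b) = _
        simp only [L, LinearMap.coe_mk, AddHom.coe_mk, map_dnorm, map_mul, Algebra.TensorProduct.map_tmul, map_one,
          AlgHom.id_apply]
        rfl
    exact e.injective (by rw [hL, hz0, map_zero])

/-- In characteristic zero the kernel commutes with flat base change. -/
theorem map_ker_eq_kerBC_flat [Algebra ℚ A] (A' : Type u) [CommRing A'] [Algebra A A'] [Module.Flat A A'] :
    (PolLaw.ker F.law).map (Algebra.TensorProduct.includeRight : B →ₐ[A] A' ⊗[A] B) = PolLaw.kerBC F.law A' := by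
  refine le_antisymm (map_ker_le_kerBC F A') fun z hz => ?_
  obtain ⟨P, _, _, L, hL, hL'⟩ := exists_linear_kerBC F
  obtain ⟨y, rfl⟩ := (Module.Flat.lTensor_exact A' L.exact_subtype_ker_map z).1 (hL' A' z hz)
  clear hz
  induction y using TensorProduct.induction_on with
  | zero => simp
  | add a b ha hb => rw [map_add]; exact Ideal.add_mem _ ha hb
  | tmul a b =>
    rw [LinearMap.lTensor_tmul, Submodule.subtype_apply, show a ⊗ₜ[A] (b : B) = (a ⊗ₜ[A] (1 : B)) *
      (Algebra.TensorProduct.includeRight : B →ₐ[A] A' ⊗[A] B) b by simp]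
    exact Ideal.mul_mem_left _ _ (Ideal.mem_map_of_mem _ (hL b b.2))

end Groth.Agent.ZC
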