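import Mathlib
import Groth.Agent.ZC.FiniteType

/-!
# Symmetric tensors of a polynomial ring as invariant polynomials
-/

open scoped TensorProduct

namespace Groth.Agent.ZC

universe u

variable {A : Type u} [CommRing A] {d n : ℕ}

/-- `T^d` of a polynomial ring into a polynomial ring in `d × n` variables. -/
noncomputable def polyPow (A : Type u) [CommRing A] (d n : ℕ) :
    (⨂[A] _ : Fin d, MvPolynomial (Fin n) A) →ₐ[A] MvPolynomial (Fin d × Fin n) A :=
  PiTensorProduct.liftAlgHom
    ((MultilinearMap.mkPiAlgebra A (Fin d) (MvPolynomial (Fin d × Fin n) A)).compLinearMap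
      fun j => (MvPolynomial.rename (Prod.mk j)).toLinearMap)
    (by simp) (by intro x y; simp [Finset.prod_mul_distrib])

theorem polyPow_tprod (x : Fin d → MvPolynomial (Fin n) A) :
    polyPow A d n (PiTensorProduct.tprod A x) = ∏ j, MvPolynomial.rename (Prod.mk j) (x j) := by
  refine (PiTensorProduct.lift.tprod _).trans ?_
  simp

theorem polyPow_single (j : Fin d) (p : MvPolynomial (Fin n) A) :
    polyPow A d n (PiTensorProduct.singleAlgHom (A := fun _ : Fin d => MvPolynomial (Fin n) A) j p) =
      MvPolynomial.rename (Prod.mk j) p := by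
  rw [PiTensorProduct.singleAlgHom_apply, MonoidHom.mulSingle_apply, polyPow_tprod, Finset.prod_eq_single j]
  · simp
  · intro i _ hne; simp [hne]
  · simp

/-- The inverse of `polyPow`. -/
noncomputable def polySplit (A : Type u) [CommRing A] (d n : ℕ) :
    MvPolynomial (Fin d × Fin n) A →ₐ[A] (⨂[A] _ : Fin d, MvPolynomial (Fin n) A) :=
  MvPolynomial.aeval fun p =>
    PiTensorProduct.singleAlgHom (A := fun _ : Fin d => MvPolynomial (Fin n) A) p.1 (MvPolynomial.X p.2)

theorem polySplit_polyPow (t : ⨂[A] _ : Fin d, MvPolynomial (Fin n) A) : polySplit A d n (polyPow A d n t) = t := by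
  induction t using PiTensorProduct.induction_on with
  | add x y hx hy => rw [map_add, map_add, hx, hy]
  | smul_tprod r x =>
    rw [map_smul, map_smul, polyPow_tprod, map_prod]
    congr 1
    have h : ∀ j, (polySplit A d n).comp (MvPolynomial.rename (Prod.mk j)) =
        PiTensorProduct.singleAlgHom (A := fun _ : Fin d => MvPolynomial (Fin n) A) j := fun j =>
      MvPolynomial.algHom_ext fun i => by simp [polySplit]
    simp only [← AlgHom.comp_apply, h, PiTensorProduct.singleAlgHom_apply, MonoidHom.mulSingle_apply]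
    rw [← PiTensorProduct.tprod_prod]
    exact congrArg _ (Finset.univ_prod_mulSingle x)

theorem polyPow_polySplit (p : MvPolynomial (Fin d × Fin n) A) : polyPow A d n (polySplit A d n p) = p := by
  rw [← AlgHom.comp_apply]
  conv_rhs => rw [← AlgHom.id_apply (R := A) p]
  congr 1
  exact MvPolynomial.algHom_ext fun q => by
    simp only [polySplit, AlgHom.comp_apply, MvPolynomial.aeval_X, polyPow_single, MvPolynomial.rename_X, AlgHom.id_apply]

/-- The permutation action on the variables. -/
noncomputable def permVar (A : Type u) [CommRing A] (n : ℕ) {d : ℕ} (σ : Equiv.Perm (Fin d)) :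
    MvPolynomial (Fin d × Fin n) A →ₐ[A] MvPolynomial (Fin d × Fin n) A :=
  MvPolynomial.rename (Prod.map σ id)

theorem polyPow_perm (σ : Equiv.Perm (Fin d)) (t : ⨂[A] _ : Fin d, MvPolynomial (Fin n) A) :
    polyPow A d n (SymTen.perm A (MvPolynomial (Fin n) A) d σ t) = permVar A n σ (polyPow A d n t) := by
  induction t using PiTensorProduct.induction_on with
  | add x y hx hy => simp only [map_add, hx, hy]
  | smul_tprod r x =>
    rw [map_smul, map_smul, map_smul, map_smul, SymTen.perm_tprod, polyPow_tprod, polyPow_tprod, map_prod]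
    congr 1
    refine (Equiv.prod_comp σ fun j => MvPolynomial.rename (Prod.mk j) (x (σ.symm j))).symm.trans ?_
    refine Finset.prod_congr rfl fun j _ => ?_
    rw [permVar, MvPolynomial.rename_rename, σ.symm_apply_apply]
    rfl

variable (A d n) in
/-- The invariant polynomials. -/
noncomputable def invPoly : Subalgebra A (MvPolynomial (Fin d × Fin n) A) :=
  ⨅ σ : Equiv.Perm (Fin d), AlgHom.equalizer (permVar A n σ) (AlgHom.id A _)

theorem mem_invPoly {p : MvPolynomial (Fin d × Fin n) A} :
    p ∈ invPoly A d n ↔ ∀ σ : Equiv.Perm (Fin d), permVar A n σ p = p := by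
  simp [invPoly, Algebra.mem_iInf]

/-- Symmetric tensors are the invariant polynomials. -/
noncomputable def tsEquiv (A : Type u) [CommRing A] (d n : ℕ) :
    SymTen.TS A (MvPolynomial (Fin n) A) d ≃ₐ[A] invPoly A d n :=
  AlgEquiv.ofAlgHom
    (((polyPow A d n).comp (SymTen.TS A (MvPolynomial (Fin n) A) d).val).codRestrict (invPoly A d n) fun t =>
      mem_invPoly.2 fun σ => by
        rw [AlgHom.comp_apply, Subalgebra.coe_val, ← polyPow_perm, SymTen.perm_apply, t.2 σ])
    (((polySplit A d n).comp (invPoly A d n).val).codRestrict (SymTen.TS A (MvPolynomial (Fin n) A) d) fun p σ => by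
      rw [AlgHom.comp_apply, Subalgebra.coe_val, ← SymTen.perm_apply]
      conv_lhs => rw [← polySplit_polyPow (SymTen.perm A _ d σ _), polyPow_perm, polyPow_polySplit,
        mem_invPoly.1 p.2 σ])
    (AlgHom.ext fun p => Subtype.ext (polyPow_polySplit _))
    (AlgHom.ext fun t => Subtype.ext (polySplit_polyPow _))

theorem coe_tsEquiv (t : SymTen.TS A (MvPolynomial (Fin n) A) d) :
    (tsEquiv A d n t : MvPolynomial (Fin d × Fin n) A) = polyPow A d n t := rfl

section BaseChange

variable (A₀ : Type u) [CommRing A₀] [Algebra A₀ A]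

theorem map_invPoly {p : MvPolynomial (Fin d × Fin n) A₀} (hp : p ∈ invPoly A₀ d n) :
    MvPolynomial.map (algebraMap A₀ A) p ∈ invPoly A d n := mem_invPoly.2 fun σ => by
  rw [permVar, ← MvPolynomial.map_rename]
  exact congrArg _ (mem_invPoly.1 hp σ)

/-- Extension of coefficients on invariants. -/
noncomputable def invMap : A ⊗[A₀] invPoly A₀ d n →ₐ[A] invPoly A d n :=
  Algebra.TensorProduct.lift (Algebra.ofId A _)
    { toFun := fun p => ⟨MvPolynomial.map (algebraMap A₀ A) p, map_invPoly A₀ p.2⟩
      map_one' := Subtype.ext (map_one _)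
      map_mul' := fun p q => Subtype.ext (map_mul _ (p : MvPolynomial (Fin d × Fin n) A₀) q)
      map_zero' := Subtype.ext (map_zero _)
      map_add' := fun p q => Subtype.ext (map_add _ (p : MvPolynomial (Fin d × Fin n) A₀) q)
      commutes' := fun a => Subtype.ext (by
        show MvPolynomial.map (algebraMap A₀ A) (MvPolynomial.C a) = _
        rw [MvPolynomial.map_C]
        rfl) }
    fun _ _ => Commute.all _ _

theorem coe_invMap_tmul (a : A) (p : invPoly A₀ d n) :
    ((invMap A₀ (a ⊗ₜ[A₀] p) : invPoly A d n) : MvPolynomial (Fin d × Fin n) A) =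
      MvPolynomial.C a * MvPolynomial.map (algebraMap A₀ A) p := by
  rw [invMap, Algebra.TensorProduct.lift_tmul]
  rfl

/-- The orbit of an exponent. -/
noncomputable def orbit (m : Fin d × Fin n →₀ ℕ) : Finset (Fin d × Fin n →₀ ℕ) :=
  Finset.univ.image fun σ : Equiv.Perm (Fin d) => m.mapDomain (Prod.map σ id)

theorem mem_orbit_self (m : Fin d × Fin n →₀ ℕ) : m ∈ orbit m :=
  Finset.mem_image.2 ⟨1, Finset.mem_univ _, by simp⟩

theorem orbit_mapDomain (σ : Equiv.Perm (Fin d)) (m : Fin d × Fin n →₀ ℕ) :
    orbit (m.mapDomain (Prod.map σ id)) = orbit m := by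
  ext k
  simp only [orbit, Finset.mem_image, Finset.mem_univ, true_and]
  constructor
  · rintro ⟨τ, rfl⟩
    exact ⟨τ * σ, by rw [← Finsupp.mapDomain_comp]; rfl⟩
  · rintro ⟨τ, rfl⟩
    refine ⟨τ * σ⁻¹, ?_⟩
    rw [← Finsupp.mapDomain_comp]
    congr 1
    funext x
    obtain ⟨a, b⟩ := x
    simp

theorem orbit_eq_of_mem {m k : Fin d × Fin n →₀ ℕ} (h : k ∈ orbit m) : orbit k = orbit m := by
  obtain ⟨σ, -, rfl⟩ := Finset.mem_image.1 h
  exact orbit_mapDomain σ m

/-- Orbit sums. -/
noncomputable def orbitSum (R : Type u) [CommRing R] (m : Fin d × Fin n →₀ ℕ) : invPoly R d n :=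
  ⟨∑ k ∈ orbit m, MvPolynomial.monomial k (1 : R), mem_invPoly.2 fun σ => by
    simp only [map_sum, permVar, MvPolynomial.rename_monomial]
    refine Finset.sum_nbij (fun k => k.mapDomain (Prod.map σ id)) (fun k hk => ?_) ?_ ?_ fun _ _ => rfl
    · rw [← orbit_eq_of_mem hk, ← orbit_mapDomain σ]
      exact mem_orbit_self _
    · exact (Finsupp.mapDomain_injective (σ.injective.prodMap Function.injective_id)).injOn
    · intro k hk
      refine ⟨k.mapDomain (Prod.map σ.symm id), ?_, ?_⟩
      · show _ ∈ orbit m
        rw [← orbit_eq_of_mem (Finset.mem_coe.1 hk), ← orbit_mapDomain σ.symm]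
        exact mem_orbit_self _
      · show Finsupp.mapDomain _ (Finsupp.mapDomain _ k) = k
        rw [← Finsupp.mapDomain_comp]
        conv_rhs => rw [← Finsupp.mapDomain_id (v := k)]
        congr 1
        funext x
        obtain ⟨a, b⟩ := x
        simp⟩

theorem coeff_orbitSum (R : Type u) [CommRing R] (m k : Fin d × Fin n →₀ ℕ) [Decidable (k ∈ orbit m)] :
    MvPolynomial.coeff k (orbitSum R m : MvPolynomial (Fin d × Fin n) R) = if k ∈ orbit m then 1 else 0 := by
  classical
  simp [orbitSum, MvPolynomial.coeff_sum, MvPolynomial.coeff_monomial]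

open Classical in
/-- A representative of each orbit. -/
noncomputable def orbitRep (m : Fin d × Fin n →₀ ℕ) : Fin d × Fin n →₀ ℕ :=
  (⟨m, mem_orbit_self m⟩ : (orbit m).Nonempty).choose

theorem orbitRep_mem (m : Fin d × Fin n →₀ ℕ) : orbitRep m ∈ orbit m := Exists.choose_spec _

theorem orbitRep_eq {m k : Fin d × Fin n →₀ ℕ} (h : orbit k = orbit m) : orbitRep k = orbitRep m := by
  simp only [orbitRep]
  congr 1
  simp only [h]

open Classical in
/-- An invariant is a combination of orbit sums. -/
theorem eq_sum_orbitSum (R : Type u) [CommRing R] (p : invPoly R d n) :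
    p = ∑ m ∈ (p : MvPolynomial (Fin d × Fin n) R).support.filter (fun m => orbitRep m = m),
      MvPolynomial.coeff m (p : MvPolynomial (Fin d × Fin n) R) • orbitSum R m := by
  have hinv : ∀ (m k : Fin d × Fin n →₀ ℕ), k ∈ orbit m →
      MvPolynomial.coeff k (p : MvPolynomial (Fin d × Fin n) R) = MvPolynomial.coeff m (p : MvPolynomial (Fin d × Fin n) R) :=
    fun m k hk => by
    obtain ⟨σ, -, rfl⟩ := Finset.mem_image.1 hk
    conv_lhs => rw [← mem_invPoly.1 p.2 σ, permVar]
    exact MvPolynomial.coeff_rename_mapDomain _ (σ.injective.prodMap Function.injective_id) _ _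
  refine Subtype.ext (MvPolynomial.ext _ _ fun k => ?_)
  rw [AddSubmonoidClass.coe_finsetSum, MvPolynomial.coeff_sum]
  simp only [SetLike.val_smul, MvPolynomial.coeff_smul, coeff_orbitSum, smul_eq_mul, mul_ite, mul_one, mul_zero]
  rw [Finset.sum_ite, Finset.sum_const_zero, add_zero]
  by_cases hk : MvPolynomial.coeff k (p : MvPolynomial (Fin d × Fin n) R) = 0
  · rw [hk]
    refine (Finset.sum_eq_zero fun m hm => ?_).symm
    simp only [Finset.mem_filter] at hm
    rw [← hinv m k hm.2, hk]
  · have hrep := orbit_eq_of_mem (orbitRep_mem k)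
    rw [Finset.sum_eq_single (orbitRep k)]
    · rw [hinv k _ (orbitRep_mem k)]
    · intro m hm hne
      simp only [Finset.mem_filter] at hm
      exact absurd (hm.1.2.symm.trans (orbitRep_eq (orbit_eq_of_mem hm.2).symm)) hne
    · intro hnot
      refine absurd ?_ hnot
      simp only [Finset.mem_filter, MvPolynomial.mem_support_iff, orbitRep_eq hrep, and_true]
      exact ⟨by rwa [hinv k _ (orbitRep_mem k)], hrep ▸ mem_orbit_self k⟩

theorem invMap_orbitSum (m : Fin d × Fin n →₀ ℕ) :
    invMap (A := A) A₀ ((1 : A) ⊗ₜ[A₀] orbitSum A₀ m) = orbitSum A m :=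
  Subtype.ext (by rw [coe_invMap_tmul, map_one, one_mul]; simp [orbitSum])

/-- Invariants commute with base change. -/
theorem invMap_bijective : Function.Bijective (invMap (A := A) (d := d) (n := n) A₀) := by
  classical
  refine ⟨?_, fun p => ⟨∑ m ∈ (p : MvPolynomial (Fin d × Fin n) A).support.filter (fun m => orbitRep m = m),
    MvPolynomial.coeff m (p : MvPolynomial (Fin d × Fin n) A) • ((1 : A) ⊗ₜ[A₀] orbitSum A₀ m), ?_⟩⟩
  · rw [injective_iff_map_eq_zero]
    intro z hz
    let V := Submodule.span A (Set.range fun m : {m : Fin d × Fin n →₀ ℕ // orbitRep m = m} =>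
      (1 : A) ⊗ₜ[A₀] orbitSum A₀ m.1)
    have hzV : z ∈ V := by
      clear hz
      induction z using TensorProduct.induction_on with
      | zero => exact zero_mem _
      | add x y hx hy => exact add_mem hx hy
      | tmul a p =>
        rw [eq_sum_orbitSum A₀ p, TensorProduct.tmul_sum]
        refine sum_mem fun m hm => ?_
        rw [TensorProduct.tmul_smul, ← algebraMap_smul A,
          show a ⊗ₜ[A₀] orbitSum A₀ m = a • ((1 : A) ⊗ₜ[A₀] orbitSum A₀ m) by
            rw [TensorProduct.smul_tmul', smul_eq_mul, mul_one]]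
        exact V.smul_mem _ (V.smul_mem _ (Submodule.subset_span ⟨⟨m, (Finset.mem_filter.1 hm).2⟩, rfl⟩))
    obtain ⟨c, rfl⟩ := Finsupp.mem_span_range_iff_exists_finsupp.1 hzV
    rw [map_finsuppSum] at hz
    simp only [map_smul, invMap_orbitSum] at hz
    refine Finset.sum_eq_zero fun m hm => ?_
    have h := congrArg (fun q : invPoly A d n => MvPolynomial.coeff m.1 (q : MvPolynomial (Fin d × Fin n) A)) hz
    simp only [Finsupp.sum, AddSubmonoidClass.coe_finsetSum, SetLike.val_smul, MvPolynomial.coeff_sum,
      MvPolynomial.coeff_smul, coeff_orbitSum, smul_eq_mul, ZeroMemClass.coe_zero, MvPolynomial.coeff_zero] at h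
    rw [Finset.sum_eq_single m] at h
    · rw [if_pos (mem_orbit_self _), mul_one] at h
      beta_reduce
      rw [h, zero_smul]
    · intro k _ hne
      rw [if_neg, mul_zero]
      intro hmem
      exact hne (Subtype.ext (k.2.symm.trans ((orbitRep_eq (orbit_eq_of_mem hmem)).symm.trans m.2)))
    · exact fun h => absurd hm h
  · rw [map_sum]
    simp only [map_smul, invMap_orbitSum]
    exact (eq_sum_orbitSum A p).symm

theorem finitePresentation_TS [IsNoetherianRing A₀] :
    Algebra.FinitePresentation A (SymTen.TS A (MvPolynomial (Fin n) A) d) := by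
  obtain ⟨τ, hτ⟩ := exists_tsLaw A₀ (MvPolynomial (Fin n) A₀) d
  have := finiteType_of_isGammaD (isGammaD_tsLaw (Or.inl inferInstance) hτ)
  have hft : Algebra.FiniteType A₀ (invPoly A₀ d n) := Algebra.FiniteType.equiv this (tsEquiv A₀ d n)
  have hfp : Algebra.FinitePresentation A₀ (invPoly A₀ d n) := Algebra.FinitePresentation.of_finiteType.1 hft
  have : Algebra.FinitePresentation A (A ⊗[A₀] invPoly A₀ d n) := inferInstance
  exact Algebra.FinitePresentation.equiv
    ((AlgEquiv.ofBijective (invMap A₀) (invMap_bijective A₀)).trans (tsEquiv A d n).symm)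

end BaseChange

end Groth.Agent.ZC
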