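import Mathlib
import Groth.Agent.ZC.SymPoly
import Groth.Agent.ZC.Symm

/-!
# Divided powers of a finitely presented algebra
-/

open scoped TensorProduct

namespace Groth.Agent.ZC

universe u

variable {A : Type u} [CommRing A] {d : ℕ}

theorem coeff_eq_zero_of_zero {M N : Type u} [AddCommGroup M] [Module A M] [AddCommGroup N] [Module A N]
    {ι : Type} [Fintype ι] (F : M →ₚₗ[A] N) (b : ι → M) {o : ι} (hb : b o = 0) {ν : ι →₀ ℕ} (hν : ν o ≠ 0) :
    coeff F b ν = 0 := by
  classical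
  let s : ι → MvPolynomial ι A := Function.update MvPolynomial.X o 0
  have hsum : (∑ i, s i ⊗ₜ[A] b i) = ∑ i, (MvPolynomial.X i : MvPolynomial ι A) ⊗ₜ[A] b i :=
    Finset.sum_congr rfl fun i _ => by
      rcases eq_or_ne i o with rfl | h
      · simp [hb]
      · simp [s, h]
  have hgen : gen F b = (coeff F b).sum fun μ c => MvPolynomial.aeval s (MvPolynomial.monomial μ (1 : A)) ⊗ₜ[A] c := by
    rw [gen, ← hsum, toFun_sum']
  rw [← app_lmon, app, hgen, map_finsuppSum, map_finsuppSum]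
  refine Finset.sum_eq_zero fun μ _ => ?_
  simp only [LinearMap.rTensor_tmul, TensorProduct.lid_tmul]
  rcases eq_or_ne (μ o) 0 with h | h
  · rw [MvPolynomial.aeval_monomial, map_one, one_mul, Finsupp.prod_fintype _ _ (fun i => pow_zero _),
      show (∏ i, s i ^ μ i) = MvPolynomial.monomial μ (1 : A) by
        rw [MvPolynomial.monomial_eq, map_one, one_mul, Finsupp.prod_fintype _ _ (fun i => pow_zero _)]
        refine Finset.prod_congr rfl fun i _ => ?_
        rcases eq_or_ne i o with rfl | hi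
        · rw [h, pow_zero, pow_zero]
        · simp [s, hi],
      lmon_monomial, if_neg (fun e => hν (by rw [← e, h])), zero_smul]
  · rw [MvPolynomial.aeval_monomial, map_one, one_mul, Finsupp.prod_fintype _ _ (fun i => pow_zero _),
      Finset.prod_eq_zero (Finset.mem_univ o) (by simp [s, zero_pow h]), map_zero, zero_smul]

variable (A₀ : Type u) [CommRing A₀] [Algebra A₀ A] {n : ℕ}

theorem polyPow_coeff_tpow {ι : Type} [Fintype ι] [DecidableEq ι] (b : ι → MvPolynomial (Fin n) A) (ν : ι →₀ ℕ) :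
    polyPow A d n (coeff (SymTen.tpowLaw A (MvPolynomial (Fin n) A) d).law b ν) =
      ∑ c : Fin d → ι, if mult c = ν then ∏ j, MvPolynomial.rename (Prod.mk j) (b (c j)) else 0 := by
  rw [coeff_tpow, map_sum]
  refine Finset.sum_congr rfl fun c _ => ?_
  split_ifs
  · exact polyPow_tprod _
  · exact map_zero _

theorem map_polyPow_coeff {ι : Type} [Fintype ι] (b : ι → MvPolynomial (Fin n) A₀) (ν : ι →₀ ℕ) :
    MvPolynomial.map (algebraMap A₀ A) (polyPow A₀ d n (coeff (SymTen.tpowLaw A₀ (MvPolynomial (Fin n) A₀) d).law b ν)) =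
      polyPow A d n (coeff (SymTen.tpowLaw A (MvPolynomial (Fin n) A) d).law
        (fun i => MvPolynomial.map (algebraMap A₀ A) (b i)) ν) := by
  classical
  rw [polyPow_coeff_tpow, polyPow_coeff_tpow, map_sum]
  refine Finset.sum_congr rfl fun c _ => ?_
  split_ifs
  · rw [map_prod]
    exact Finset.prod_congr rfl fun j _ => MvPolynomial.map_rename _ _ _
  · exact map_zero _

/-- The relations imposed on symmetric tensors by a family of polynomials. -/
def relSet {R : Type u} [CommRing R] {T : Type u} [CommRing T] [Algebra R T]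
    (τ : PolLaw.MulLaw R (MvPolynomial (Fin n) R) T d) {r : ℕ} (f : Fin r → MvPolynomial (Fin n) R) : Set T :=
  {t | ∃ (j : Fin r) (k l : ℕ) (m : Fin k → (Fin n →₀ ℕ)) (m' : Fin l → (Fin n →₀ ℕ)) (ν : Fin k ⊕ Fin l →₀ ℕ)
    (_ : ∃ o, ν (Sum.inr o) ≠ 0),
      coeff τ.law (Sum.elim (fun i => MvPolynomial.monomial (m i) 1) fun i => f j * MvPolynomial.monomial (m' i) 1) ν = t}

theorem exists_monomial_coords {R S : Type u} [CommRing R] [CommSemiring S] [Algebra R S]
    (x : S ⊗[R] MvPolynomial (Fin n) R) :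
    ∃ (k : ℕ) (s : Fin k → S) (m : Fin k → (Fin n →₀ ℕ)),
      x = ∑ i, s i ⊗ₜ[R] (MvPolynomial.monomial (m i) (1 : R)) := by
  let c := TensorProduct.equivFinsuppOfBasisRight (MvPolynomial.basisMonomials (Fin n) R) x
  have hx : x = c.sum fun m s => s ⊗ₜ[R] MvPolynomial.monomial m (1 : R) := by
    conv_lhs => rw [← (TensorProduct.equivFinsuppOfBasisRight (MvPolynomial.basisMonomials (Fin n) R)).symm_apply_apply x,
      TensorProduct.equivFinsuppOfBasisRight_symm_apply]
    simp [c]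
  let e := c.support.equivFin.symm
  refine ⟨c.support.card, fun i => c (e i), fun i => (e i : Fin n →₀ ℕ), ?_⟩
  rw [hx, Finsupp.sum, ← Finset.sum_coe_sort, ← Equiv.sum_comp e]

/-- The imposed polynomials lie in the kernel of the law modulo the relations. -/
theorem mem_ker_of_relSet {R : Type u} [CommRing R] {T : Type u} [CommRing T] [Algebra R T]
    (τ : PolLaw.MulLaw R (MvPolynomial (Fin n) R) T d) {r : ℕ} (f : Fin r → MvPolynomial (Fin n) R) (j : Fin r) :
    f j ∈ PolLaw.ker (τ.postcomp (Ideal.Quotient.mkₐ R (Ideal.span (relSet τ f)))).law := by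
  classical
  let mk := Ideal.Quotient.mkₐ R (Ideal.span (relSet τ f))
  intro S _ _ x w
  obtain ⟨k, s, m, rfl⟩ := exists_monomial_coords (n := n) x
  obtain ⟨l, t, m', rfl⟩ := exists_monomial_coords (n := n) w
  let b : Fin k ⊕ Fin l → MvPolynomial (Fin n) R :=
    Sum.elim (fun i => MvPolynomial.monomial (m i) 1) fun i => f j * MvPolynomial.monomial (m' i) 1
  have hplus : (∑ i, s i ⊗ₜ[R] MvPolynomial.monomial (m i) (1 : R)) +
      (∑ i, t i ⊗ₜ[R] MvPolynomial.monomial (m' i) (1 : R)) * ((1 : S) ⊗ₜ[R] f j) = ∑ o, Sum.elim s t o ⊗ₜ[R] b o := by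
    rw [Fintype.sum_sum_type, Finset.sum_mul]
    congr 1
    exact Finset.sum_congr rfl fun i _ => by simp [b, mul_comm]
  have hzero : (∑ i, s i ⊗ₜ[R] MvPolynomial.monomial (m i) (1 : R)) = ∑ o, Sum.elim s 0 o ⊗ₜ[R] b o := by
    rw [Fintype.sum_sum_type]
    simp [b]
  rw [hplus, hzero, toFun_sum', toFun_sum']
  refine Finset.sum_congr rfl fun ν _ => ?_
  beta_reduce
  by_cases hν : ∀ o, ν (Sum.inr o) = 0
  · congr 1
    rw [MvPolynomial.aeval_monomial, MvPolynomial.aeval_monomial, Finsupp.prod_fintype _ _ (fun i => pow_zero _),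
      Finsupp.prod_fintype _ _ (fun i => pow_zero _), Fintype.prod_sum_type, Fintype.prod_sum_type]
    simp [hν]
  · push Not at hν
    have h0 : coeff (τ.postcomp mk).law b ν = 0 := by
      rw [show (τ.postcomp mk).law = PolLaw.postcomp mk.toLinearMap τ.law from rfl, coeff_postcomp]
      show Ideal.Quotient.mk _ _ = 0
      exact Ideal.Quotient.eq_zero_iff_mem.2 (Ideal.subset_span ⟨j, k, l, m, m', ν, hν, rfl⟩)
    rw [show coeff (PolLaw.MulLaw.postcomp (Ideal.Quotient.mkₐ R (Ideal.span (relSet τ f))) τ).law b ν = 0 from h0,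
      TensorProduct.tmul_zero, TensorProduct.tmul_zero]

/-- A presentation of the divided powers of a quotient. -/
theorem exists_presentation {B C T : Type u} [CommRing B] [Algebra A B] [CommRing C] [Algebra A C] [CommRing T]
    [Algebra A T] {n r : ℕ} {γ : PolLaw.MulLaw A B C d} (hγ : PolLaw.IsGammaD γ)
    (τ : PolLaw.MulLaw A (MvPolynomial (Fin n) A) T d) (hτ' : PolLaw.IsGammaD τ)
    (π : MvPolynomial (Fin n) A →ₐ[A] B) (hπ : Function.Surjective π) (f : Fin r → MvPolynomial (Fin n) A)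
    (hf : Ideal.span (Set.range f) = RingHom.ker π.toRingHom) :
    ∃ φ : T →ₐ[A] C, Function.Surjective φ ∧ RingHom.ker φ.toRingHom = Ideal.span (relSet τ f) := by
  classical
  let J := Ideal.span (relSet τ f)
  let mk := Ideal.Quotient.mkₐ A J
  obtain ⟨φ, hφ, -⟩ := hτ' C (γ.precomp π)
  have hsurj : Function.Surjective φ := surjective_of_isGammaD hγ π hπ φ hφ
  have hfker : ∀ j, π (f j) = 0 := fun j => RingHom.mem_ker.1 (hf ▸ Ideal.subset_span ⟨j, rfl⟩ : f j ∈ RingHom.ker π.toRingHom)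
  have hle : RingHom.ker π ≤ PolLaw.ker (τ.postcomp (C' := T ⧸ J) mk).law := by
    show RingHom.ker π.toRingHom ≤ _
    rw [← hf]
    exact Submodule.span_le.2 (by rintro _ ⟨j, rfl⟩; exact mem_ker_of_relSet τ f j)
  obtain ⟨H, hH⟩ := exists_descend π hπ (τ.postcomp mk) hle
  obtain ⟨g, hg, -⟩ := hγ _ H
  have hgφ : g.comp φ = mk := algHom_ext hτ' (ext_coeff fun k b ν => by
    have h1 : coeff (τ.postcomp mk).law b ν = coeff (H.precomp π).law b ν := by rw [hH]
    have h2 : (H.precomp π).law = PolLaw.postcomp g.toLinearMap (γ.precomp π).law := by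
      show PolLaw.precomp H.law π.toLinearMap = _
      rw [← hg]
      rfl
    rw [coeff_postcomp, coeff_postcomp, AlgHom.toLinearMap_apply, AlgHom.toLinearMap_apply, AlgHom.comp_apply,
      ← AlgHom.toLinearMap_apply φ, ← coeff_postcomp, hφ, ← AlgHom.toLinearMap_apply g, ← coeff_postcomp,
      ← h2, ← h1, show (τ.postcomp mk).law = PolLaw.postcomp mk.toLinearMap τ.law from rfl, coeff_postcomp]
    rfl)
  have hkerφ : RingHom.ker φ.toRingHom = J := by
    refine le_antisymm (fun t ht => ?_) (Ideal.span_le.2 ?_)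
    · refine Ideal.Quotient.eq_zero_iff_mem.1 ?_
      show mk t = 0
      rw [← hgφ, AlgHom.comp_apply, show φ t = 0 from ht, map_zero]
    · rintro _ ⟨j, k, l, m, m', ν, ⟨o, ho⟩, rfl⟩
      show φ.toLinearMap _ = 0
      have hpre : ∀ b : Fin k ⊕ Fin l → MvPolynomial (Fin n) A,
          coeff (γ.precomp π).law b ν = coeff γ.law (fun i => π (b i)) ν := fun b => by
        rw [← app_lmon, ← app_lmon]
        exact app_precomp _ γ.law π.toLinearMap _
      rw [← coeff_postcomp, hφ, hpre]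
      exact coeff_eq_zero_of_zero γ.law _ (o := Sum.inr o) (by simp [hfker]) ho
  exact ⟨φ, hsurj, hkerφ⟩

/-- The relations are generated by finitely many. -/
theorem fg_span_relSet [IsNoetherianRing A₀] {n r : ℕ}
    (τ : PolLaw.MulLaw A (MvPolynomial (Fin n) A) (SymTen.TS A (MvPolynomial (Fin n) A) d) d)
    (hτ : τ.postcomp (SymTen.TS A (MvPolynomial (Fin n) A) d).val = SymTen.tpowLaw A (MvPolynomial (Fin n) A) d)
    (f : Fin r → MvPolynomial (Fin n) A) (f₀ : Fin r → MvPolynomial (Fin n) A₀)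
    (hf₀ : ∀ j, MvPolynomial.map (algebraMap A₀ A) (f₀ j) = f j) : (Ideal.span (relSet τ f)).FG := by
  classical
  obtain ⟨τ₀, hτ₀⟩ := exists_tsLaw A₀ (MvPolynomial (Fin n) A₀) d
  have hnoeth : IsNoetherianRing (invPoly A₀ d n) := by
    have : Algebra.FiniteType A₀ (invPoly A₀ d n) :=
      Algebra.FiniteType.equiv (finiteType_of_isGammaD (isGammaD_tsLaw (Or.inl inferInstance) hτ₀)) (tsEquiv A₀ d n)
    exact Algebra.FiniteType.isNoetherianRing A₀ _
  let η : invPoly A₀ d n →+* SymTen.TS A (MvPolynomial (Fin n) A) d :=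
    ((tsEquiv A d n).symm.toAlgHom.toRingHom).comp
      ((invMap (A := A) A₀).toRingHom.comp Algebra.TensorProduct.includeRight.toRingHom)
  let G₀ : Set (invPoly A₀ d n) := tsEquiv A₀ d n '' relSet τ₀ f₀
  have hrel : η '' G₀ = relSet τ f := by
    have hcoe : ∀ {R : Type u} [CommRing R] (σ : PolLaw.MulLaw R (MvPolynomial (Fin n) R) (SymTen.TS R (MvPolynomial (Fin n) R) d) d),
        σ.postcomp (SymTen.TS R (MvPolynomial (Fin n) R) d).val = SymTen.tpowLaw R (MvPolynomial (Fin n) R) d →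
        ∀ {κ : Type} [Fintype κ] (b : κ → MvPolynomial (Fin n) R) (ν : κ →₀ ℕ),
          (tsEquiv R d n (coeff σ.law b ν) : MvPolynomial (Fin d × Fin n) R) =
            polyPow R d n (coeff (SymTen.tpowLaw R (MvPolynomial (Fin n) R) d).law b ν) :=
      fun {R} _ σ hσ {κ} _ b ν => by
        rw [coe_tsEquiv, ← hσ]
        congr 1
        exact (coeff_postcomp (SymTen.TS R (MvPolynomial (Fin n) R) d).val.toLinearMap σ.law b ν).symm
    have hη : ∀ (j : Fin r) (k l : ℕ) (m : Fin k → (Fin n →₀ ℕ)) (m' : Fin l → (Fin n →₀ ℕ)) (ν : Fin k ⊕ Fin l →₀ ℕ),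
        η (tsEquiv A₀ d n (coeff τ₀.law
          (Sum.elim (fun i => MvPolynomial.monomial (m i) 1) fun i => f₀ j * MvPolynomial.monomial (m' i) 1) ν)) =
        coeff τ.law (Sum.elim (fun i => MvPolynomial.monomial (m i) 1) fun i => f j * MvPolynomial.monomial (m' i) 1) ν := by
      intro j k l m m' ν
      apply (tsEquiv A d n).injective
      refine Subtype.ext ?_
      simp only [η, RingHom.comp_apply, AlgHom.toRingHom_eq_coe, RingHom.coe_coe, AlgEquiv.coe_toAlgHom,
        AlgEquiv.apply_symm_apply, Algebra.TensorProduct.includeRight_apply]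
      rw [coe_invMap_tmul, map_one, one_mul, hcoe τ₀ hτ₀, hcoe τ hτ, map_polyPow_coeff]
      congr 3
      funext o
      rcases o with o | o <;> simp [hf₀]
    ext t
    simp only [Set.mem_image, G₀]
    constructor
    · rintro ⟨_, ⟨_, ⟨j, k, l, m, m', ν, hν, rfl⟩, rfl⟩, rfl⟩
      exact ⟨j, k, l, m, m', ν, hν, (hη j k l m m' ν).symm⟩
    · rintro ⟨j, k, l, m, m', ν, hν, rfl⟩
      exact ⟨_, ⟨_, ⟨j, k, l, m, m', ν, hν, rfl⟩, rfl⟩, hη j k l m m' ν⟩
  show (Ideal.span (relSet τ f)).FG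
  rw [← hrel, ← Ideal.map_span]
  exact Ideal.FG.map (IsNoetherian.noetherian _) η


theorem finitePresentation_of_isGammaD {B C : Type u} [CommRing B] [Algebra A B] [CommRing C] [Algebra A C]
    {γ : PolLaw.MulLaw A B C d} (hγ : PolLaw.IsGammaD γ) [Algebra.FinitePresentation A B] :
    Algebra.FinitePresentation A C := by
  classical
  obtain ⟨n, π, hπ, hker⟩ := Algebra.FinitePresentation.out (R := A) (A := B)
  obtain ⟨r, f, hf⟩ := Submodule.fg_iff_exists_fin_generating_family.1 hker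
  let A₀ := Algebra.adjoin ℤ ((Finset.univ.biUnion fun j => (f j).coeffs : Finset A) : Set A)
  have : IsNoetherianRing A₀ := by
    have : Algebra.FiniteType ℤ A₀ := (Subalgebra.fg_iff_finiteType _).1 (Subalgebra.fg_adjoin_finset _)
    exact Algebra.FiniteType.isNoetherianRing ℤ A₀
  have hlift : ∀ j, ∃ f₀ : MvPolynomial (Fin n) A₀, MvPolynomial.map (algebraMap A₀ A) f₀ = f j := fun j => by
    refine MvPolynomial.mem_range_map_iff_coeffs_subset.2 fun a ha => ?_
    exact ⟨⟨a, Algebra.subset_adjoin (Finset.mem_coe.2 (Finset.mem_biUnion.2 ⟨j, Finset.mem_univ _, ha⟩))⟩, rfl⟩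
  choose f₀ hf₀ using hlift
  obtain ⟨τ, hτ⟩ := exists_tsLaw A (MvPolynomial (Fin n) A) d
  obtain ⟨φ, hsurj, hkerφ⟩ := exists_presentation (d := d) hγ τ (isGammaD_tsLaw (Or.inl inferInstance) hτ) π hπ f hf
  have hTS := finitePresentation_TS (A := A) (d := d) (n := n) A₀
  exact Algebra.FinitePresentation.of_surjective (f := φ) hsurj (hkerφ ▸ fg_span_relSet A₀ τ hτ f f₀ hf₀)

end Groth.Agent.ZC
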