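import Mathlib
import Groth.Agent.ZC.Flat

/-!
# Symmetric tensors and filtered colimits
-/

open scoped TensorProduct

namespace Groth.Agent.ZC

universe u

variable {A : Type u} [CommRing A] {d : ℕ}

theorem tmap_eq_map {B C : Type u} [CommRing B] [Algebra A B] [CommRing C] [Algebra A C] (f : B →ₐ[A] C)
    (t : ⨂[A] _ : Fin d, B) : SymTen.tmap A d f t = PiTensorProduct.map (fun _ : Fin d => f.toLinearMap) t := by
  induction t using PiTensorProduct.induction_on with
  | smul_tprod r g => simp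
  | add x y hx hy => simp [hx, hy]

theorem tmap_tmap {B C D : Type u} [CommRing B] [Algebra A B] [CommRing C] [Algebra A C] [CommRing D] [Algebra A D]
    (g : C →ₐ[A] D) (f : B →ₐ[A] C) (t : ⨂[A] _ : Fin d, B) :
    SymTen.tmap A d g (SymTen.tmap A d f t) = SymTen.tmap A d (g.comp f) t := by
  induction t using PiTensorProduct.induction_on with
  | smul_tprod r x => simp
  | add x y hx hy => simp [hx, hy]

variable {B : Type u} [CommRing B] [Algebra A B]
  {ι : Type u} [Preorder ι] [IsDirected ι (fun i j => i ≤ j)] [Nonempty ι]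
  (Bi : ι → Type u) [∀ i, CommRing (Bi i)] [∀ i, Algebra A (Bi i)]
  (t : ∀ i j : ι, i ≤ j → (Bi i →ₐ[A] Bi j)) (φ : ∀ i : ι, Bi i →ₐ[A] B)
  (hcomp : ∀ (i j : ι) (h : i ≤ j), (φ j).comp (t i j h) = φ i)
  (hsurj : ∀ b : B, ∃ (i : ι) (x : Bi i), φ i x = b)
  (hzero : ∀ (i : ι) (x : Bi i), φ i x = 0 → ∃ (j : ι) (h : i ≤ j), t i j h x = 0)
  (htrans : ∀ (i j k : ι) (hij : i ≤ j) (hjk : j ≤ k), (t j k hjk).comp (t i j hij) = t i k (hij.trans hjk))

include hcomp hzero htrans in
/-- Finitely many elements vanishing in the limit vanish at one stage. -/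
theorem exists_stage_zero {α : Type u} (s : Finset α) (i : ι) (x : α → Bi i) (hx : ∀ a ∈ s, φ i (x a) = 0) :
    ∃ (j : ι) (h : i ≤ j), ∀ a ∈ s, t i j h (x a) = 0 := by
  classical
  have hc : ∀ a, ∃ j, ∀ (_ : a ∈ s), ∃ h : i ≤ j, t i j h (x a) = 0 := fun a => by
    by_cases ha : a ∈ s
    · obtain ⟨j, h, e⟩ := hzero i (x a) (hx a ha)
      exact ⟨j, fun _ => ⟨h, e⟩⟩
    · exact ⟨i, fun h => absurd h ha⟩
  choose j hj using hc
  obtain ⟨k, hk⟩ := Finset.exists_le (insert i (s.image j))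
  refine ⟨k, hk i (Finset.mem_insert_self _ _), fun a ha => ?_⟩
  obtain ⟨h, e⟩ := hj a ha
  have hjk := hk (j a) (Finset.mem_insert_of_mem (Finset.mem_image_of_mem _ ha))
  rw [← htrans i (j a) k h hjk, AlgHom.comp_apply, e, map_zero]

include hcomp hsurj hzero htrans in
/-- A tensor vanishing in the limit vanishes at a finite stage. -/
theorem exists_stage_tmap_eq_zero (i : ι) (z : ⨂[A] _ : Fin d, Bi i) (hz : SymTen.tmap A d (φ i) z = 0) :
    ∃ (j : ι) (h : i ≤ j), SymTen.tmap A d (t i j h) z = 0 := by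
  classical
  obtain ⟨n, x, a, rfl⟩ := exists_tsum z
  let G := (Σ j, Bi j) →₀ A
  let π : G →ₗ[A] B := Finsupp.linearCombination A (fun p : Σ j, Bi j => φ p.1 p.2)
  have hπ : Function.Surjective π := fun b => by
    obtain ⟨j, y, rfl⟩ := hsurj b
    exact ⟨Finsupp.single ⟨j, y⟩ 1, (Finsupp.linearCombination_single A (v := fun p : Σ j, Bi j => φ p.1 p.2) 1 ⟨j, y⟩).trans (one_smul _ _)⟩
  let e : Fin n → G := fun k => Finsupp.single ⟨i, x k⟩ 1
  obtain ⟨R, hR0, hR⟩ := exists_finset_of_map_eq_zero π hπ (z := tsum a e) (by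
    rw [map_tsum]
    rw [tmap_eq_map, map_tsum] at hz
    convert hz using 2
    funext k
    exact (Finsupp.linearCombination_single A (v := fun p : Σ j, Bi j => φ p.1 p.2) 1 ⟨i, x k⟩).trans (one_smul _ _))
  obtain ⟨j, hj⟩ := Finset.exists_le (insert i ((R.biUnion Finsupp.support).image Sigma.fst))
  have hij : i ≤ j := hj i (Finset.mem_insert_self _ _)
  let v : (Σ l, Bi l) → Bi j := fun p => if h : p.1 ≤ j then t p.1 j h p.2 else 0
  let u := Finsupp.linearCombination A v
  have hu : ∀ g ∈ R, φ j (u g) = 0 := fun g hg => by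
    rw [← hR0 g hg]
    simp only [u, π, Finsupp.linearCombination_apply, Finsupp.sum, map_sum, map_smul]
    refine Finset.sum_congr rfl fun p hp => ?_
    have hpj : p.1 ≤ j := hj _ (Finset.mem_insert_of_mem
      (Finset.mem_image_of_mem _ (Finset.mem_biUnion.2 ⟨g, hg, hp⟩)))
    simp only [v, hpj, dite_true]
    rw [← AlgHom.comp_apply, hcomp]
    rfl
  obtain ⟨k, hjk, hk⟩ := exists_stage_zero Bi t φ hcomp hzero htrans R j (fun g => u g) hu
  refine ⟨k, hij.trans hjk, ?_⟩
  have h := hR (Bi k) ((t j k hjk).toLinearMap ∘ₗ u) fun g hg => hk g hg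
  rw [map_tsum] at h
  rw [tmap_eq_map, map_tsum]
  convert h using 2
  funext l
  refine Eq.symm ?_
  show t j k hjk (Finsupp.linearCombination A v (Finsupp.single ⟨i, x l⟩ 1)) = t i k (hij.trans hjk) (x l)
  rw [Finsupp.linearCombination_single A (v := v) 1 ⟨i, x l⟩, one_smul, show v ⟨i, x l⟩ = t i j hij (x l) from dif_pos hij,
    ← AlgHom.comp_apply, htrans]

include hcomp hsurj hzero htrans in
theorem exists_stage_TS (z : SymTen.TS A B d) :
    ∃ (i : ι) (y : SymTen.TS A (Bi i) d), SymTen.TSmap A d (φ i) y = z := by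
  classical
  obtain ⟨n, b, a, hz⟩ := exists_tsum (z : ⨂[A] _ : Fin d, B)
  choose f x hx using fun k => hsurj (b k)
  obtain ⟨i, hi⟩ := Finset.exists_le (Finset.univ.image f)
  have hle : ∀ k, f k ≤ i := fun k => hi _ (Finset.mem_image_of_mem _ (Finset.mem_univ k))
  let w : ⨂[A] _ : Fin d, Bi i := tsum a (fun k => t (f k) i (hle k) (x k))
  have hw : SymTen.tmap A d (φ i) w = z := by
    rw [tmap_eq_map, map_tsum, hz]
    congr 1
    funext k
    rw [AlgHom.toLinearMap_apply, ← AlgHom.comp_apply, hcomp, hx]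
  have hσ : ∀ σ : Equiv.Perm (Fin d),
      SymTen.tmap A d (φ i) (PiTensorProduct.reindex A (fun _ : Fin d => Bi i) σ w - w) = 0 := fun σ => by
    rw [map_sub, SymTen.tmap_reindex, hw, z.2 σ, sub_self]
  choose j hij hj using fun σ => exists_stage_tmap_eq_zero Bi t φ hcomp hsurj hzero htrans i _ (hσ σ)
  obtain ⟨k, hk⟩ := Finset.exists_le (insert i (Finset.univ.image j))
  have hik : i ≤ k := hk i (Finset.mem_insert_self _ _)
  have hjk : ∀ σ, j σ ≤ k := fun σ => hk _ (Finset.mem_insert_of_mem (Finset.mem_image_of_mem _ (Finset.mem_univ σ)))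
  refine ⟨k, ⟨SymTen.tmap A d (t i k hik) w, fun σ => ?_⟩, Subtype.ext ?_⟩
  · rw [← SymTen.tmap_reindex, ← sub_eq_zero, ← map_sub, ← htrans i (j σ) k (hij σ) (hjk σ), ← tmap_tmap, hj,
      map_zero]
  · show SymTen.tmap A d (φ k) (SymTen.tmap A d (t i k hik) w) = z
    rw [tmap_tmap, hcomp, hw]

end Groth.Agent.ZC
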