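import Mathlib
import Groth.Agent.ZC.Symm
import Groth.Agent.UnivHomeo.Basic

/-!
# Symmetric products and divided powers have the same points and residue fields
-/

open scoped TensorProduct

namespace Groth.Agent.ZC

universe u

variable {A : Type u} [CommRing A] {B C : Type u} [CommRing B] [Algebra A B] [CommRing C] [Algebra A C] {d : ℕ}

theorem exists_prime_over_TS (P : Ideal (SymTen.TS A B d)) [P.IsPrime] :
    ∃ Q : Ideal (⨂[A] _ : Fin d, B), Q.IsPrime ∧ Q.comap (SymTen.TS A B d).val = P := by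
  classical
  let T := ⨂[A] _ : Fin d, B
  have : Algebra.IsIntegral (SymTen.TS A B d) T := ⟨fun t => by
    let p : Polynomial T := ∏ σ : Equiv.Perm (Fin d), (Polynomial.X - Polynomial.C (SymTen.perm A B d σ t))
    have hm : p.Monic := Polynomial.monic_prod_of_monic _ _ fun σ _ => Polynomial.monic_X_sub_C _
    have hfix : ∀ τ : Equiv.Perm (Fin d), p.map (SymTen.perm A B d τ).toRingHom = p := fun τ => by
      rw [Polynomial.map_prod]
      refine Fintype.prod_equiv (Equiv.mulLeft τ) _ _ fun σ => ?_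
      rw [Polynomial.map_sub, Polynomial.map_X, Polynomial.map_C]
      congr 2
      show SymTen.perm A B d τ (SymTen.perm A B d σ t) = _
      rw [← AlgHom.comp_apply, perm_comp]
      rfl
    rcases subsingleton_or_nontrivial T with hT | hT
    · exact ⟨Polynomial.X, Polynomial.monic_X, Subsingleton.elim _ _⟩
    have hl : p ∈ Polynomial.lifts (algebraMap (SymTen.TS A B d) T) := (Polynomial.lifts_iff_coeff_lifts _).2 fun k =>
      ⟨⟨p.coeff k, fun τ => by
        rw [← SymTen.perm_apply]
        conv_rhs => rw [← hfix τ, Polynomial.coeff_map]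
        rfl⟩, rfl⟩
    obtain ⟨p₀, h1, -, h2⟩ := Polynomial.lifts_and_degree_eq_and_monic hl hm
    refine ⟨p₀, h2, ?_⟩
    rw [Polynomial.eval₂_eq_eval_map, h1, Polynomial.eval_prod, Finset.prod_eq_zero (Finset.mem_univ 1)]
    rw [Polynomial.eval_sub, Polynomial.eval_X, Polynomial.eval_C, sub_eq_zero]
    have h1' : SymTen.perm A B d 1 = AlgHom.id A T :=
      AlgHom.toLinearMap_injective (PiTensorProduct.ext (MultilinearMap.ext fun f => by simp [T]; rfl))
    rw [h1']; rfl⟩
  obtain ⟨Q, -, hQ, hQP⟩ := Ideal.exists_ideal_over_prime_of_isIntegral P (⊥ : Ideal T) (by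
    rw [← RingHom.ker_eq_comap_bot, (RingHom.injective_iff_ker_eq_bot _).1
      (Subtype.val_injective : Function.Injective (algebraMap (SymTen.TS A B d) T))]
    exact bot_le)
  exact ⟨Q, hQ, hQP⟩

section Eval

variable {K E : Type u} [Field K] [Field E] [Algebra A K] [Algebra A E] [Algebra K E] [IsScalarTower A K E]
  (η : (⨂[A] _ : Fin d, B) →ₐ[A] E)

/-- The base change map on tensor powers. -/
noncomputable def bcPi : (⨂[A] _ : Fin d, B) →ₗ[A] ⨂[K] _ : Fin d, (K ⊗[A] B) :=
  PiTensorProduct.lift (((PiTensorProduct.tprod K).restrictScalars A).compLinearMap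
    fun _ => (Algebra.TensorProduct.includeRight : B →ₐ[A] K ⊗[A] B).toLinearMap)

theorem bcPi_tprod (f : Fin d → B) :
    bcPi (K := K) (PiTensorProduct.tprod A f) = PiTensorProduct.tprod K (fun j => (1 : K) ⊗ₜ[A] f j) := by
  simp [bcPi]

theorem bcPi_reindex (σ : Equiv.Perm (Fin d)) (t : ⨂[A] _ : Fin d, B) :
    bcPi (K := K) (PiTensorProduct.reindex A (fun _ : Fin d => B) σ t) =
      PiTensorProduct.reindex K (fun _ : Fin d => K ⊗[A] B) σ (bcPi (K := K) t) := by
  induction t using PiTensorProduct.induction_on with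
  | smul_tprod r f =>
    simp only [map_smul, PiTensorProduct.reindex_tprod, bcPi_tprod]
    rw [← algebraMap_smul K r, ← algebraMap_smul K r, map_smul, PiTensorProduct.reindex_tprod]
  | add x y hx hy => simp only [map_add, hx, hy]

/-- Evaluation at a point of the base changed tensor power. -/
noncomputable def evPt : (⨂[K] _ : Fin d, (K ⊗[A] B)) →ₗ[K] E :=
  PiTensorProduct.lift ((MultilinearMap.mkPiAlgebra K (Fin d) E).compLinearMap fun j =>
    (Algebra.TensorProduct.lift (Algebra.ofId K E)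
      (η.comp (PiTensorProduct.singleAlgHom (A := fun _ : Fin d => B) j)) fun _ _ => Commute.all _ _).toLinearMap)

theorem evPt_bcPi (t : ⨂[A] _ : Fin d, B) : evPt η (bcPi (K := K) t) = η t := by
  induction t using PiTensorProduct.induction_on with
  | smul_tprod r f =>
    rw [map_smul (bcPi (K := K)), map_smul η, bcPi_tprod]
    rw [← algebraMap_smul K r, map_smul, algebraMap_smul]
    congr 1
    simp only [evPt, PiTensorProduct.lift.tprod, MultilinearMap.compLinearMap_apply, MultilinearMap.mkPiAlgebra_apply,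
      AlgHom.toLinearMap_apply, Algebra.TensorProduct.lift_tmul, map_one, one_mul, AlgHom.comp_apply]
    rw [← map_prod]
    congr 1
    simp only [PiTensorProduct.singleAlgHom_apply, MonoidHom.mulSingle_apply]
    rw [← PiTensorProduct.tprod_prod]
    exact congrArg _ (Finset.univ_prod_mulSingle f)
  | add x y hx hy => simp only [map_add, hx, hy]

theorem mem_range_of_symmetric (hη : ∀ (n : ℕ) (b : Fin n → B) (ν : Fin n →₀ ℕ),
      η (coeff (SymTen.tpowLaw A B d).law b ν) ∈ Set.range (algebraMap K E))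
    (t : ⨂[A] _ : Fin d, B) (ht : t ∈ SymTen.TS A B d) : η t ∈ Set.range (algebraMap K E) := by
  classical
  have hmem : bcPi (K := K) t ∈ SymTen.TS K (K ⊗[A] B) d := fun σ => by rw [← bcPi_reindex, ht σ]
  have hspan : bcPi (K := K) t ∈ coeffSpan (SymTen.tpowLaw K (K ⊗[A] B) d).law := by
    rw [coeffSpan_tpow_eq (Or.inl inferInstance)]; exact hmem
  let S : Submodule K (⨂[K] _ : Fin d, (K ⊗[A] B)) :=
    (LinearMap.range (Algebra.linearMap K E)).comap (evPt η)
  have hle : coeffSpan (SymTen.tpowLaw K (K ⊗[A] B) d).law ≤ S := by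
    refine Submodule.span_le.2 ?_
    rintro _ ⟨n, v, ν, rfl⟩
    choose m s g hg using fun i => exists_sum (v i)
    let e := Fintype.equivFin (Σ i, Fin (m i))
    let G : Fin (Fintype.card (Σ i, Fin (m i))) → B := fun k => g (e.symm k).1 (e.symm k).2
    have hv : v = fun i => ∑ k, (if h : (e.symm k).1 = i then s i (h ▸ (e.symm k).2) else 0) • ((1 : K) ⊗ₜ[A] G k) := by
      funext i
      rw [hg i, ← Equiv.sum_comp e, Fintype.sum_sigma, Finset.sum_eq_single i]
      · refine Finset.sum_congr rfl fun j _ => ?_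
        have he := e.symm_apply_apply ⟨i, j⟩
        simp only [G]
        rw [show (if h : (e.symm (e ⟨i, j⟩)).1 = i then s i (h ▸ (e.symm (e ⟨i, j⟩)).2) else 0) = s i j by
          rw [he]; simp]
        rw [congrArg (fun x : Σ i, Fin (m i) => g x.1 x.2) he, TensorProduct.smul_tmul', smul_eq_mul, mul_one]
      · intro i' _ hne
        refine Finset.sum_eq_zero fun j _ => ?_
        rw [dif_neg (by rw [e.symm_apply_apply]; exact hne), zero_smul]
      · simp
    rw [SetLike.mem_coe, hv, ← app_lmon, app_subst, app_eq_sum]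
    refine Submodule.sum_mem _ fun μ _ => Submodule.smul_mem _ _ ?_
    show evPt η (coeff (SymTen.tpowLaw K (K ⊗[A] B) d).law (fun k => (1 : K) ⊗ₜ[A] G k) μ) ∈ LinearMap.range _
    rw [show coeff (SymTen.tpowLaw K (K ⊗[A] B) d).law (fun k => (1 : K) ⊗ₜ[A] G k) μ =
        bcPi (K := K) (coeff (SymTen.tpowLaw A B d).law G μ) by
      rw [coeff_tpow, coeff_tpow, map_sum]
      refine Finset.sum_congr rfl fun c _ => ?_
      split_ifs <;> simp [bcPi_tprod], evPt_bcPi]
    obtain ⟨k, hk⟩ := hη _ G μ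
    exact ⟨k, hk⟩
  obtain ⟨k, hk⟩ := hle hspan
  exact ⟨k, by rw [← evPt_bcPi (K := K) η t]; exact hk⟩

end Eval

/-- Residue fields of the symmetric product are those of the divided powers. -/
theorem exists_mul_sub_mem (γ : PolLaw.MulLaw A B C d) (φ : C →ₐ[A] SymTen.TS A B d)
    (hφ : PolLaw.postcomp ((SymTen.TS A B d).val.comp φ).toLinearMap γ.law = (SymTen.tpowLaw A B d).law)
    (P : Ideal (SymTen.TS A B d)) [P.IsPrime] (t : SymTen.TS A B d) :
    ∃ c s : C, φ s ∉ P ∧ φ s * t - φ c ∈ P := by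
  obtain ⟨Q, hQ, hQP⟩ := exists_prime_over_TS P
  let p : Ideal C := P.comap φ
  have hp : p = Q.comap ((SymTen.TS A B d).val.comp φ).toRingHom := by
    show P.comap φ = _
    rw [← hQP]
    rfl
  let ι : p.ResidueField →ₐ[A] Q.ResidueField := Ideal.ResidueField.mapₐ p Q _ hp
  let : Algebra p.ResidueField Q.ResidueField := ι.toRingHom.toAlgebra
  have : IsScalarTower A p.ResidueField Q.ResidueField :=
    IsScalarTower.of_algebraMap_eq fun a => (ι.commutes a).symm
  let η : (⨂[A] _ : Fin d, B) →ₐ[A] Q.ResidueField := IsScalarTower.toAlgHom A _ _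
  have hι : ∀ c : C, ι (algebraMap C p.ResidueField c) = η ((SymTen.TS A B d).val (φ c)) := fun c =>
    Ideal.ResidueField.map_algebraMap p Q _ hp c
  obtain ⟨k, hk⟩ := mem_range_of_symmetric (K := p.ResidueField) η (fun n b ν => by
    rw [← app_lmon, ← val_coeff hφ, ← hι]
    exact ⟨_, rfl⟩) t t.2
  obtain ⟨c', s', hs', e⟩ := IsFractionRing.div_surjective (A := C ⧸ p) k
  obtain ⟨c, rfl⟩ := Ideal.Quotient.mk_surjective c'
  obtain ⟨s, rfl⟩ := Ideal.Quotient.mk_surjective s'
  have hs : φ s ∉ P := fun h => nonZeroDivisors.ne_zero hs' (Ideal.Quotient.eq_zero_iff_mem.2 h)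
  refine ⟨c, s, hs, ?_⟩
  rw [← hQP, Ideal.mem_comap, ← Ideal.algebraMap_residueField_eq_zero (I := Q)]
  show η ((SymTen.TS A B d).val (φ s * t - φ c)) = 0
  rw [map_sub, map_sub, map_mul, map_mul, ← hι, ← hι, sub_eq_zero]
  show ι _ * η t.1 = ι _
  rw [← hk, ← e]
  show ι _ * ι _ = ι _
  rw [← map_mul]
  congr 1
  simp only [Ideal.algebraMap_quotient_residueField_mk]
  refine mul_div_cancel₀ _ ?_
  exact fun h => hs (Ideal.algebraMap_residueField_eq_zero.1 h : s ∈ p)

open CategoryTheory AlgebraicGeometry in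
theorem isUnivHomeo_and_surjective (γ : PolLaw.MulLaw A B C d) (φ : C →ₐ[A] SymTen.TS A B d)
    (hφ : PolLaw.postcomp ((SymTen.TS A B d).val.comp φ).toLinearMap γ.law = (SymTen.tpowLaw A B d).law)
    (hker : ∀ x : C, φ x = 0 → x ^ d.factorial = 0) (hpow : ∀ y : SymTen.TS A B d, y ^ d.factorial ∈ φ.range) :
    FlatMor.IsUnivHomeo (Spec.map (CommRingCat.ofHom φ.toRingHom)) ∧
      ∀ x : ↥(Spec (CommRingCat.of (SymTen.TS A B d))),
        Function.Surjective ((Spec.map (CommRingCat.ofHom φ.toRingHom)).residueFieldMap x).hom := by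
  set f := Spec.map (CommRingCat.ofHom φ.toRingHom) with hf
  have hres : ∀ x : ↥(Spec (CommRingCat.of (SymTen.TS A B d))), Function.Surjective (f.residueFieldMap x).hom := by
    intro x z
    have hev : ∀ b, ∃ w, (f.residueFieldMap x).hom w = UnivHomeo.ev x b := fun b => by
      obtain ⟨c, s, hs, h⟩ := exists_mul_sub_mem γ φ hφ x.asIdeal b
      refine ⟨UnivHomeo.ev (f x) c / UnivHomeo.ev (f x) s, ?_⟩
      have h0 := (UnivHomeo.ev_eq_zero x _).2 h
      rw [map_sub, map_mul, sub_eq_zero] at h0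
      have hs0 : UnivHomeo.ev x (φ s) ≠ 0 := fun h' => hs ((UnivHomeo.ev_eq_zero x _).1 h')
      rw [map_div₀]
      exact (congrArg₂ (· / ·) (UnivHomeo.residueFieldMap_ev φ.toRingHom x c)
        (UnivHomeo.residueFieldMap_ev φ.toRingHom x s)).trans ((div_eq_iff hs0).2 (by rw [mul_comm]; exact h0.symm))
    obtain ⟨b, s, -, rfl⟩ := UnivHomeo.exists_div_ev x z
    obtain ⟨w₁, h₁⟩ := hev b
    obtain ⟨w₂, h₂⟩ := hev s
    exact ⟨w₁ / w₂, by rw [map_div₀, h₁, h₂]⟩
  refine ⟨?_, hres⟩
  have hhom : IsHomeomorph (PrimeSpectrum.comap φ.toRingHom) := PrimeSpectrum.isHomeomorph_comap _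
    (fun y => ⟨d.factorial, Nat.factorial_pos d, hpow y⟩) fun x hx => ⟨d.factorial, hker x hx⟩
  have : UniversallyInjective f := by
    refine (((tfae_universallyInjective f).out 0 2 :
      UniversallyInjective f ↔ Function.Injective f ∧ ∀ x, (f.residueFieldMap x).hom.IsPurelyInseparable)).mpr
      ⟨hhom.injective, fun x => ?_⟩
    let := (f.residueFieldMap x).hom.toAlgebra
    show IsPurelyInseparable ((Spec (CommRingCat.of C)).residueField (f x)) ((Spec (CommRingCat.of (SymTen.TS A B d))).residueField x)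
    refine (isPurelyInseparable_iff_pow_mem _ (ringExpChar ((Spec (CommRingCat.of C)).residueField (f x)))).mpr fun y => ⟨0, ?_⟩
    obtain ⟨w, hw⟩ := hres x y
    exact ⟨w, by rw [pow_zero, pow_one]; exact hw⟩
  have : Surjective f := ⟨hhom.surjective⟩
  have : IsIntegralHom f := by
    rw [IsIntegralHom.SpecMap_iff]
    intro y
    obtain ⟨c, hc⟩ := hpow y
    let := φ.toRingHom.toAlgebra
    refine IsIntegral.of_pow (Nat.factorial_pos d) ?_
    rw [← hc]
    exact isIntegral_algebraMap (R := C) (A := SymTen.TS A B d) (x := c)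
  exact UnivHomeo.of_isIntegralHom f

end Groth.Agent.ZC
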